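import Mathlib
import Groth.Agent.BlowCompLib.Strict
import Groth.Agent.BlowProdLib.Basic
import Groth.Agent.S1571
import Groth.Prelude.Def_W4c6modpairsegaMP

/-!
Locally principal and effective Cartier ideal sheaves: residual divisors, cancellation, interiors,
and the consequences of scheme-theoretic density of interiors.
-/

set_option autoImplicit false
set_option backward.isDefEq.respectTransparency false
set_option backward.isDefEq.respectTransparency.types false
set_option backward.defeqAttrib.useBackward true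
set_option linter.style.haveILetI false
set_option maxHeartbeats 800000

universe u

open CategoryTheory CategoryTheory.Limits AlgebraicGeometry

namespace Groth.Agent.ModPairLib

variable {X Y Z : Scheme.{u}}

/-- Locally generated by one element on an affine neighbourhood. -/
def IsLP (I : X.IdealSheafData) : Prop :=
  ∀ x : X, ∃ V : X.affineOpens, x ∈ V.1 ∧ ∃ a, I.ideal V = Ideal.span {a}

theorem isLP_of_cart {I : X.IdealSheafData} (h : BlowUp.IsEffCartierIdeal I) : IsLP I := fun x => by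
  obtain ⟨V, hx, a, -, ha⟩ := h x
  exact ⟨V, hx, a, ha⟩

theorem IsLP.comap {I : Y.IdealSheafData} (h : IsLP I) (f : X ⟶ Y) : IsLP (I.comap f) := fun x => by
  obtain ⟨U, hU, a, ha⟩ := h (f x)
  obtain ⟨V, hx, e⟩ := BlowCompLib.exists_affine_le f x hU
  exact ⟨V, hx, _, BlowCompLib.ideal_comap_span I f ha V e⟩

theorem le_of_local {I J : X.IdealSheafData}
    (h : ∀ x : X, ∃ V : X.affineOpens, x ∈ V.1 ∧ I.ideal V ≤ J.ideal V) : I ≤ J := by
  choose V hx hV using h
  exact Scheme.IdealSheafData.le_of_iSup_eq_top V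
    (top_le_iff.1 fun x _ => TopologicalSpace.Opens.mem_iSup.2 ⟨x, hx x⟩) hV

theorem eq_of_local {I J : X.IdealSheafData}
    (h : ∀ x : X, ∃ V : X.affineOpens, x ∈ V.1 ∧ I.ideal V = J.ideal V) : I = J :=
  le_antisymm (le_of_local fun x => (h x).imp fun _ hV => ⟨hV.1, hV.2.le⟩)
    (le_of_local fun x => (h x).imp fun _ hV => ⟨hV.1, hV.2.ge⟩)

theorem ideal_basicOpen_span (I : X.IdealSheafData) {U W : X.affineOpens} (h : W.1 ≤ U.1) {a : Γ(X, U.1)}
    (ha : I.ideal U = Ideal.span {a}) :
    I.ideal W = Ideal.span {(X.presheaf.map (homOfLE h).op).hom a} := by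
  rw [← I.map_ideal (U := W) (V := U) h, ha, Ideal.map_span, Set.image_singleton]
  rfl

/-- A common chart of an effective Cartier and a locally principal ideal. -/
theorem exists_chart {D E : X.IdealSheafData} (hD : BlowUp.IsEffCartierIdeal D) (hE : IsLP E) (x : X) :
    ∃ V : X.affineOpens, x ∈ V.1 ∧ (∃ c ∈ nonZeroDivisors Γ(X, V.1), D.ideal V = Ideal.span {c}) ∧
      ∃ a, E.ideal V = Ideal.span {a} := by
  obtain ⟨U₁, hx₁, c, hc, hcD⟩ := hD x
  obtain ⟨U₂, hx₂, a, ha⟩ := hE x
  obtain ⟨t, ht, hxt⟩ := U₁.2.exists_basicOpen_le (V := U₁.1 ⊓ U₂.1) ⟨x, hx₁, hx₂⟩ hx₁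
  obtain ⟨c', hc', hcD'⟩ := RelDivLib.generator_res D U₁ t hc hcD
  exact ⟨X.affineBasicOpen (U := U₁) t, hxt, ⟨c', hc', hcD'⟩, _,
    ideal_basicOpen_span E (U := U₂) (ht.trans inf_le_right) ha⟩

theorem IsLP.mul {I J : X.IdealSheafData} (hI : IsLP I) (hJ : IsLP J) : IsLP (I * J) := fun x => by
  obtain ⟨U₁, hx₁, a, ha⟩ := hI x
  obtain ⟨U₂, hx₂, b, hb⟩ := hJ x
  obtain ⟨t, ht, hxt⟩ := U₁.2.exists_basicOpen_le (V := U₁.1 ⊓ U₂.1) ⟨x, hx₁, hx₂⟩ hx₁
  have h1 := ideal_basicOpen_span I (U := U₁) (W := X.affineBasicOpen (U := U₁) t) (ht.trans inf_le_left) ha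
  have h2 := ideal_basicOpen_span J (U := U₂) (W := X.affineBasicOpen (U := U₁) t) (ht.trans inf_le_right) hb
  exact ⟨X.affineBasicOpen (U := U₁) t, hxt, (X.presheaf.map (homOfLE (ht.trans inf_le_left)).op).hom a *
      (X.presheaf.map (homOfLE (ht.trans inf_le_right)).op).hom b, by
    rw [Scheme.IdealSheafData.ideal_mul, Pi.mul_apply]
    exact (congrArg₂ (· * ·) h1 h2).trans (Ideal.span_singleton_mul_span_singleton _ _)⟩

/-- A locally principal ideal containing an effective Cartier one is effective Cartier. -/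
theorem cart_of_le {D E : X.IdealSheafData} (hD : BlowUp.IsEffCartierIdeal D) (hE : IsLP E) (h : D ≤ E) :
    BlowUp.IsEffCartierIdeal E := fun x => by
  obtain ⟨V, hx, ⟨c, hc, hcD⟩, a, ha⟩ := exists_chart hD hE x
  obtain ⟨b, hb⟩ := Ideal.mem_span_singleton'.1 ((ha ▸ h V) (hcD ▸ Ideal.mem_span_singleton_self c))
  exact ⟨V, hx, a, (mul_mem_nonZeroDivisors.1 (hb ▸ hc)).2, ha⟩

/-- Multiplication by an effective Cartier ideal reflects inclusions. -/
theorem le_of_mul_le_mul {A B D : X.IdealSheafData} (hD : BlowUp.IsEffCartierIdeal D) (h : A * D ≤ B * D) :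
    A ≤ B := le_of_local fun x => by
  obtain ⟨V, hx, c, hc, hcD⟩ := hD x
  refine ⟨V, hx, fun a ha => ?_⟩
  have h2 := h V
  rw [Scheme.IdealSheafData.ideal_mul, Scheme.IdealSheafData.ideal_mul, Pi.mul_apply, Pi.mul_apply, hcD] at h2
  obtain ⟨z, hz, hzc⟩ := Ideal.mem_mul_span_singleton.1 (h2 (Ideal.mul_mem_mul ha (Ideal.mem_span_singleton_self c)))
  rwa [← (mul_cancel_right_mem_nonZeroDivisors hc).1 hzc]

theorem mul_right_cancel' {A B D : X.IdealSheafData} (hD : BlowUp.IsEffCartierIdeal D) (h : A * D = B * D) :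
    A = B := le_antisymm (le_of_mul_le_mul hD h.le) (le_of_mul_le_mul hD h.ge)

theorem fg_of_isLP {I : X.IdealSheafData} (hI : IsLP I) : BlowUp.IsFiniteTypeIdeal I := fun V => by
  have key : ∀ x : V.1, ∃ r : Γ(X, V.1), x.1 ∈ X.basicOpen r ∧
      (I.ideal (X.affineBasicOpen (U := V) r)).FG := fun x => by
    obtain ⟨U, hxU, a, ha⟩ := hI x.1
    obtain ⟨r, hr, hxr⟩ := V.2.exists_basicOpen_le (V := V.1 ⊓ U.1) ⟨x.1, x.2, hxU⟩ x.2
    exact ⟨r, hxr, by rw [ideal_basicOpen_span I (U := U) (hr.trans inf_le_right) ha]; exact Submodule.fg_span_singleton _⟩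
  choose r hxr hr using key
  refine Ideal.fg_of_localizationSpan (Set.range r) ?_ ?_
  · rw [← V.2.self_le_iSup_basicOpen_iff]
    exact fun x hxV => TopologicalSpace.Opens.mem_iSup.2 ⟨⟨_, ⟨x, hxV⟩, rfl⟩, hxr ⟨x, hxV⟩⟩
  · rintro ⟨_, x, rfl⟩
    letI : Algebra Γ(X, V.1) Γ(X, X.basicOpen (r x)) := (X.presheaf.map (homOfLE (X.basicOpen_le (r x))).op).hom.toAlgebra
    haveI : IsLocalization.Away (r x) Γ(X, X.basicOpen (r x)) := V.2.isLocalization_basicOpen (r x)
    let e := IsLocalization.algEquiv (Submonoid.powers (r x)) Γ(X, X.basicOpen (r x)) (Localization.Away (r x))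
    rw [show algebraMap Γ(X, V.1) (Localization.Away (r x)) =
      e.toAlgHom.toRingHom.comp (algebraMap Γ(X, V.1) Γ(X, X.basicOpen (r x))) from (AlgHom.comp_algebraMap e.toAlgHom).symm,
      ← Ideal.map_map, show algebraMap Γ(X, V.1) Γ(X, X.basicOpen (r x)) =
        (X.presheaf.map (homOfLE (X.basicOpen_le (r x))).op).hom from rfl, I.map_ideal_basicOpen V (r x)]
    exact (hr x).map _

/-- The residual ideal `(D : E)`. -/
noncomputable def residual (D E : X.IdealSheafData) (hE : BlowUp.IsFiniteTypeIdeal E) : X.IdealSheafData where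
  ideal V := (D.ideal V).colon (E.ideal V : Set Γ(X, V.1))
  map_ideal_basicOpen V f := by
    let ρ := (X.presheaf.map (homOfLE (X.basicOpen_le f)).op).hom
    letI : Algebra Γ(X, V.1) Γ(X, X.basicOpen f) := ρ.toAlgebra
    haveI : IsLocalization.Away f Γ(X, X.basicOpen f) := V.2.isLocalization_basicOpen f
    rw [← E.map_ideal_basicOpen V f, ← D.map_ideal_basicOpen V f]
    show ((D.ideal V).colon (E.ideal V : Set Γ(X, V.1))).map (algebraMap Γ(X, V.1) Γ(X, X.basicOpen f)) =
      ((D.ideal V).map (algebraMap Γ(X, V.1) Γ(X, X.basicOpen f))).colon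
        ((E.ideal V).map (algebraMap Γ(X, V.1) Γ(X, X.basicOpen f)) : Set Γ(X, X.basicOpen f))
    refine le_antisymm ?_ fun y hy => ?_
    · rw [Ideal.map_le_iff_le_comap]
      intro z hz
      rw [Ideal.mem_comap, Submodule.mem_colon]
      intro w hw
      have h1 : (E.ideal V).map (algebraMap Γ(X, V.1) Γ(X, X.basicOpen f)) * Ideal.span {algebraMap _ _ z} ≤
          (D.ideal V).map (algebraMap Γ(X, V.1) Γ(X, X.basicOpen f)) := by
        rw [← Set.image_singleton, ← Ideal.map_span, ← Ideal.map_mul]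
        refine Ideal.map_mono (Ideal.mul_le.2 fun e he s hs => ?_)
        obtain ⟨q, rfl⟩ := Ideal.mem_span_singleton'.1 hs
        rw [show e * (q * z) = q * (z • e) by rw [smul_eq_mul]; ring]
        exact Ideal.mul_mem_left _ q (Submodule.mem_colon.1 hz e he)
      rw [smul_eq_mul, mul_comm]
      exact h1 (Ideal.mul_mem_mul hw (Ideal.mem_span_singleton_self _))
    · obtain ⟨⟨z, ⟨_, n, rfl⟩⟩, hzy⟩ := IsLocalization.surj (Submonoid.powers f) y
      obtain ⟨s, hs⟩ := hE V
      have key : ∀ e ∈ s, ∃ m : ℕ, f ^ m * (z * e) ∈ D.ideal V := fun e he => by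
        have h1 : algebraMap Γ(X, V.1) Γ(X, X.basicOpen f) (z * e) ∈
            (D.ideal V).map (algebraMap Γ(X, V.1) Γ(X, X.basicOpen f)) := by
          have hzy' : y * algebraMap Γ(X, V.1) Γ(X, X.basicOpen f) (f ^ n) = algebraMap _ _ z := hzy
          rw [map_mul, ← hzy', mul_right_comm]
          exact Ideal.mul_mem_right _ _ (Submodule.mem_colon.1 hy _ (Ideal.mem_map_of_mem _ (hs ▸ Ideal.subset_span he)))
        obtain ⟨_, ⟨m, rfl⟩, hm⟩ := (IsLocalization.algebraMap_mem_map_algebraMap_iff (Submonoid.powers f) _ _ _).1 h1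
        exact ⟨m, hm⟩
      choose! m hm using key
      have h2 : f ^ s.sup m * z ∈ (D.ideal V).colon (E.ideal V : Set Γ(X, V.1)) := by
        rw [← hs, Submodule.colon_span, Submodule.mem_colon]
        intro e he
        rw [smul_eq_mul, show f ^ s.sup m * z * e = f ^ (s.sup m - m e) * (f ^ m e * (z * e)) by
          rw [← mul_assoc (f ^ (s.sup m - m e)), ← pow_add, Nat.sub_add_cancel (Finset.le_sup he), mul_assoc]]
        exact Ideal.mul_mem_left _ _ (hm e he)
      have hu : ∀ k, IsUnit (algebraMap Γ(X, V.1) Γ(X, X.basicOpen f) (f ^ k)) := fun k => by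
        rw [map_pow]
        exact (IsLocalization.Away.algebraMap_isUnit f).pow k
      have h3 := Ideal.mem_map_of_mem (algebraMap Γ(X, V.1) Γ(X, X.basicOpen f)) h2
      rw [map_mul, (Ideal.unit_mul_mem_iff_mem _ (hu _)), ← hzy, Ideal.mul_unit_mem_iff_mem _ (hu n)] at h3
      exact h3

theorem residual_mul_eq {D E : X.IdealSheafData} (hD : BlowUp.IsEffCartierIdeal D) (hE : IsLP E) (h : D ≤ E) :
    residual D E (fg_of_isLP hE) * E = D := eq_of_local fun x => by
  obtain ⟨V, hx, ⟨c, hc, hcD⟩, a, ha⟩ := exists_chart hD hE x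
  refine ⟨V, hx, ?_⟩
  obtain ⟨b, hb⟩ := Ideal.mem_span_singleton'.1 ((ha ▸ h V) (hcD ▸ Ideal.mem_span_singleton_self c))
  have ha' : a ∈ nonZeroDivisors Γ(X, V.1) := by
    have h1 : b * a ∈ nonZeroDivisors Γ(X, V.1) := by rw [hb]; exact hc
    exact (mul_mem_nonZeroDivisors.1 h1).2
  have hr : (residual D E (fg_of_isLP hE)).ideal V = Ideal.span {b} := by
    show (D.ideal V).colon (E.ideal V : Set Γ(X, V.1)) = _
    rw [hcD, ha, Ideal.colon_span]
    ext z
    rw [Submodule.mem_colon_singleton, smul_eq_mul, Ideal.mem_span_singleton', Ideal.mem_span_singleton', ← hb]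
    constructor
    · rintro ⟨q, hq⟩
      exact ⟨q, (mul_cancel_right_mem_nonZeroDivisors ha').1 ((mul_assoc q b a).trans hq)⟩
    · rintro ⟨q, rfl⟩
      exact ⟨q, (mul_assoc q b a).symm⟩
  rw [Scheme.IdealSheafData.ideal_mul, Pi.mul_apply, hr, ha, Ideal.span_singleton_mul_span_singleton, hb, hcD]

/-- An effective Cartier divisor minus a smaller locally principal one. -/
theorem exists_residual {D E : X.IdealSheafData} (hD : BlowUp.IsEffCartierIdeal D) (hE : IsLP E) (h : D ≤ E) :
    ∃ R : X.IdealSheafData, BlowUp.IsEffCartierIdeal R ∧ R * E = D :=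
  ⟨_, BlowCompLib.isEffCartier_of_mul (B := E) (by rw [residual_mul_eq hD hE h]; exact hD), residual_mul_eq hD hE h⟩

/-! ### Interiors -/

theorem mem_interior {I : X.IdealSheafData} {x : X} : x ∈ ModPair.interior I ↔ x ∉ I.support := Iff.rfl

theorem interior_comap (I : Y.IdealSheafData) (f : X ⟶ Y) :
    ModPair.interior (I.comap f) = f ⁻¹ᵁ ModPair.interior I := by
  ext x
  show x ∉ (I.comap f).support ↔ f x ∉ I.support
  rw [Scheme.IdealSheafData.support_comap]
  rfl

theorem interior_mono {I J : X.IdealSheafData} (h : I ≤ J) : ModPair.interior I ≤ ModPair.interior J :=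
  fun _ hx hJ => hx (Scheme.IdealSheafData.support_antitone h hJ)

theorem interior_le_of_ambient {I : X.IdealSheafData} {J : Y.IdealSheafData} {f : X ⟶ Y}
    (h : ModPair.IsAmbient I J f) : ModPair.interior I ≤ f ⁻¹ᵁ ModPair.interior J := by
  rw [← interior_comap]
  exact interior_mono h

theorem interior_eq_of_minimal {I : X.IdealSheafData} {J : Y.IdealSheafData} {f : X ⟶ Y}
    (h : ModPair.IsMinimal I J f) : ModPair.interior I = f ⁻¹ᵁ ModPair.interior J := by
  rw [show I = J.comap f from h, interior_comap]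

theorem interior_mul (I J : X.IdealSheafData) :
    ModPair.interior (I * J) = ModPair.interior I ⊓ ModPair.interior J := by
  ext x
  show x ∉ (I * J).support ↔ x ∉ I.support ∧ x ∉ J.support
  rw [Scheme.IdealSheafData.support_mul, ← not_or]
  rfl

theorem isAffineHom_interior {I : X.IdealSheafData} (hI : IsLP I) : IsAffineHom (ModPair.interior I).ι :=
  BlowCompLib.isAffineHom_compl I hI

theorem dominant_interior {I : X.IdealSheafData} (hI : BlowUp.IsEffCartierIdeal I) :
    IsSchemeTheoreticallyDominant (ModPair.interior I).ι := (S1571.result X I hI).2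

theorem comap_interior_ι (I : X.IdealSheafData) : I.comap (ModPair.interior I).ι = ⊤ :=
  BlowCompLib.comap_eq_top I _ fun y => y.2

/-- Effective Cartier on a schematically dense open where it is trivial. -/
theorem cart_of_dominant {I : X.IdealSheafData} (hI : IsLP I) (ι : Y ⟶ X) [IsSchemeTheoreticallyDominant ι]
    [QuasiCompact ι] (h : ∀ y, ι y ∈ ModPair.interior I) : BlowUp.IsEffCartierIdeal I := by
  refine BlowCompLib.isEffCartier_of_dense I ι hI ?_
  rw [BlowCompLib.comap_eq_top I ι h]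
  exact BlowCompLib.isEffCartier_top

/-- If the interior of a locally principal ideal is schematically dense, it is effective Cartier. -/
theorem cart_of_dominant_interior {I : X.IdealSheafData} (hI : IsLP I)
    [IsSchemeTheoreticallyDominant (ModPair.interior I).ι] : BlowUp.IsEffCartierIdeal I := by
  haveI := isAffineHom_interior hI
  exact cart_of_dominant hI (ModPair.interior I).ι fun (y : (ModPair.interior I).toScheme) => y.2

/-! ### Consequences of dominance -/

theorem ker_le_of_dominant {W Z' : Scheme.{u}} (h : W ⟶ X) [IsSchemeTheoreticallyDominant h] (c : X ⟶ Y)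
    (i : Z' ⟶ Y) (l : W ⟶ Z') (hl : l ≫ i = h ≫ c) : i.ker ≤ c.ker := by
  have h1 : (h ≫ c).ker = c.ker := by rw [Scheme.Hom.ker_comp, h.ker_eq_bot, Scheme.IdealSheafData.map_bot]
  rw [← h1, ← hl]
  exact Scheme.Hom.le_ker_comp _ _

/-- Factorisation through a closed immersion can be checked on a schematically dense part. -/
theorem exists_lift_closed {W Z' : Scheme.{u}} (h : W ⟶ X) [IsSchemeTheoreticallyDominant h] (c : X ⟶ Y)
    (i : Z' ⟶ Y) [IsClosedImmersion i] (l : W ⟶ Z') (hl : l ≫ i = h ≫ c) :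
    ∃ m : X ⟶ Z', m ≫ i = c :=
  ⟨IsClosedImmersion.lift i c (ker_le_of_dominant h c i l hl), IsClosedImmersion.lift_fac _ _ _⟩

theorem hom_ext_dominant {W : Scheme.{u}} (h : W ⟶ X) [IsSchemeTheoreticallyDominant h] (s : Y ⟶ Z) [IsSeparated s]
    {f g : X ⟶ Y} (hs : f ≫ s = g ≫ s) (hh : h ≫ f = h ≫ g) : f = g := by
  obtain ⟨m, hm⟩ := exists_lift_closed h (pullback.lift f g hs) (pullback.diagonal s) (h ≫ f) (by
    refine pullback.hom_ext ?_ ?_
    · rw [Category.assoc, pullback.diagonal_fst, Category.comp_id, Category.assoc, pullback.lift_fst]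
    · rw [Category.assoc, pullback.diagonal_snd, Category.comp_id, Category.assoc, pullback.lift_snd, hh])
  have h1 := congrArg (· ≫ pullback.fst s s) hm
  have h2 := congrArg (· ≫ pullback.snd s s) hm
  simp only [Category.assoc, pullback.diagonal_fst, pullback.diagonal_snd, Category.comp_id, pullback.lift_fst,
    pullback.lift_snd] at h1 h2
  exact h1.symm.trans h2

end Groth.Agent.ModPairLib
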