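import Mathlib
import Groth.Agent.ModPairLib.Cartier
import Groth.Agent.BlowExistsLib.Glue

/-!
Modulus pairs: scheme-theoretic images of opens, minimal and ambient products.
-/

set_option autoImplicit false
set_option backward.isDefEq.respectTransparency false
set_option backward.isDefEq.respectTransparency.types false
set_option backward.defeqAttrib.useBackward true
set_option linter.style.haveILetI false
set_option maxHeartbeats 800000

universe u

open CategoryTheory CategoryTheory.Limits AlgebraicGeometry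

namespace Groth.Agent.ModPairLib

variable {X Y S T W : Scheme.{u}}

/-! ### Generalities -/

theorem isIso_imageι_of_dominant (f : X ⟶ Y) [IsSchemeTheoreticallyDominant f] : IsIso f.imageι :=
  (Scheme.isIso_subschemeι_iff_eq_bot _).2 f.ker_eq_bot

theorem isIso_restrict_of_section {p : X ⟶ Y} (V : Y.Opens) (t : V.toScheme ⟶ X) [IsOpenImmersion t]
    (ht : t ≫ p = V.ι) (h : ∀ x, p x ∈ V → x ∈ Set.range t) : IsIso (p ∣_ V) := by
  let t' : V.toScheme ⟶ (p ⁻¹ᵁ V).toScheme := IsOpenImmersion.lift (p ⁻¹ᵁ V).ι t (by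
    rw [Scheme.Opens.range_ι]
    rintro _ ⟨v, rfl⟩
    show p (t v) ∈ V
    rw [← Scheme.Hom.comp_apply, ht]
    exact v.2)
  have ht' : t' ≫ (p ⁻¹ᵁ V).ι = t := IsOpenImmersion.lift_fac _ _ _
  haveI : IsOpenImmersion t' := by
    haveI : IsOpenImmersion (t' ≫ (p ⁻¹ᵁ V).ι) := by rw [ht']; infer_instance
    exact IsOpenImmersion.of_comp t' (p ⁻¹ᵁ V).ι
  haveI : IsIso t' := (isIso_iff_isOpenImmersion_and_surjective t').2 ⟨inferInstance, ⟨fun y => by
    obtain ⟨v, hv⟩ := h y.1 y.2
    refine ⟨v, (p ⁻¹ᵁ V).ι.isOpenEmbedding.injective ?_⟩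
    rw [← Scheme.Hom.comp_apply, ht']
    exact hv⟩⟩
  have h1 : t' ≫ (p ∣_ V) = 𝟙 _ := by
    rw [← cancel_mono V.ι, Category.assoc, morphismRestrict_ι, ← Category.assoc, ht', ht, Category.id_comp]
  exact IsIso.of_isIso_fac_left h1

/-- Restriction to opens along a base change. -/
theorem isIso_restrict_baseChange {P : Scheme.{u}} {fst : P ⟶ X} {snd : P ⟶ T} {s : X ⟶ S} {g : T ⟶ S}
    (sq : IsPullback fst snd s g) (V : S.Opens) [IsIso (s ∣_ V)] (T' : T.Opens) (h : T' ≤ g ⁻¹ᵁ V) :
    IsIso (snd ∣_ T') := by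
  have h1 : IsPullback (snd ∣_ T') ((snd ⁻¹ᵁ T').ι ≫ fst) (T'.ι ≫ g) s :=
    (isPullback_morphismRestrict snd T').paste_vert sq.flip
  let j := T.homOfLE h ≫ g ∣_ V
  have hj : j ≫ V.ι = T'.ι ≫ g := by
    simp only [j, Category.assoc, morphismRestrict_ι, Scheme.homOfLE_ι_assoc]
  rw [← hj] at h1
  have h2 := (isPullback_morphismRestrict s V).flip
  let m := IsPullback.lift h2 ((snd ⁻¹ᵁ T').ι ≫ fst) ((snd ∣_ T') ≫ j)
    (by rw [Category.assoc]; exact h1.w.symm)
  have h3 : IsPullback m (snd ∣_ T') (s ∣_ V) j :=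
    IsPullback.of_right (h₁₂ := (s ⁻¹ᵁ V).ι) (by rw [IsPullback.lift_fst]; exact h1.flip) (IsPullback.lift_snd _ _ _ _) h2
  exact h3.isIso_snd_of_isIso

/-! ### Scheme-theoretic images of opens -/

section image

variable (U : X.Opens) [QuasiCompact U.ι]

theorem range_toImage : Set.range U.ι.toImage = U.ι.imageι ⁻¹' (U : Set X) := by
  ext z
  constructor
  · rintro ⟨x, rfl⟩
    show U.ι.imageι (U.ι.toImage x) ∈ U
    rw [← Scheme.Hom.comp_apply, Scheme.Hom.toImage_imageι]
    exact x.2
  · intro hz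
    refine ⟨⟨U.ι.imageι z, hz⟩, U.ι.imageι.isEmbedding.injective ?_⟩
    rw [← Scheme.Hom.comp_apply, Scheme.Hom.toImage_imageι]
    rfl

/-- An open is the open preimage of itself in its scheme-theoretic image. -/
theorem isOpenImmersion_toImage : IsOpenImmersion U.ι.toImage := by
  let i := U.ι.imageι
  let t : U.toScheme ⟶ (i ⁻¹ᵁ U).toScheme := IsOpenImmersion.lift (i ⁻¹ᵁ U).ι U.ι.toImage (by
    rw [Scheme.Opens.range_ι, range_toImage]
    rfl)
  have ht : t ≫ (i ⁻¹ᵁ U).ι = U.ι.toImage := IsOpenImmersion.lift_fac _ _ _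
  haveI : IsIso t := by
    refine ⟨i ∣_ U, ?_, ?_⟩
    · rw [← cancel_mono U.ι, Category.assoc, morphismRestrict_ι, ← Category.assoc, ht,
        Scheme.Hom.toImage_imageι, Category.id_comp]
    · rw [← cancel_mono (i ⁻¹ᵁ U).ι, Category.assoc, ht, ← cancel_mono i, Category.assoc,
        Scheme.Hom.toImage_imageι, morphismRestrict_ι, Category.id_comp]
  rw [← ht]
  infer_instance

theorem isIso_imageι_restrict : IsIso (U.ι.imageι ∣_ U) := by
  haveI := isOpenImmersion_toImage U
  refine isIso_restrict_of_section U U.ι.toImage U.ι.toImage_imageι fun x hx => ?_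
  rw [range_toImage]
  exact hx

end image

/-- `I.comap j ≤ J.comap j` on an open cover gives `I ≤ J`. -/
theorem le_of_cover {I J : X.IdealSheafData} {ι : Type*} {V : ι → Scheme.{u}} (j : ∀ i, V i ⟶ X)
    [∀ i, IsOpenImmersion (j i)] (hsurj : ∀ x, ∃ i v, j i v = x) (h : ∀ i, I.comap (j i) ≤ J.comap (j i)) :
    I ≤ J := le_of_local fun x => by
  obtain ⟨i, v, rfl⟩ := hsurj x
  obtain ⟨U, hvU, -⟩ := BlowCompLib.exists_affine_le (j i) v (U := ⊤) trivial
  refine ⟨⟨j i ''ᵁ U, U.2.image_of_isOpenImmersion (j i)⟩, ⟨v, hvU, rfl⟩, ?_⟩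
  have h2 := h i U
  rw [Scheme.IdealSheafData.ideal_comap_of_isOpenImmersion, Scheme.IdealSheafData.ideal_comap_of_isOpenImmersion] at h2
  intro r hr
  have hinv : ∀ y, (((j i).appIso U).inv).hom (((j i).appIso U).hom.hom y) = y := fun y => by
    rw [← CommRingCat.comp_apply, Iso.hom_inv_id]; rfl
  have h3 := h2 (x := ((j i).appIso U).hom.hom r) (by rw [Ideal.mem_comap, hinv]; exact hr)
  rwa [Ideal.mem_comap, hinv] at h3

/-! ### Products of modulus pairs -/

section mprod

variable (f : X ⟶ S) (g : T ⟶ S) (I : X.IdealSheafData) (J : T.IdealSheafData)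

theorem prodInterior_eq : ModPair.prodInterior f g I J =
    ModPair.interior (I.comap (pullback.fst f g) * J.comap (pullback.snd f g)) := by
  rw [interior_mul, interior_comap, interior_comap]
  rfl

theorem quasiCompact_prodInterior (hI : IsLP I) (hJ : IsLP J) : QuasiCompact (ModPair.prodInterior f g I J).ι := by
  haveI := isAffineHom_interior ((hI.comap (pullback.fst f g)).mul (hJ.comap (pullback.snd f g)))
  rw [prodInterior_eq]
  infer_instance

/-- The pulled back first modulus on the product. -/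
noncomputable abbrev mA : (ModPair.mprod f g I J).IdealSheafData :=
  I.comap (ModPair.mprodι f g I J ≫ pullback.fst f g)

/-- The pulled back second modulus on the product. -/
noncomputable abbrev mB : (ModPair.mprod f g I J).IdealSheafData :=
  J.comap (ModPair.mprodι f g I J ≫ pullback.snd f g)

theorem toImage_mem (x : (ModPair.prodInterior f g I J).toScheme) :
    ModPair.mprodι f g I J ((ModPair.prodInterior f g I J).ι.toImage x) ∈ ModPair.prodInterior f g I J := by
  rw [← Scheme.Hom.comp_apply, Scheme.Hom.toImage_imageι]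
  exact x.2

theorem cart_mA (hI : IsLP I) (hJ : IsLP J) : BlowUp.IsEffCartierIdeal (mA f g I J) := by
  haveI := quasiCompact_prodInterior f g I J hI hJ
  refine cart_of_dominant (hI.comap _) (ModPair.prodInterior f g I J).ι.toImage fun x => ?_
  rw [interior_comap]
  exact (toImage_mem f g I J x).1

theorem cart_mB (hI : IsLP I) (hJ : IsLP J) : BlowUp.IsEffCartierIdeal (mB f g I J) := by
  haveI := quasiCompact_prodInterior f g I J hI hJ
  refine cart_of_dominant (hJ.comap _) (ModPair.prodInterior f g I J).ι.toImage fun x => ?_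
  rw [interior_comap]
  exact (toImage_mem f g I J x).2

theorem preimage_prodInterior :
    ModPair.mprodι f g I J ⁻¹ᵁ ModPair.prodInterior f g I J =
      ModPair.interior (mA f g I J) ⊓ ModPair.interior (mB f g I J) := by
  rw [interior_comap, interior_comap]
  rfl

/-- Morphisms into the product. -/
theorem exists_lift_mprod {IW : W.IdealSheafData} (hW : BlowUp.IsEffCartierIdeal IW) (b : W ⟶ X) (a : W ⟶ T)
    (w : b ≫ f = a ≫ g) (hb : ModPair.interior IW ≤ b ⁻¹ᵁ ModPair.interior I)
    (ha : ModPair.interior IW ≤ a ⁻¹ᵁ ModPair.interior J) :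
    ∃ c : W ⟶ ModPair.mprod f g I J,
      c ≫ ModPair.mprodι f g I J ≫ pullback.fst f g = b ∧ c ≫ ModPair.mprodι f g I J ≫ pullback.snd f g = a := by
  haveI := dominant_interior hW
  let q := pullback.lift b a w
  let l : (ModPair.interior IW).toScheme ⟶ (ModPair.prodInterior f g I J).toScheme :=
    IsOpenImmersion.lift (ModPair.prodInterior f g I J).ι ((ModPair.interior IW).ι ≫ q) (by
      rw [Scheme.Opens.range_ι]
      rintro _ ⟨y, rfl⟩
      refine ⟨?_, ?_⟩
      · show pullback.fst f g (((ModPair.interior IW).ι ≫ q) y) ∈ ModPair.interior I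
        rw [Scheme.Hom.comp_apply, ← Scheme.Hom.comp_apply q, pullback.lift_fst]
        exact hb y.2
      · show pullback.snd f g (((ModPair.interior IW).ι ≫ q) y) ∈ ModPair.interior J
        rw [Scheme.Hom.comp_apply, ← Scheme.Hom.comp_apply q, pullback.lift_snd]
        exact ha y.2)
  obtain ⟨c, hc⟩ := exists_lift_closed (ModPair.interior IW).ι q (ModPair.mprodι f g I J)
    (l ≫ (ModPair.prodInterior f g I J).ι.toImage)
    (by rw [Category.assoc, Scheme.Hom.toImage_imageι]; exact IsOpenImmersion.lift_fac _ _ _)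
  refine ⟨c, ?_, ?_⟩
  · rw [reassoc_of% hc, pullback.lift_fst]
  · rw [reassoc_of% hc, pullback.lift_snd]

theorem mprod_hom_ext {c c' : W ⟶ ModPair.mprod f g I J}
    (h1 : c ≫ ModPair.mprodι f g I J ≫ pullback.fst f g = c' ≫ ModPair.mprodι f g I J ≫ pullback.fst f g)
    (h2 : c ≫ ModPair.mprodι f g I J ≫ pullback.snd f g = c' ≫ ModPair.mprodι f g I J ≫ pullback.snd f g) :
    c = c' := by
  rw [← cancel_mono (ModPair.mprodι f g I J)]
  exact pullback.hom_ext (by simpa using h1) (by simpa using h2)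

/-! ### Ambient products -/

variable {f g I J}
variable {π : Y ⟶ ModPair.mprod f g I J} {K : Y.IdealSheafData}

theorem cart_comap_π (hI : IsLP I) (hJ : IsLP J) (hπ : BlowUp.IsBlowUp π (ModPair.prodCentre f g I J))
    {D : (ModPair.mprod f g I J).IdealSheafData} (hD : BlowUp.IsEffCartierIdeal D) :
    BlowUp.IsEffCartierIdeal (D.comap π) := by
  haveI := (S1571.result Y _ hπ.1).1
  haveI := (S1571.result Y _ hπ.1).2
  exact BlowCompLib.isEffCartier_comap_of_blowUp _ π hπ hD

theorem comap_prodCentre (φ : W ⟶ ModPair.mprod f g I J) :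
    (ModPair.prodCentre f g I J).comap φ = (mA f g I J).comap φ ⊔ (mB f g I J).comap φ :=
  Scheme.IdealSheafData.comap_sup _ _ _

theorem cart_ambProd (hI : IsLP I) (hJ : IsLP J) (h : ModPair.IsAmbProd f g I J π K) :
    BlowUp.IsEffCartierIdeal K := by
  refine BlowCompLib.isEffCartier_of_mul (B := (ModPair.prodCentre f g I J).comap π) ?_
  rw [h.2]
  exact BlowCompLib.isEffCartier_mul (cart_comap_π hI hJ h.1 (cart_mA f g I J hI hJ))
    (cart_comap_π hI hJ h.1 (cart_mB f g I J hI hJ))

theorem ambProd_le_fst (h : ModPair.IsAmbProd f g I J π K) : K ≤ (mA f g I J).comap π := by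
  refine le_of_mul_le_mul h.1.1 ?_
  rw [h.2, comap_prodCentre]
  exact mul_le_mul' le_rfl le_sup_right

theorem ambProd_le_snd (h : ModPair.IsAmbProd f g I J π K) : K ≤ (mB f g I J).comap π := by
  refine le_of_mul_le_mul h.1.1 ?_
  rw [h.2, comap_prodCentre, mul_comm ((mA f g I J).comap π)]
  exact mul_le_mul' le_rfl le_sup_left

theorem ambient_fst (h : ModPair.IsAmbProd f g I J π K) :
    ModPair.IsAmbient K I (π ≫ ModPair.mprodι f g I J ≫ pullback.fst f g) := by
  show K ≤ _
  rw [Scheme.IdealSheafData.comap_comp]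
  exact ambProd_le_fst h

theorem ambient_snd (h : ModPair.IsAmbProd f g I J π K) :
    ModPair.IsAmbient K J (π ≫ ModPair.mprodι f g I J ≫ pullback.snd f g) := by
  show K ≤ _
  rw [Scheme.IdealSheafData.comap_comp]
  exact ambProd_le_snd h

theorem interior_ambProd (h : ModPair.IsAmbProd f g I J π K) :
    ModPair.interior K = (π ≫ ModPair.mprodι f g I J) ⁻¹ᵁ ModPair.prodInterior f g I J := by
  rw [Scheme.Hom.comp_preimage, preimage_prodInterior]
  show _ = π ⁻¹ᵁ ModPair.interior (mA f g I J) ⊓ π ⁻¹ᵁ ModPair.interior (mB f g I J)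
  rw [← interior_comap, ← interior_comap]
  refine le_antisymm (le_inf (interior_mono (ambProd_le_fst h)) (interior_mono (ambProd_le_snd h))) ?_
  rw [← interior_mul, ← h.2, interior_mul]
  exact inf_le_left

variable (f g I J) in
theorem exists_ambProd (hI : IsLP I) (hJ : IsLP J) :
    ∃ (Y : Scheme.{u}) (π : Y ⟶ ModPair.mprod f g I J) (K : Y.IdealSheafData), ModPair.IsAmbProd f g I J π K := by
  obtain ⟨Y, π, hπ⟩ := BlowExistsLib.exists_isBlowUp (ModPair.prodCentre f g I J)
  have hA := cart_comap_π hI hJ hπ (cart_mA f g I J hI hJ)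
  have hB := cart_comap_π hI hJ hπ (cart_mB f g I J hI hJ)
  have hle : (mA f g I J).comap π * (mB f g I J).comap π ≤ (ModPair.prodCentre f g I J).comap π := by
    rw [comap_prodCentre]
    calc (mA f g I J).comap π * (mB f g I J).comap π ≤ (mA f g I J).comap π * ⊤ := mul_le_mul' le_rfl le_top
      _ = (mA f g I J).comap π := Scheme.IdealSheafData.mul_top _
      _ ≤ _ := le_sup_left
  obtain ⟨K, -, hK⟩ := exists_residual (BlowCompLib.isEffCartier_mul hA hB) (isLP_of_cart hπ.1) hle
  exact ⟨Y, π, K, hπ, hK⟩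

end mprod

theorem exists_lift_ambProd {f : X ⟶ S} {g : T ⟶ S} {I : X.IdealSheafData} {J : T.IdealSheafData}
    {π : Y ⟶ ModPair.mprod f g I J} {K : Y.IdealSheafData} (h : ModPair.IsAmbProd f g I J π K)
    {IW : W.IdealSheafData} (hW : BlowUp.IsEffCartierIdeal IW) (b : W ⟶ X) (a : W ⟶ T) (w : b ≫ f = a ≫ g)
    (hb : ModPair.IsAmbient IW I b) (ha : ModPair.IsAmbient IW J a)
    (hc : BlowUp.IsEffCartierIdeal (I.comap b ⊔ J.comap a)) :
    ∃ c : W ⟶ Y, c ≫ π ≫ ModPair.mprodι f g I J ≫ pullback.fst f g = b ∧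
      c ≫ π ≫ ModPair.mprodι f g I J ≫ pullback.snd f g = a ∧
      K.comap c * (I.comap b ⊔ J.comap a) = I.comap b * J.comap a := by
  obtain ⟨c₀, h1, h2⟩ := exists_lift_mprod f g I J hW b a w (interior_le_of_ambient hb) (interior_le_of_ambient ha)
  have hA : (mA f g I J).comap c₀ = I.comap b := by rw [← Scheme.IdealSheafData.comap_comp, h1]
  have hB : (mB f g I J).comap c₀ = J.comap a := by rw [← Scheme.IdealSheafData.comap_comp, h2]
  obtain ⟨c, hc', -⟩ := h.1.2 W c₀ (by rw [comap_prodCentre, hA, hB]; exact hc)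
  refine ⟨c, by rw [reassoc_of% hc', h1], by rw [reassoc_of% hc', h2], ?_⟩
  have h3 := congrArg (fun D => Scheme.IdealSheafData.comap D c) h.2
  simp only [BlowCompLib.comap_mul, ← Scheme.IdealSheafData.comap_comp] at h3
  rw [hc', comap_prodCentre, hA, hB] at h3
  rw [h3, reassoc_of% hc', reassoc_of% hc', h1, h2]

end Groth.Agent.ModPairLib
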