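import Mathlib
import Groth.Agent.ModPairLib.Pair

/-! Testing effective Cartier divisors on valuation rings. -/

set_option autoImplicit false
set_option backward.isDefEq.respectTransparency false
set_option backward.isDefEq.respectTransparency.types false
set_option backward.defeqAttrib.useBackward true
set_option linter.style.haveILetI false
set_option maxHeartbeats 800000

universe u

open CategoryTheory CategoryTheory.Limits AlgebraicGeometry

namespace Groth.Agent.ModPairLib

/-- A generization in the interior of an effective Cartier divisor. -/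
theorem exists_generization_interior {S : Scheme.{u}} {I : S.IdealSheafData} (hI : BlowUp.IsEffCartierIdeal I) (s : S) :
    ∃ u ∈ ModPair.interior I, u ⤳ s := by
  obtain ⟨V, hs, f, hf, hfI⟩ := hI s
  obtain ⟨q, hq, hle⟩ := Ideal.exists_minimalPrimes_le (I := (⊥ : Ideal Γ(S, V.1)))
    (J := (V.2.primeIdealOf ⟨s, hs⟩).asIdeal) bot_le
  haveI := hq.1.1
  let q' : Spec Γ(S, V.1) := ⟨q, hq.1.1⟩
  have hspec : q' ⤳ V.2.primeIdealOf ⟨s, hs⟩ := (PrimeSpectrum.le_iff_specializes _ _).1 hle
  refine ⟨V.2.fromSpec q', fun hmem => ?_, ?_⟩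
  · have hV : V.2.fromSpec q' ∈ V.1 := by
      rw [← SetLike.mem_coe, ← V.2.range_fromSpec]
      exact ⟨q', rfl⟩
    have h1 := (Scheme.IdealSheafData.mem_support_iff_of_mem hV).1 hmem
    rw [hfI, Scheme.zeroLocus_span, Scheme.mem_zeroLocus_iff] at h1
    have h3 : q' ∈ V.2.fromSpec ⁻¹ᵁ S.basicOpen f := by
      rw [V.2.fromSpec_preimage_basicOpen]
      exact fun hfq => Set.disjoint_left.1 (Ideal.disjoint_nonZeroDivisors_of_mem_minimalPrimes hq) hfq hf
    exact h1 f rfl h3
  · have h := hspec.map V.2.fromSpec.continuous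
    rwa [V.2.fromSpec_primeIdealOf ⟨s, hs⟩] at h

/-- A specialization is realized by a valuation ring. -/
theorem exists_valuation_specialization {X : Scheme.{u}} {x u : X} (h : u ⤳ x) :
    ∃ (A : ValuationSubring (X.residueField u)) (p : Spec (CommRingCat.of A) ⟶ X),
      p (IsLocalRing.closedPoint A) = x ∧
        ∀ z : Spec (CommRingCat.of A), z.asIdeal = ⊥ → p z = u := by
  let φ : X.presheaf.stalk x ⟶ X.residueField u := X.presheaf.stalkSpecializes h ≫ X.residue u
  obtain ⟨A, hA, hA_local⟩ := IsLocalRing.exists_factor_valuationRing φ.hom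
  let ψ : X.presheaf.stalk x ⟶ CommRingCat.of A := CommRingCat.ofHom (φ.hom.codRestrict _ hA)
  refine ⟨A, Spec.map ψ ≫ X.fromSpecStalk x, ?_, fun z hz => ?_⟩
  · rw [Scheme.Hom.comp_apply]
    have : Spec.map ψ (IsLocalRing.closedPoint A) = IsLocalRing.closedPoint (X.presheaf.stalk x) :=
      IsLocalRing.comap_closedPoint (S := A) (φ.hom.codRestrict A.toSubring hA)
    rw [this, X.fromSpecStalk_closedPoint]
  · let k : Spec (X.residueField u) := IsLocalRing.closedPoint (X.residueField u)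
    have hz' : z = Spec.map (CommRingCat.ofHom (algebraMap A (X.residueField u))) k := by
      refine PrimeSpectrum.ext ?_
      rw [hz]
      exact (le_bot_iff.1 fun a ha => by
        have h1 : algebraMap A (X.residueField u) a = 0 := by
          have h2 : algebraMap A (X.residueField u) a ∈ IsLocalRing.maximalIdeal (X.residueField u) := ha
          rwa [IsLocalRing.maximalIdeal_eq_bot, Ideal.mem_bot] at h2
        exact Ideal.mem_bot.2 (Subtype.ext h1)).symm
    have w : Spec.map (CommRingCat.ofHom (algebraMap A (X.residueField u))) ≫ Spec.map ψ ≫ X.fromSpecStalk x =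
        X.fromSpecResidueField u := by
      rw [Scheme.fromSpecResidueField, ← Scheme.SpecMap_stalkSpecializes_fromSpecStalk h]
      simp_rw [← Spec.map_comp_assoc]
      rfl
    rw [hz', ← Scheme.Hom.comp_apply, w]
    exact Scheme.fromSpecResidueField_apply u k

variable {R : Type u} [CommRing R]

/-- The ideal of an ideal sheaf on an affine scheme. -/
noncomputable def topIdeal (K : (Spec (CommRingCat.of R)).IdealSheafData) : Ideal R :=
  (K.ideal ⟨⊤, isAffineOpen_top _⟩).comap (Scheme.ΓSpecIso (CommRingCat.of R)).inv.hom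

theorem topIdeal_comap {S : Type u} [CommRing S] (φ : R →+* S) (K : (Spec (CommRingCat.of R)).IdealSheafData) :
    topIdeal (K.comap (Spec.map (CommRingCat.ofHom φ))) = (topIdeal K).map φ := by
  let eR : Γ(Spec (CommRingCat.of R), ⊤) ≃+* R := (Scheme.ΓSpecIso (CommRingCat.of R)).commRingCatIsoToRingEquiv
  let eS : Γ(Spec (CommRingCat.of S), ⊤) ≃+* S := (Scheme.ΓSpecIso (CommRingCat.of S)).commRingCatIsoToRingEquiv
  let fa : Γ(Spec (CommRingCat.of R), ⊤) →+* Γ(Spec (CommRingCat.of S), ⊤) :=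
    ((Spec.map (CommRingCat.ofHom φ)).appLE ⊤ ⊤ le_rfl).hom
  have hK : (K.comap (Spec.map (CommRingCat.ofHom φ))).ideal ⟨⊤, isAffineOpen_top _⟩ =
      (K.ideal ⟨⊤, isAffineOpen_top _⟩).map fa :=
    IdealStalkLib.comap_ideal K _ (isAffineOpen_top _) (isAffineOpen_top _) le_rfl
  have hsq : ∀ y, eS (fa y) = φ (eR y) := fun y => by
    show ((Spec.map (CommRingCat.ofHom φ)).appLE ⊤ ⊤ le_rfl ≫ (Scheme.ΓSpecIso (CommRingCat.of S)).hom).hom y = _
    rw [show (Spec.map (CommRingCat.ofHom φ)).appLE ⊤ ⊤ le_rfl = (Spec.map (CommRingCat.ofHom φ)).appTop from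
      (Scheme.Hom.app_eq_appLE _).symm]
    exact congrArg (fun h : Γ(Spec (CommRingCat.of R), ⊤) ⟶ CommRingCat.of S => h.hom y)
      (Scheme.ΓSpecIso_naturality (CommRingCat.ofHom φ))
  show Ideal.comap eS.symm _ = (Ideal.comap eR.symm _).map φ
  rw [hK, Ideal.comap_symm, Ideal.comap_symm]
  show ((K.ideal ⟨⊤, isAffineOpen_top _⟩).map fa).map (eS : _ →+* S) =
    ((K.ideal ⟨⊤, isAffineOpen_top _⟩).map (eR : _ →+* R)).map φ
  rw [Ideal.map_map, Ideal.map_map]
  exact congrArg (fun h => Ideal.map h _) (RingHom.ext hsq)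

theorem mem_interior_iff (K : (Spec (CommRingCat.of R)).IdealSheafData) (z : Spec (CommRingCat.of R)) :
    z ∈ ModPair.interior K ↔ ¬ topIdeal K ≤ z.asIdeal := by
  rw [mem_interior, Scheme.IdealSheafData.mem_support_iff_of_mem
    (U := ⟨⊤, isAffineOpen_top _⟩) (show z ∈ (⊤ : TopologicalSpace.Opens _) from trivial), Scheme.mem_zeroLocus_iff]
  constructor
  · intro hz hle
    refine hz fun f hf hzf => ?_
    obtain ⟨r, rfl⟩ := (Scheme.ΓSpecIso (CommRingCat.of R)).symm.commRingCatIsoToRingEquiv.surjective f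
    change z ∈ (Spec (CommRingCat.of R)).basicOpen ((Scheme.ΓSpecIso (CommRingCat.of R)).inv.hom r) at hzf
    rw [basicOpen_eq_of_affine] at hzf
    exact hzf (hle hf)
  · intro hle hz
    refine hle fun r hr => ?_
    by_contra hn
    refine hz _ hr ?_
    rw [basicOpen_eq_of_affine]
    exact hn

theorem topIdeal_eq_span [IsLocalRing R] {K : (Spec (CommRingCat.of R)).IdealSheafData} (h : IsLP K) :
    ∃ c, topIdeal K = Ideal.span {c} := by
  obtain ⟨V, hx, a, ha⟩ := h (IsLocalRing.closedPoint R)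
  have hV : V.1 = ⊤ := top_le_iff.1 fun z _ => (IsLocalRing.specializes_closedPoint z).mem_open V.1.2 hx
  obtain ⟨t, ht⟩ : ∃ t : Γ(Spec (CommRingCat.of R), ⊤), K.ideal ⟨⊤, isAffineOpen_top _⟩ = Ideal.span {t} :=
    ⟨_, ideal_basicOpen_span K (U := V) (W := ⟨⊤, isAffineOpen_top _⟩) hV.ge ha⟩
  refine ⟨(Scheme.ΓSpecIso (CommRingCat.of R)).hom.hom t, ?_⟩
  have h1 : ∀ r : R, (Scheme.ΓSpecIso (CommRingCat.of R)).hom.hom ((Scheme.ΓSpecIso (CommRingCat.of R)).inv.hom r) = r :=
    fun r => by rw [← CommRingCat.comp_apply, Iso.inv_hom_id]; rfl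
  have h2 : ∀ x, (Scheme.ΓSpecIso (CommRingCat.of R)).inv.hom ((Scheme.ΓSpecIso (CommRingCat.of R)).hom.hom x) = x :=
    fun x => by rw [← CommRingCat.comp_apply, Iso.hom_inv_id]; rfl
  rw [topIdeal, ht]
  ext r
  rw [Ideal.mem_comap, Ideal.mem_span_singleton', Ideal.mem_span_singleton']
  constructor
  · rintro ⟨q, hq⟩
    exact ⟨(Scheme.ΓSpecIso (CommRingCat.of R)).hom.hom q, by rw [← map_mul, hq, h1]⟩
  · rintro ⟨q, rfl⟩
    exact ⟨(Scheme.ΓSpecIso (CommRingCat.of R)).inv.hom q, by rw [map_mul, h2]⟩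

theorem cart_of_generic [IsDomain R] {K : (Spec (CommRingCat.of R)).IdealSheafData} (hK : IsLP K)
    (z : Spec (CommRingCat.of R)) (hz : z.asIdeal = ⊥) (h : z ∈ ModPair.interior K) :
    BlowUp.IsEffCartierIdeal K := by
  haveI : IsDominant (ModPair.interior K).ι := by
    rw [isDominant_iff, DenseRange, Scheme.Opens.range_ι, dense_iff_inter_open]
    intro O hO ⟨y, hy⟩
    refine ⟨z, ?_, h⟩
    have : z ⤳ y := (PrimeSpectrum.le_iff_specializes z y).1 (show z.asIdeal ≤ y.asIdeal by rw [hz]; exact bot_le)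
    exact this.mem_open hO hy
  haveI := IsSchemeTheoreticallyDominant.of_isDominant (ModPair.interior K).ι
  exact cart_of_dominant_interior hK

end Groth.Agent.ModPairLib
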