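import Mathlib
import Groth.Agent.FPModelLib.Model2
import Groth.Agent.FlatStage.Smooth

/-!
Descent of coverings by open morphisms of finite presentation along cofiltered limits.
-/

set_option autoImplicit false
set_option backward.isDefEq.respectTransparency false
set_option backward.isDefEq.respectTransparency.types false
set_option backward.defeqAttrib.useBackward true
set_option linter.style.haveILetI false
set_option maxHeartbeats 800000

universe u

open CategoryTheory CategoryTheory.Limits AlgebraicGeometry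

namespace Groth.Agent.ModPairLib

variable {I : Type u} [SmallCategory I] [IsCofiltered I] (D : I ⥤ Scheme.{u}) (c : Cone D)

/-- `P` at the limit is attained at some stage for a base change of finite presentation. -/
def AttainedAtStage (P : MorphismProperty Scheme.{u}) : Prop :=
  ∀ (i : I) {X₀ X : Scheme.{u}} (f₀ : X₀ ⟶ D.obj i) (f : X ⟶ c.pt) (q : X ⟶ X₀),
    CompactSpace X₀ → QuasiSeparatedSpace X₀ → LocallyOfFinitePresentation f₀ →
    IsPullback q f f₀ (c.π.app i) → P f →
    ∃ (k : I) (φ : k ⟶ i) (G : Scheme.{u}) (g : G ⟶ D.obj k) (r : G ⟶ X₀),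
      IsPullback r g f₀ (D.map φ) ∧ P g

variable [∀ {i j} (f : i ⟶ j), IsAffineHom (D.map f)]

theorem exists_cover_stage (hc : IsLimit c) [∀ i, CompactSpace (D.obj i)] [∀ i, QuasiSeparatedSpace (D.obj i)]
    (P : MorphismProperty Scheme.{u}) [P.IsStableUnderBaseChange]
    (hopen : ∀ {X Y : Scheme.{u}} (f : X ⟶ Y), P f → UniversallyOpen f)
    (hatt : AttainedAtStage D c P)
    {ι : Type u} (U : ι → Scheme.{u}) (u : ∀ a, U a ⟶ c.pt) (hu : ∀ a, P (u a))
    [∀ a, LocallyOfFinitePresentation (u a)] [∀ a, QuasiCompact (u a)] [∀ a, QuasiSeparated (u a)]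
    (hcov : ∀ x : c.pt, ∃ (a : ι) (y : U a), (u a).base y = x) :
    ∃ (i : I) (n : ℕ) (V : Fin n → Scheme.{u}) (v : ∀ j, V j ⟶ D.obj i) (a : Fin n → ι)
      (e : ∀ j, U (a j) ⟶ V j),
      (∀ j, P (v j) ∧ LocallyOfFinitePresentation (v j) ∧ QuasiCompact (v j) ∧ QuasiSeparated (v j)) ∧
      (∀ x : D.obj i, ∃ (j : Fin n) (y : V j), (v j).base y = x) ∧
      ∀ j, IsPullback (e j) (u (a j)) (v j) (c.π.app i) := by
  classical
  haveI : CompactSpace c.pt := Scheme.compactSpace_of_isLimit D c hc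
  haveI : QuasiSeparatedSpace c.pt := by
    haveI := isAffineHom_π_app D c hc (Classical.choice IsCofiltered.nonempty)
    exact quasiSeparatedSpace_of_quasiSeparated (c.π.app (Classical.choice IsCofiltered.nonempty))
  have hopen' (a : ι) : IsOpen (Set.range (u a)) := by
    haveI := hopen _ (hu a)
    exact (u a).isOpenMap.isOpen_range
  obtain ⟨T, hT⟩ := (isCompact_univ (X := c.pt)).elim_finite_subcover
    (fun a => Set.range (u a)) hopen' (fun x _ => by
      obtain ⟨a, y, hy⟩ := hcov x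
      exact Set.mem_iUnion.mpr ⟨a, y, hy⟩)
  haveI (a : ι) : CompactSpace (U a) := QuasiCompact.compactSpace_of_compactSpace (u a)
  haveI (a : ι) : QuasiSeparatedSpace (U a) := quasiSeparatedSpace_of_quasiSeparated (u a)
  choose i G g q hG using fun a : T => FPModelLib.Gen.exists_model D c hc (u a.1)
  choose k φ H h r hr hP using fun a : T =>
    hatt (i a) (g a) (u a.1) (q a) (hG a).compact (hG a).qs (hG a).lfp (hG a).isPullback (hu a.1)
  obtain ⟨l, fl⟩ := IsCofiltered.inf_objs_exists (insert (Classical.choice IsCofiltered.nonempty)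
    (Finset.univ.image k))
  replace fl : ∀ a, l ⟶ k a := fun a => (@fl (k a) (by simp)).some
  -- the models at stage `l`
  let v (a : T) : pullback (h a) (D.map (fl a)) ⟶ D.obj l := pullback.snd _ _
  have hv (a : T) : IsPullback (pullback.fst (h a) (D.map (fl a)) ≫ r a) (v a) (g a)
      (D.map (fl a ≫ φ a)) := by
    rw [Functor.map_comp]
    exact (IsPullback.of_hasPullback _ _).paste_horiz (hr a)
  have hvP (a : T) : P (v a) := MorphismProperty.pullback_snd _ _ (hP a)
  haveI (a : T) : LocallyOfFinitePresentation (v a) :=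
    MorphismProperty.of_isPullback (hv a) (hG a).lfp
  haveI (a : T) : CompactSpace (G a) := (hG a).compact
  haveI (a : T) : QuasiSeparatedSpace (G a) := (hG a).qs
  haveI (a : T) : QuasiCompact (g a) := quasiCompact_of_compactSpace _
  haveI (a : T) : QuasiSeparated (g a) := QuasiSeparated.of_quasiSeparatedSpace _
  haveI (a : T) : QuasiCompact (v a) := MorphismProperty.of_isPullback (hv a) inferInstance
  haveI (a : T) : QuasiSeparated (v a) := MorphismProperty.of_isPullback (hv a) inferInstance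
  let W : (D.obj l).Opens := ⟨⋃ a, Set.range (v a), isOpen_iUnion fun a => by
    haveI := hopen _ (hvP a)
    exact (v a).isOpenMap.isOpen_range⟩
  let s (a : T) : U a.1 ⟶ pullback (h a) (D.map (fl a)) :=
    (hv a).lift (q a) (u a.1 ≫ c.π.app l) (by rw [Category.assoc, c.w]; exact (hG a).isPullback.w)
  have hs (a : T) : IsPullback (s a) (u a.1) (v a) (c.π.app l) :=
    IsPullback.of_right (by rw [(hv a).lift_fst, c.w]; exact (hG a).isPullback)
      ((hv a).lift_snd _ _ _) (hv a)
  have hW : c.π.app l ⁻¹ᵁ W = ⊤ := top_le_iff.mp fun x _ => by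
    obtain ⟨a, ha, y, hy⟩ := Set.mem_iUnion₂.mp (hT (Set.mem_univ x))
    refine Set.mem_iUnion.mpr ⟨⟨a, ha⟩, s ⟨a, ha⟩ y, ?_⟩
    rw [← Scheme.Hom.comp_apply, (hs ⟨a, ha⟩).w, Scheme.Hom.comp_apply, hy]
    rfl
  obtain ⟨m, t, hm⟩ := exists_map_eq_top D c hc W hW
  let e := T.equivFin.symm
  let v' (a : T) : pullback (v a) (D.map t) ⟶ D.obj m := pullback.snd _ _
  let s' (a : T) : U a.1 ⟶ pullback (v a) (D.map t) :=
    pullback.lift (s a) (u a.1 ≫ c.π.app m) (by rw [Category.assoc, c.w]; exact (hs a).w)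
  refine ⟨m, T.card, fun j => pullback (v (e j)) (D.map t), fun j => v' (e j), fun j => (e j).1,
    fun j => s' (e j), fun j => ⟨MorphismProperty.pullback_snd _ _ (hvP _),
      inferInstanceAs (LocallyOfFinitePresentation (pullback.snd _ _)),
      inferInstanceAs (QuasiCompact (pullback.snd _ _)),
      inferInstanceAs (QuasiSeparated (pullback.snd _ _))⟩, fun x => ?_, fun j => ?_⟩
  · have hx : x ∈ D.map t ⁻¹ᵁ W := hm ▸ trivial
    obtain ⟨a, y, hy⟩ := Set.mem_iUnion.mp hx
    obtain ⟨j, rfl⟩ := e.surjective a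
    obtain ⟨z, -, hz⟩ := Scheme.Pullback.exists_preimage_pullback y x hy
    exact ⟨j, z, hz⟩
  · refine IsPullback.of_right ?_ (pullback.lift_snd _ _ _) (IsPullback.of_hasPullback (v (e j)) (D.map t))
    rw [pullback.lift_fst, c.w]
    exact hs (e j)

theorem attained_flat (hc : IsLimit c) : AttainedAtStage D c (@Flat) := by
  intro i X₀ X f₀ f q hc0 hq0 hlfp hpb hf
  haveI := hc0
  haveI := hlfp
  haveI := hf
  obtain ⟨k, hk⟩ := FlatStage.exists_flat D c i f₀ (𝟙 (D.obj i))
    (IsPullback.of_id_snd : IsPullback (c.π.app i) (𝟙 c.pt) (𝟙 (D.obj i)) (c.π.app i))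
    hpb hc
  haveI := hk
  refine ⟨k.left, k.hom, _,
    (AffLim.baseChangeMap D i f₀ (𝟙 (D.obj i))).app k ≫ pullback.snd (𝟙 (D.obj i)) (D.map k.hom),
    pullback.fst (f₀ ≫ 𝟙 (D.obj i)) (D.map k.hom), ?_, inferInstance⟩
  exact ((AffLim.isPullback_baseChangeMap D i f₀ (𝟙 _) k).paste_vert
      (IsPullback.of_hasPullback (𝟙 (D.obj i)) (D.map k.hom))).of_iso
      (Iso.refl _) (Iso.refl _) (Iso.refl _) (Iso.refl _) (by simp) (by simp) (by simp) (by simp)

theorem attained_etale (hc : IsLimit c) : AttainedAtStage D c (@Etale) := by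
  intro i X₀ X f₀ f q hc0 hq0 hlfp hpb hf
  haveI := hc0
  haveI := hlfp
  haveI := hf
  obtain ⟨k, hk⟩ := FlatStage.exists_etale D c i f₀ (𝟙 (D.obj i))
    (IsPullback.of_id_snd : IsPullback (c.π.app i) (𝟙 c.pt) (𝟙 (D.obj i)) (c.π.app i))
    hpb hc
  haveI := hk
  refine ⟨k.left, k.hom, _,
    (AffLim.baseChangeMap D i f₀ (𝟙 (D.obj i))).app k ≫ pullback.snd (𝟙 (D.obj i)) (D.map k.hom),
    pullback.fst (f₀ ≫ 𝟙 (D.obj i)) (D.map k.hom), ?_, inferInstance⟩
  exact ((AffLim.isPullback_baseChangeMap D i f₀ (𝟙 _) k).paste_vert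
      (IsPullback.of_hasPullback (𝟙 (D.obj i)) (D.map k.hom))).of_iso
      (Iso.refl _) (Iso.refl _) (Iso.refl _) (Iso.refl _) (by simp) (by simp) (by simp) (by simp)

theorem attained_flatFP (hc : IsLimit c) :
    AttainedAtStage D c (@Flat ⊓ @LocallyOfFinitePresentation) := by
  intro i X₀ X f₀ f q hc0 hq0 hlfp hpb hf
  obtain ⟨k, φ, G, g, r, hr, hg⟩ := attained_flat D c hc i f₀ f q hc0 hq0 hlfp hpb hf.1
  exact ⟨k, φ, G, g, r, hr, hg, MorphismProperty.of_isPullback hr hlfp⟩

end Groth.Agent.ModPairLib
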