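import Mathlib
import Groth.Agent.ModPairLib.Cartier
import Groth.Agent.S2078

/-!
Descending morphisms and modulus conditions along cofiltered limits with affine transition morphisms.
-/

set_option autoImplicit false
set_option backward.isDefEq.respectTransparency false
set_option backward.isDefEq.respectTransparency.types false
set_option backward.defeqAttrib.useBackward true
set_option linter.style.haveILetI false
set_option maxHeartbeats 800000

universe u

open CategoryTheory CategoryTheory.Limits AlgebraicGeometry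

namespace Groth.Agent.ModPairLib

variable {I : Type u} [SmallCategory I] [IsCofiltered I]

/-- A section over the preimage of an affine open comes from some stage. -/
theorem exists_section_stage (D : I ⥤ Scheme.{u}) (c : Cone D) (hc : IsLimit c)
    [∀ {i j} (f : i ⟶ j), IsAffineHom (D.map f)]
    (i : I) {U : (D.obj i).Opens} (hU : IsAffineOpen U) (s : Γ(c.pt, c.π.app i ⁻¹ᵁ U)) :
    ∃ (j : I) (t : j ⟶ i) (e : c.π.app i ⁻¹ᵁ U ≤ c.π.app j ⁻¹ᵁ (D.map t ⁻¹ᵁ U))
      (w : Γ(D.obj j, D.map t ⁻¹ᵁ U)),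
      ((c.π.app j).appLE (D.map t ⁻¹ᵁ U) (c.π.app i ⁻¹ᵁ U) e).hom w = s := by
  haveI (j : Over i) : IsAffine ((opensDiagram D i U).obj j) := hU.preimage (D.map _)
  obtain ⟨j, w, hw⟩ := exists_appTop_π_eq_of_isAffine_of_isLimit _ _ (isLimitOpensCone D c hc i U)
    ((c.π.app i ⁻¹ᵁ U).topIso.inv.hom s)
  have e : c.π.app i ⁻¹ᵁ U ≤ c.π.app j.left ⁻¹ᵁ (D.map j.hom ⁻¹ᵁ U) := by
    rw [← Scheme.Hom.comp_preimage, c.w]
  refine ⟨j.left, j.hom, e, (D.map j.hom ⁻¹ᵁ U).topIso.hom.hom w, ?_⟩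
  have hw' : ((c.π.app i ⁻¹ᵁ U).topIso.hom).hom
      (((c.π.app j.left).resLE (D.map j.hom ⁻¹ᵁ U) (c.π.app i ⁻¹ᵁ U) e).appTop.hom w) = s := by
    have := congrArg ((c.π.app i ⁻¹ᵁ U).topIso.hom).hom hw
    rw [← ConcreteCategory.comp_apply (c.π.app i ⁻¹ᵁ U).topIso.inv,
      Iso.inv_hom_id] at this
    exact this
  refine Eq.trans ?_ hw'
  rw [← ConcreteCategory.comp_apply, ← ConcreteCategory.comp_apply]
  congr 2
  simp [Scheme.Hom.resLE_appLE, Scheme.Hom.app_eq_appLE, Scheme.Opens.topIso, Scheme.Hom.map_appLE,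
    Scheme.Hom.appLE_map]

/-- With scheme-theoretically dominant affine transition morphisms the projections are dominant. -/
theorem dominant_π (D : I ⥤ Scheme.{u}) (c : Cone D) (hc : IsLimit c)
    [∀ {i j} (f : i ⟶ j), IsAffineHom (D.map f)]
    [∀ {i j} (f : i ⟶ j), IsSchemeTheoreticallyDominant (D.map f)] (i : I) :
    IsSchemeTheoreticallyDominant (c.π.app i) := by
  haveI := isAffineHom_π_app D c hc i
  refine ⟨Scheme.IdealSheafData.ext (funext fun U => ?_)⟩
  rw [Scheme.Hom.ker_apply]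
  refine (Submodule.eq_bot_iff _).2 fun s hs => ?_
  obtain ⟨j, t, ht⟩ := exists_app_map_eq_zero_of_isLimit D c hc U.2.isCompact s hs
  exact (D.map t).app_injective U.1 (ht.trans (map_zero _).symm)

/-- Morphisms to a scheme locally of finite type descend along dominant transition morphisms. -/
theorem exists_descend {S : Scheme.{u}} [QuasiSeparatedSpace S] (D : I ⥤ Over S)
    (c : Cone D) (hc : IsLimit c)
    [∀ (i j : I) (t : i ⟶ j), IsAffineHom (D.map t).left]
    [∀ (i j : I) (t : i ⟶ j), IsSchemeTheoreticallyDominant (D.map t).left]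
    [∀ i, CompactSpace (D.obj i).left] [∀ i, QuasiSeparatedSpace (D.obj i).left]
    (Y : Over S) [CompactSpace Y.left] [QuasiSeparatedSpace Y.left] [LocallyOfFiniteType Y.hom]
    (φ : c.pt ⟶ Y) : ∃ (i : I) (φi : D.obj i ⟶ Y), c.π.app i ≫ φi = φ := by
  obtain ⟨Y', f', jY, hf', -, -, hj, hjf⟩ := Groth.Agent.S2078.result Y.hom
  haveI := hf'
  haveI := hj
  haveI (i : I) : CompactSpace ((D ⋙ Over.forget S).obj i) := by dsimp; infer_instance
  haveI (i : I) : QuasiSeparatedSpace ((D ⋙ Over.forget S).obj i) := by dsimp; infer_instance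
  haveI {i j : I} (f : i ⟶ j) : IsAffineHom ((D ⋙ Over.forget S).map f) := by dsimp; infer_instance
  haveI {i j : I} (f : i ⟶ j) : IsSchemeTheoreticallyDominant ((D ⋙ Over.forget S).map f) := by
    dsimp; infer_instance
  have hc' : IsLimit ((Over.forget S).mapCone c) := isLimitOfPreserves _ hc
  obtain ⟨i, g, hg, hg'⟩ := Scheme.exists_π_app_comp_eq_of_locallyOfFinitePresentation
    (D ⋙ Over.forget S) (.mk (fun _ ↦ (D.obj _).hom)) f' _ hc' (φ.left ≫ jY) (by
      ext i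
      simp [hjf])
  haveI := dominant_π (D ⋙ Over.forget S) _ hc' i
  obtain ⟨m, hm⟩ := exists_lift_closed (((Over.forget S).mapCone c).π.app i) g jY φ.left hg.symm
  refine ⟨i, Over.homMk m ?_, ?_⟩
  · rw [← hjf]
    show m ≫ jY ≫ f' = _
    rw [← Category.assoc, hm, hg']
  · apply Over.OverMorphism.ext
    rw [← cancel_mono jY]
    show ((c.π.app i).left ≫ m) ≫ jY = φ.left ≫ jY
    rw [Category.assoc, hm]
    exact hg

theorem ideal_le_comap {X Y : Scheme.{u}} (f : X ⟶ Y) (A B : Y.IdealSheafData) (U : Y.affineOpens)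
    (V : X.affineOpens) (e : V.1 ≤ f ⁻¹ᵁ U.1) (h : A.ideal U ≤ B.ideal U) :
    (A.comap f).ideal V ≤ (B.comap f).ideal V := by
  rw [IdealStalkLib.comap_ideal A f U.2 V.2 e, IdealStalkLib.comap_ideal B f U.2 V.2 e]
  exact Ideal.map_mono h

/-- An inclusion between locally principal ideals on the limit holds at some stage. -/
theorem exists_stage_le (D : I ⥤ Scheme.{u}) (c : Cone D) (hc : IsLimit c)
    [∀ {i j} (f : i ⟶ j), IsAffineHom (D.map f)] (i : I) [CompactSpace (D.obj i)]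
    {A B : (D.obj i).IdealSheafData} (hA : BlowUp.IsEffCartierIdeal A) (hB : IsLP B)
    (h : A.comap (c.π.app i) ≤ B.comap (c.π.app i)) :
    ∃ (j : I) (t : j ⟶ i), A.comap (D.map t) ≤ B.comap (D.map t) := by
  classical
  haveI := isAffineHom_π_app D c hc i
  have key (x : D.obj i) : ∃ (U : (D.obj i).affineOpens) (_ : x ∈ U.1) (k : I) (v : k ⟶ i),
      (A.comap (D.map v)).ideal ⟨D.map v ⁻¹ᵁ U.1, U.2.preimage _⟩ ≤
        (B.comap (D.map v)).ideal ⟨D.map v ⁻¹ᵁ U.1, U.2.preimage _⟩ := by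
    obtain ⟨U, hx, ⟨a, -, ha⟩, b, hb⟩ := exists_chart hA hB x
    let V : c.pt.affineOpens := ⟨c.π.app i ⁻¹ᵁ U.1, U.2.preimage _⟩
    have h1 := h V
    rw [BlowCompLib.ideal_comap_span A _ ha V le_rfl, BlowCompLib.ideal_comap_span B _ hb V le_rfl,
      Ideal.span_singleton_le_iff_mem, Ideal.mem_span_singleton'] at h1
    obtain ⟨r, hr⟩ := h1
    obtain ⟨j, t, e, w, rfl⟩ := exists_section_stage D c hc i U.2 r
    let Uj : (D.obj j).affineOpens := ⟨D.map t ⁻¹ᵁ U.1, U.2.preimage _⟩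
    let a' : Γ(D.obj j, Uj.1) := ((D.map t).appLE U.1 Uj.1 le_rfl).hom a
    let b' : Γ(D.obj j, Uj.1) := ((D.map t).appLE U.1 Uj.1 le_rfl).hom b
    have hcomp (z : Γ(D.obj i, U.1)) : ((c.π.app j).appLE Uj.1 V.1 e).hom
        (((D.map t).appLE U.1 Uj.1 le_rfl).hom z) = ((c.π.app i).appLE U.1 V.1 le_rfl).hom z := by
      rw [← ConcreteCategory.comp_apply, Scheme.Hom.appLE_comp_appLE]
      simp [V]
    have h0 : ((c.π.app j).appLE Uj.1 V.1 e).hom (w * b' - a') = 0 := by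
      rw [map_sub, map_mul, hcomp, hcomp, sub_eq_zero]
      exact hr
    have h0' : (c.π.app j).app Uj.1 (w * b' - a') = 0 := by
      have hle : c.π.app j ⁻¹ᵁ Uj.1 ≤ V.1 := le_of_eq (by
        show c.π.app j ⁻¹ᵁ (D.map t ⁻¹ᵁ U.1) = c.π.app i ⁻¹ᵁ U.1
        rw [← Scheme.Hom.comp_preimage, c.w])
      have := congrArg (c.pt.presheaf.map (homOfLE hle).op).hom h0
      rw [map_zero] at this
      refine Eq.trans ?_ this
      exact ConcreteCategory.congr_hom ((Scheme.Hom.app_eq_appLE _).trans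
        (Scheme.Hom.appLE_map (c.π.app j) e (homOfLE hle).op).symm) _
    obtain ⟨k, v, hk⟩ := exists_app_map_eq_zero_of_isLimit D c hc Uj.2.isCompact _ h0'
    refine ⟨U, hx, k, v ≫ t, ?_⟩
    let Uk : (D.obj k).affineOpens := ⟨D.map (v ≫ t) ⁻¹ᵁ U.1, U.2.preimage _⟩
    have hle' : Uk.1 ≤ D.map v ⁻¹ᵁ Uj.1 := le_of_eq (by
      show D.map (v ≫ t) ⁻¹ᵁ U.1 = D.map v ⁻¹ᵁ (D.map t ⁻¹ᵁ U.1)
      rw [← Scheme.Hom.comp_preimage, Functor.map_comp])
    show (A.comap _).ideal Uk ≤ (B.comap _).ideal Uk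
    rw [Functor.map_comp, Scheme.IdealSheafData.comap_comp, Scheme.IdealSheafData.comap_comp]
    rw [BlowCompLib.ideal_comap_span _ _
        (BlowCompLib.ideal_comap_span A (D.map t) ha Uj le_rfl) Uk hle',
      BlowCompLib.ideal_comap_span _ _
        (BlowCompLib.ideal_comap_span B (D.map t) hb Uj le_rfl) Uk hle',
      Ideal.span_singleton_le_iff_mem, Ideal.mem_span_singleton']
    refine ⟨((D.map v).appLE Uj.1 Uk.1 hle').hom w, ?_⟩
    rw [← map_mul, ← sub_eq_zero, ← map_sub]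
    have := congrArg ((D.obj k).presheaf.map (homOfLE hle').op).hom hk
    rw [map_zero] at this
    refine Eq.trans ?_ this
    refine ConcreteCategory.congr_hom
      (?_ : _ = (D.map v).app Uj.1 ≫ (D.obj k).presheaf.map (homOfLE hle').op) _
    rw [Scheme.Hom.app_eq_appLE, Scheme.Hom.appLE_map]
  choose U hxU k v hk using key
  obtain ⟨T, hT⟩ := CompactSpace.elim_nhds_subcover (fun x => ((U x).1 : Set (D.obj i)))
    (fun x => (U x).1.2.mem_nhds (hxU x))
  obtain ⟨l, q, p, hp⟩ := IsCofiltered.wideCospan (fun x : T => v x.1)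
  refine ⟨l, q, le_of_local fun y => ?_⟩
  obtain ⟨x, hxT, hy⟩ := Set.mem_iUnion₂.mp (hT.ge (Set.mem_univ (D.map q y)))
  refine ⟨⟨D.map q ⁻¹ᵁ (U x).1, (U x).2.preimage _⟩, hy, ?_⟩
  have hq : D.map q = D.map (p ⟨x, hxT⟩) ≫ D.map (v x) := by
    rw [← Functor.map_comp, hp ⟨x, hxT⟩]
  rw [congrArg A.comap hq, congrArg B.comap hq, Scheme.IdealSheafData.comap_comp,
    Scheme.IdealSheafData.comap_comp]
  refine ideal_le_comap _ _ _ ⟨D.map (v x) ⁻¹ᵁ (U x).1, (U x).2.preimage _⟩ _ ?_ (hk x)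
  show D.map q ⁻¹ᵁ (U x).1 ≤ D.map (p ⟨x, hxT⟩) ⁻¹ᵁ (D.map (v x) ⁻¹ᵁ (U x).1)
  rw [← Scheme.Hom.comp_preimage, ← hq]

end Groth.Agent.ModPairLib
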