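import Mathlib
import Groth.Agent.ModPairLib.Cartier
import Groth.Agent.ModPairLib.Descend
import Groth.Agent.NApproxLib.Over
import Groth.Agent.NApproxLib.ImageLimit
import Groth.Agent.AffLim.DescendConst

/-!
A finite surjective morphism to the interior of a modulus pair extends to a finite surjective morphism.
-/

set_option autoImplicit false
set_option backward.isDefEq.respectTransparency false
set_option backward.isDefEq.respectTransparency.types false
set_option backward.defeqAttrib.useBackward true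
set_option linter.style.haveILetI false
set_option maxHeartbeats 800000

universe u

open CategoryTheory CategoryTheory.Limits AlgebraicGeometry

namespace Groth.Agent.ModPairLib

theorem isIso_restrict_of_app_bijective {X Y : Scheme.{u}} (f : X ⟶ Y) [IsAffineHom f] {U : Y.Opens}
    (hU : IsAffineOpen U) (h : Function.Bijective (f.app U).hom) : IsIso (f ∣_ U) := by
  haveI : IsAffine (U : Scheme.{u}) := hU
  haveI : IsAffine (f ⁻¹ᵁ U : Scheme.{u}) := hU.preimage f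
  haveI : IsIso (f.app U) := by rw [ConcreteCategory.isIso_iff_bijective]; exact h
  change MorphismProperty.isomorphisms Scheme (f ∣_ U)
  rw [HasAffineProperty.iff_of_isAffine (P := MorphismProperty.isomorphisms Scheme)]
  refine ⟨inferInstance, ?_⟩
  rw [morphismRestrict_appTop]
  have h2 : ∀ V : Y.Opens, V = U → IsIso (f.app V) := fun V hV => hV ▸ inferInstance
  haveI : IsIso (f.app (U.ι ''ᵁ ⊤)) := h2 _ U.ι_image_top
  infer_instance

/-- Finiteness over an open restricts to the smaller affine opens. -/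
theorem finite_app_of_le {X Y : Scheme.{u}} (f : X ⟶ Y) {U W : Y.Opens} (hU : IsAffineOpen U) (h : U ≤ W)
    [IsFinite (f ∣_ W)] : (f.app U).hom.Finite := by
  have hU' : IsAffineOpen (W.ι ⁻¹ᵁ U) :=
    hU.preimage_of_isOpenImmersion W.ι (by rw [Scheme.Opens.opensRange_ι]; exact h)
  have h1 := (f ∣_ W).finite_app (W.ι ⁻¹ᵁ U) hU'
  rw [morphismRestrict_app] at h1
  have h2 : (f.app (W.ι ''ᵁ (W.ι ⁻¹ᵁ U))).hom.Finite := by
    rwa [CommRingCat.hom_comp, RingHom.finite_respectsIso.cancel_right_isIso] at h1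
  have e : W.ι ''ᵁ (W.ι ⁻¹ᵁ U) = U := by
    rw [Scheme.Hom.image_preimage_eq_opensRange_inf, Scheme.Opens.opensRange_ι, inf_eq_right.mpr h]
  have h3 : ∀ V : Y.Opens, V = U → (f.app V).hom.Finite → (f.app U).hom.Finite := fun V hV hf => hV ▸ hf
  exact h3 _ e h2

variable {I : Type u} [SmallCategory I] [IsCofiltered I]

/-- A morphism which is finite over a compact open of a stage is an isomorphism over it at some stage. -/
theorem exists_iso_stage_open (D : I ⥤ Scheme.{u}) (c : Cone D) (hc : IsLimit c)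
    [∀ {i j} (f : i ⟶ j), IsAffineHom (D.map f)] (hd : ∀ i, IsSchemeTheoreticallyDominant (c.π.app i))
    (i : I) (W : (D.obj i).Opens) (hW : IsCompact (W : Set (D.obj i))) [IsFinite (c.π.app i ∣_ W)] :
    ∃ (j : I) (t : j ⟶ i), IsIso (c.π.app j ∣_ (D.map t ⁻¹ᵁ W)) := by
  classical
  haveI : ∀ k, IsAffineHom (c.π.app k) := fun k => isAffineHom_π_app D c hc k
  have key (x : W) : ∃ (U : (D.obj i).affineOpens) (_ : x.1 ∈ U.1) (_ : U.1 ≤ W) (k : I) (t : k ⟶ i),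
      ∀ (l : I) (v : l ⟶ k), Function.Surjective ((c.π.app l).app (D.map (v ≫ t) ⁻¹ᵁ U.1)).hom := by
    obtain ⟨_, ⟨U, hU, rfl⟩, hx, hUW⟩ :=
      (D.obj i).isBasis_affineOpens.exists_subset_of_mem_open x.2 W.isOpen
    replace hU : IsAffineOpen U := hU
    letI : Algebra Γ(D.obj i, U) Γ(c.pt, c.π.app i ⁻¹ᵁ U) := ((c.π.app i).app U).hom.toAlgebra
    haveI : Module.Finite Γ(D.obj i, U) Γ(c.pt, c.π.app i ⁻¹ᵁ U) :=
      RingHom.finite_algebraMap.mp (finite_app_of_le (c.π.app i) hU hUW)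
    obtain ⟨s, hs⟩ := Module.finite_def.mp ‹Module.Finite Γ(D.obj i, U) Γ(c.pt, c.π.app i ⁻¹ᵁ U)›
    choose j t e w hw using fun z : s => exists_section_stage D c hc i hU z.1
    obtain ⟨k, q, p, hp⟩ := IsCofiltered.wideCospan (fun z : s => t z)
    refine ⟨⟨U, hU⟩, hx, hUW, k, q, fun l v y => ?_⟩
    have hle : c.π.app i ⁻¹ᵁ U ≤ c.π.app l ⁻¹ᵁ (D.map (v ≫ q) ⁻¹ᵁ U) := by
      rw [← Scheme.Hom.comp_preimage, c.w]
    have hle' : c.π.app l ⁻¹ᵁ (D.map (v ≫ q) ⁻¹ᵁ U) ≤ c.π.app i ⁻¹ᵁ U := by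
      rw [← Scheme.Hom.comp_preimage, c.w]
    suffices h : ∀ z : Γ(c.pt, c.π.app i ⁻¹ᵁ U), ∃ z' : Γ(D.obj l, D.map (v ≫ q) ⁻¹ᵁ U),
        ((c.π.app l).appLE (D.map (v ≫ q) ⁻¹ᵁ U) (c.π.app i ⁻¹ᵁ U) hle).hom z' = z by
      obtain ⟨z', hz'⟩ := h ((c.pt.presheaf.map (homOfLE hle).op).hom y)
      refine ⟨z', ?_⟩
      have := congrArg (c.pt.presheaf.map (homOfLE hle').op).hom hz'
      have e3 : (c.π.app l).app (D.map (v ≫ q) ⁻¹ᵁ U) =
          (c.π.app l).appLE _ _ hle ≫ c.pt.presheaf.map (homOfLE hle').op := by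
        exact (Scheme.Hom.app_eq_appLE _).trans (Scheme.Hom.appLE_map _ hle (homOfLE hle').op).symm
      have e4 : c.pt.presheaf.map (homOfLE hle).op ≫ c.pt.presheaf.map (homOfLE hle').op = 𝟙 _ := by
        rw [← Functor.map_comp]
        exact (congrArg c.pt.presheaf.map (Subsingleton.elim _ (𝟙 _))).trans (CategoryTheory.Functor.map_id _ _)
      exact ((ConcreteCategory.congr_hom e3 z').trans this).trans (ConcreteCategory.congr_hom e4 y)
    intro z
    have hz : z ∈ Submodule.span Γ(D.obj i, U) (s : Set Γ(c.pt, c.π.app i ⁻¹ᵁ U)) := hs ▸ trivial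
    induction hz using Submodule.span_induction with
    | mem z hzs =>
      obtain ⟨z', rfl⟩ : ∃ z' : s, z'.1 = z := ⟨⟨z, hzs⟩, rfl⟩
      have hle2 : D.map (v ≫ q) ⁻¹ᵁ U ≤ D.map (v ≫ p z') ⁻¹ᵁ (D.map (t z') ⁻¹ᵁ U) := by
        rw [← Scheme.Hom.comp_preimage, ← Functor.map_comp, Category.assoc, hp z']
      refine ⟨((D.map (v ≫ p z')).appLE _ _ hle2).hom (w z'), ?_⟩
      refine Eq.trans ?_ (hw z')
      rw [← ConcreteCategory.comp_apply, Scheme.Hom.appLE_comp_appLE]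
      simp
    | zero => exact ⟨0, map_zero _⟩
    | add z₁ z₂ _ _ h₁ h₂ =>
      obtain ⟨a₁, rfl⟩ := h₁
      obtain ⟨a₂, rfl⟩ := h₂
      exact ⟨a₁ + a₂, map_add _ _ _⟩
    | smul a z _ h =>
      obtain ⟨z', rfl⟩ := h
      refine ⟨((D.map (v ≫ q)).appLE U _ le_rfl).hom a * z', ?_⟩
      rw [map_mul, Algebra.smul_def]
      congr 1
      rw [← ConcreteCategory.comp_apply, Scheme.Hom.appLE_comp_appLE]
      simp [RingHom.algebraMap_toAlgebra, Scheme.Hom.app_eq_appLE]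
  choose U hxU hUW k t hk using key
  obtain ⟨T, hT⟩ := hW.elim_finite_subcover (fun x => ((U x).1 : Set (D.obj i)))
    (fun x => (U x).1.2) (fun y hy => Set.mem_iUnion.mpr ⟨⟨y, hy⟩, hxU ⟨y, hy⟩⟩)
  obtain ⟨l, q, p, hp⟩ := IsCofiltered.wideCospan (fun x : T => t x.1)
  refine ⟨l, q, ?_⟩
  change MorphismProperty.isomorphisms Scheme (c.π.app l ∣_ (D.map q ⁻¹ᵁ W))
  rw [IsZariskiLocalAtTarget.iff_of_iSup_eq_top (P := MorphismProperty.isomorphisms Scheme)
    (fun x : T => (D.map q ⁻¹ᵁ W).ι ⁻¹ᵁ (D.map q ⁻¹ᵁ (U x.1).1)) (top_le_iff.mp fun y _ => by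
      obtain ⟨x, hxT, hy⟩ := Set.mem_iUnion₂.mp (hT (show D.map q y.1 ∈ (W : Set (D.obj i)) from y.2))
      exact TopologicalSpace.Opens.mem_iSup.mpr ⟨⟨x, hxT⟩, hy⟩)]
  intro x
  haveI := hd l
  have hs := hk x.1 l (p x)
  rw [hp x] at hs
  have hiso : IsIso (c.π.app l ∣_ (D.map q ⁻¹ᵁ (U x.1).1)) :=
    isIso_restrict_of_app_bijective (c.π.app l) ((U x.1).2.preimage _)
      ⟨(c.π.app l).app_injective _, hs⟩
  refine (MorphismProperty.arrow_mk_iso_iff (.isomorphisms _) (morphismRestrictRestrict _ _ _)).mpr ?_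
  have e : (D.map q ⁻¹ᵁ W).ι ''ᵁ ((D.map q ⁻¹ᵁ W).ι ⁻¹ᵁ (D.map q ⁻¹ᵁ (U x.1).1)) =
      D.map q ⁻¹ᵁ (U x.1).1 := by
    rw [Scheme.Hom.image_preimage_eq_opensRange_inf, Scheme.Opens.opensRange_ι,
      inf_eq_right.mpr (Scheme.Hom.preimage_mono _ (hUW x.1))]
  have h3 : ∀ V, V = D.map q ⁻¹ᵁ (U x.1).1 → IsIso (c.π.app l ∣_ V) := fun V hV => hV ▸ hiso
  exact h3 _ e

/-- Extension of a finite surjective morphism over the interior. -/
theorem exists_finite_extension {S : Scheme.{u}}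
    [CompactSpace S] [QuasiSeparatedSpace S] (J : S.IdealSheafData) (hJ : BlowUp.IsEffCartierIdeal J)
    {T₀ : Scheme.{u}} (t₀ : T₀ ⟶ (ModPair.interior J : Scheme.{u})) [IsFinite t₀] [Surjective t₀] :
    ∃ (T : Scheme.{u}) (t : T ⟶ S) (j : T₀ ⟶ T), IsFinite t ∧ Surjective t ∧
      BlowUp.IsEffCartierIdeal (J.comap t) ∧ IsOpenImmersion j ∧
      Set.range j.base = t.base ⁻¹' (ModPair.interior J : Set S) ∧
      j ≫ t = t₀ ≫ (ModPair.interior J).ι := by
  generalize hU : ModPair.interior J = U at t₀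
  haveI hιa : IsAffineHom U.ι := hU ▸ isAffineHom_interior (isLP_of_cart hJ)
  haveI hιd : IsSchemeTheoreticallyDominant U.ι := hU ▸ dominant_interior hJ
  -- the normalization of `S` in `T₀`
  generalize hf : t₀ ≫ U.ι = f
  haveI : IsAffineHom f := hf ▸ inferInstance
  haveI : LocallyOfFiniteType f := hf ▸ inferInstance
  haveI : LocallyQuasiFinite f := hf ▸ inferInstance
  let φ := f.toNormalization
  let n := f.fromNormalization
  obtain ⟨V, hV, hV'⟩ := f.exists_isIso_morphismRestrict_toNormalization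
  have hVtop : φ ⁻¹ᵁ V = ⊤ := top_le_iff.mp fun x _ => by
    have : x ∈ (φ ⁻¹ᵁ V).1 := by rw [hV']; exact f.quasiFiniteAt x
    exact this
  haveI : IsIso ((φ ⁻¹ᵁ V).ι) := by rw [hVtop]; exact inferInstanceAs (IsIso T₀.topIso.hom)
  haveI hφo : IsOpenImmersion φ := by
    haveI := hV
    rw [show φ = inv (φ ⁻¹ᵁ V).ι ≫ (φ ∣_ V) ≫ V.ι by rw [morphismRestrict_ι, IsIso.inv_hom_id_assoc]]
    infer_instance
  haveI hφd : IsSchemeTheoreticallyDominant φ := ⟨f.ker_toNormalization⟩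
  have hrange (x : T₀) : φ x ∈ n ⁻¹ᵁ U := by
    show n (φ x) ∈ U
    rw [← Scheme.Hom.comp_apply, f.toNormalization_fromNormalization, ← hf, Scheme.Hom.comp_apply]
    exact (t₀ x).2
  let φ' : T₀ ⟶ (n ⁻¹ᵁ U : Scheme.{u}) := IsOpenImmersion.lift (n ⁻¹ᵁ U).ι φ (by
    rw [Scheme.Opens.range_ι]; rintro _ ⟨x, rfl⟩; exact hrange x)
  have hφ' : φ' ≫ (n ⁻¹ᵁ U).ι = φ := IsOpenImmersion.lift_fac _ _ _
  have hφ'n : φ' ≫ (n ∣_ U) = t₀ := by
    rw [← cancel_mono U.ι, Category.assoc, morphismRestrict_ι, reassoc_of% hφ', hf]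
    exact f.toNormalization_fromNormalization
  haveI : IsProper (φ' ≫ (n ∣_ U)) := by rw [hφ'n]; infer_instance
  haveI : IsProper φ' := IsProper.of_comp φ' (n ∣_ U)
  have hφ'surj : ∀ y, y ∈ n ⁻¹ᵁ U → y ∈ Set.range φ := by
    intro y hy
    have hcl : IsClosed (Set.range φ') := φ'.isClosedMap.isClosed_range
    obtain ⟨O, hO, hOe⟩ : ∃ O : Set f.normalization, IsOpen O ∧ (n ⁻¹ᵁ U).ι ⁻¹' O = (Set.range φ')ᶜ :=
      ((n ⁻¹ᵁ U).ι.isOpenEmbedding.isInducing.isOpen_iff).mp hcl.isOpen_compl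
    by_contra hne
    have hyO : (⟨y, hy⟩ : (n ⁻¹ᵁ U)) ∈ (Set.range φ')ᶜ := fun ⟨x, hx⟩ => hne ⟨x, by
      rw [← hφ', Scheme.Hom.comp_apply, hx]; rfl⟩
    rw [← hOe] at hyO
    obtain ⟨x, hx⟩ := φ.denseRange.exists_mem_open hO ⟨y, hyO⟩
    have hx' : φ' x ∈ (n ⁻¹ᵁ U).ι ⁻¹' O := by
      show (n ⁻¹ᵁ U).ι (φ' x) ∈ O
      rw [← Scheme.Hom.comp_apply, hφ']; exact hx
    rw [hOe] at hx'
    exact hx' ⟨x, rfl⟩
  -- approximation of the normalization by images
  haveI : CompactSpace f.normalization := QuasiCompact.compactSpace_of_compactSpace n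
  haveI : QuasiSeparatedSpace f.normalization := quasiSeparatedSpace_of_quasiSeparated n
  obtain ⟨K, hp, hd, hne, D₀, p, hc₀, hobj, hmap⟩ := NApproxLib.exists_over_limit n
  let D₁ : Kᵒᵖ ⥤ Scheme.{u} := D₀ ⋙ Over.forget S
  let c₁ : Cone D₁ := (Over.forget S).mapCone (Cone.mk (Over.mk n) p)
  have hc₁ : IsLimit c₁ := isLimitOfPreserves (Over.forget S) hc₀
  haveI : ∀ {i j : Kᵒᵖ} (a : i ⟶ j), IsAffineHom (D₁.map a) := fun {i j} a => hmap i j a
  haveI : ∀ i, CompactSpace (D₁.obj i) := fun i => (hobj i).2.2.2.1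
  haveI : ∀ i, QuasiSeparatedSpace (D₁.obj i) := fun i => (hobj i).2.2.2.2.1
  let j₁ : f.normalization ⟶ c₁.pt := 𝟙 f.normalization
  haveI : ∀ i, IsAffineHom (c₁.π.app i) := fun i => isAffineHom_π_app D₁ c₁ hc₁ i
  haveI : ∀ i, QuasiCompact (j₁ ≫ c₁.π.app i) := fun i => inferInstance
  let E : Kᵒᵖ ⥤ Scheme.{u} := NApproxLib.imgSys D₁ c₁ j₁
  let cE : Cone E := NApproxLib.imgCone D₁ c₁ j₁
  obtain ⟨hcE⟩ := NApproxLib.nonempty_isLimit_imgCone D₁ c₁ hc₁ j₁
  haveI hEaff : ∀ {i j : Kᵒᵖ} (a : i ⟶ j), IsAffineHom (E.map a) := fun {i j} a => by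
    have h := (NApproxLib.exists_imgMap D₁ c₁ j₁ a).choose_spec.1
    haveI : IsAffineHom (E.map a ≫ (j₁ ≫ c₁.π.app j).imageι) := by
      show IsAffineHom ((NApproxLib.exists_imgMap D₁ c₁ j₁ a).choose ≫ _)
      rw [h]
      infer_instance
    exact MorphismProperty.of_postcomp (W := @IsAffineHom) (W' := @IsSeparated) (E.map a)
      (j₁ ≫ c₁.π.app j).imageι inferInstance ‹_›
  haveI hπd : ∀ i, IsSchemeTheoreticallyDominant (cE.π.app i) := fun i =>
    inferInstanceAs (IsSchemeTheoreticallyDominant (j₁ ≫ c₁.π.app i).toImage)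
  let tD : D₁ ⟶ (Functor.const Kᵒᵖ).obj S := { app := fun i => (D₀.obj i).hom }
  obtain ⟨i₀⟩ : Nonempty Kᵒᵖ := IsCofiltered.nonempty
  haveI : IsAffineHom (c₁.π.app i₀ ≫ tD.app i₀) := by
    show IsAffineHom ((p.app i₀).left ≫ (D₀.obj i₀).hom)
    exact (Over.w (p.app i₀)).symm ▸ (inferInstance : IsAffineHom n)
  obtain ⟨i₁, hi₁⟩ := AffLim.exists_isAffineHom_const tD c₁ hc₁ i₀
  let g (i : Kᵒᵖ) : E.obj i ⟶ S := (j₁ ≫ c₁.π.app i).imageι ≫ (D₀.obj i).hom
  have hπg (i : Kᵒᵖ) : cE.π.app i ≫ g i = n := by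
    show (j₁ ≫ c₁.π.app i).toImage ≫ _ ≫ _ = _
    rw [Scheme.Hom.toImage_imageι_assoc, Category.assoc, Category.id_comp]
    exact Over.w (p.app i)
  have hg {i j : Kᵒᵖ} (a : i ⟶ j) : E.map a ≫ g j = g i := by
    show (NApproxLib.exists_imgMap D₁ c₁ j₁ a).choose ≫ _ ≫ _ = _
    rw [← Category.assoc, (NApproxLib.exists_imgMap D₁ c₁ j₁ a).choose_spec.1, Category.assoc]
    show _ ≫ (D₀.map a).left ≫ _ = _
    rw [Over.w]
  -- finiteness of the stages past `i₁`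
  have hfin : ∀ i, (i ⟶ i₁) → IsFinite (g i) := fun i a => by
    haveI : IsAffineHom (D₀.obj i).hom := hi₁ i a
    haveI : IsAffineHom (g i) := inferInstance
    haveI : LocallyOfFinitePresentation (D₀.obj i).hom := (hobj i).1
    haveI : IsAffineHom (cE.π.app i) := isAffineHom_π_app E cE hcE i
    haveI : UniversallyClosed (cE.π.app i ≫ g i) := by rw [hπg]; infer_instance
    haveI : UniversallyClosed (cE.π.app i) := UniversallyClosed.of_comp_of_isSeparated _ (g i)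
    haveI : Surjective (cE.π.app i) := ⟨fun z => by
      have h1 : IsClosed (Set.range (cE.π.app i)) := (cE.π.app i).isClosedMap.isClosed_range
      have h2 : Dense (Set.range (cE.π.app i)) := (cE.π.app i).denseRange
      rw [dense_iff_closure_eq, h1.closure_eq] at h2
      exact (h2.symm ▸ Set.mem_univ z : z ∈ Set.range (cE.π.app i))⟩
    haveI : UniversallyClosed (g i) := .of_comp_surjective (cE.π.app i) (g i)
    rw [IsFinite.iff_isIntegralHom_and_locallyOfFiniteType, IsIntegralHom.iff_universallyClosed_and_isAffineHom]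
    exact ⟨⟨inferInstance, inferInstance⟩, inferInstance⟩
  haveI := hfin i₁ (𝟙 _)
  let W := g i₁ ⁻¹ᵁ U
  have hWc : IsCompact (W : Set (E.obj i₁)) := by
    haveI : CompactSpace U := isCompact_iff_compactSpace.mp (by
      haveI : CompactSpace U.toScheme := QuasiCompact.compactSpace_of_compactSpace U.ι
      exact isCompact_iff_compactSpace.mpr (inferInstanceAs (CompactSpace U.toScheme)))
    exact (g i₁).isCompact_preimage (isCompact_iff_compactSpace.mpr ‹CompactSpace U›)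
  have hpre (i : Kᵒᵖ) (a : i ⟶ i₁) : cE.π.app i ⁻¹ᵁ (E.map a ⁻¹ᵁ W) = n ⁻¹ᵁ U := by
    rw [← Scheme.Hom.comp_preimage, cE.w, ← Scheme.Hom.comp_preimage, hπg]
  haveI : IsFinite (cE.π.app i₁ ∣_ W) := by
    have hnU : IsFinite (n ∣_ U) := by
      haveI : IsIso φ' := by
        haveI : IsOpenImmersion φ' := by
          haveI : IsOpenImmersion (φ' ≫ (n ⁻¹ᵁ U).ι) := hφ'.symm ▸ hφo
          exact IsOpenImmersion.of_comp φ' (n ⁻¹ᵁ U).ι
        haveI : Surjective φ' := ⟨fun y => by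
          obtain ⟨x, hx⟩ := hφ'surj y.1 y.2
          refine ⟨x, (n ⁻¹ᵁ U).ι.isOpenEmbedding.injective ?_⟩
          rw [← Scheme.Hom.comp_apply, hφ', hx]; rfl⟩
        exact (isIso_iff_isOpenImmersion_and_surjective φ').mpr ⟨inferInstance, inferInstance⟩
      rw [show n ∣_ U = inv φ' ≫ t₀ by rw [IsIso.eq_inv_comp, hφ'n]]
      infer_instance
    haveI : IsFinite ((cE.π.app i₁ ∣_ W) ≫ (g i₁ ∣_ U)) := by
      rw [← morphismRestrict_comp]
      exact (show ∀ n', n' = n → IsFinite (n' ∣_ U) from fun n' h => by cases h; exact hnU) _ (hπg i₁)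
    exact MorphismProperty.of_postcomp (W := @IsFinite) (W' := @IsSeparated) _ (g i₁ ∣_ U) inferInstance ‹_›
  obtain ⟨l, a, hl⟩ := exists_iso_stage_open E cE hcE hπd i₁ W hWc
  haveI := hfin l a
  haveI := hl
  let j : T₀ ⟶ E.obj l := φ ≫ cE.π.app l
  have hjt : j ≫ g l = t₀ ≫ U.ι := by
    rw [Category.assoc, hπg, hf]; exact f.toNormalization_fromNormalization
  have hWl : E.map a ⁻¹ᵁ W = g l ⁻¹ᵁ U := by
    rw [← hg a, Scheme.Hom.comp_preimage]
  have hjo : IsOpenImmersion j := by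
    have hr : Set.range φ ⊆ Set.range (cE.π.app l ⁻¹ᵁ (E.map a ⁻¹ᵁ W)).ι := by
      rw [Scheme.Opens.range_ι, hpre]; rintro _ ⟨x, rfl⟩; exact hrange x
    haveI : IsOpenImmersion (IsOpenImmersion.lift (cE.π.app l ⁻¹ᵁ (E.map a ⁻¹ᵁ W)).ι φ hr ≫
        (cE.π.app l ⁻¹ᵁ (E.map a ⁻¹ᵁ W)).ι) := by
      rw [IsOpenImmersion.lift_fac]; exact hφo
    haveI : IsOpenImmersion (IsOpenImmersion.lift (cE.π.app l ⁻¹ᵁ (E.map a ⁻¹ᵁ W)).ι φ hr) :=
      IsOpenImmersion.of_comp _ (cE.π.app l ⁻¹ᵁ (E.map a ⁻¹ᵁ W)).ι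
    rw [show j = IsOpenImmersion.lift (cE.π.app l ⁻¹ᵁ (E.map a ⁻¹ᵁ W)).ι φ hr ≫
        (cE.π.app l ∣_ (E.map a ⁻¹ᵁ W)) ≫ (E.map a ⁻¹ᵁ W).ι by
      rw [morphismRestrict_ι, IsOpenImmersion.lift_fac_assoc]]
    infer_instance
  haveI : IsAffineHom (cE.π.app l) := isAffineHom_π_app E cE hcE l
  haveI hjd : IsSchemeTheoreticallyDominant j := inferInstance
  haveI : QuasiCompact φ := inferInstanceAs (QuasiCompact f.toNormalization)
  haveI : QuasiCompact j := inferInstance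
  refine ⟨E.obj l, g l, j, inferInstance, ?_, ?_, hjo, ?_, hjt.trans hf⟩
  · refine ⟨fun s => ?_⟩
    have h1 : IsClosed (Set.range (g l)) := (g l).isClosedMap.isClosed_range
    have h2 : (U : Set S) ⊆ Set.range (g l) := fun s hs => by
      obtain ⟨x, hx⟩ := t₀.surjective ⟨s, hs⟩
      refine ⟨j x, ?_⟩
      rw [← Scheme.Hom.comp_apply, hjt, Scheme.Hom.comp_apply, hx]; rfl
    have h3 : Dense (U : Set S) := by
      have h := U.ι.denseRange
      rwa [DenseRange, Scheme.Opens.range_ι] at h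
    have h4 : closure (Set.range (g l)) = Set.univ := (h3.mono h2).closure_eq
    rw [h1.closure_eq] at h4
    exact (h4.symm ▸ Set.mem_univ s : s ∈ Set.range (g l))
  · refine cart_of_dominant ((isLP_of_cart hJ).comap (g l)) j fun x => ?_
    rw [mem_interior, Scheme.IdealSheafData.support_comap]
    show g l (j x) ∉ J.support
    rw [← Scheme.Hom.comp_apply, hjt, Scheme.Hom.comp_apply]
    exact (hU.symm ▸ (t₀ x).2 : (t₀ x).1 ∈ ModPair.interior J)
  · ext z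
    constructor
    · rintro ⟨x, rfl⟩
      show g l (j x) ∈ U
      rw [← Scheme.Hom.comp_apply, hjt, Scheme.Hom.comp_apply]
      exact (t₀ x).2
    · intro hz
      have hz' : z ∈ E.map a ⁻¹ᵁ W := by rw [hWl]; exact hz
      obtain ⟨y, hy⟩ := (cE.π.app l ∣_ (E.map a ⁻¹ᵁ W)).surjective ⟨z, hz'⟩
      have hy' : y.1 ∈ n ⁻¹ᵁ U := hpre l a ▸ y.2
      obtain ⟨x, hx⟩ := hφ'surj y.1 hy'
      refine ⟨x, ?_⟩
      show cE.π.app l (φ x) = z
      rw [hx]
      have h5 := congrArg (E.map a ⁻¹ᵁ W).ι hy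
      rw [← Scheme.Hom.comp_apply, morphismRestrict_ι, Scheme.Hom.comp_apply] at h5
      exact h5

end Groth.Agent.ModPairLib
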