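import Mathlib
import Groth.Agent.ModPairLib.Cartier
import Groth.Agent.ModPairLib.Pair
import Groth.Agent.BlowExistsLib.Glue
import Groth.Agent.BlowExistsLib.Proper
import Groth.Agent.S19336

/-!
Modulus pairs which are local for Zariski coverings and abstract admissible blow-ups.
-/

set_option autoImplicit false
set_option backward.isDefEq.respectTransparency false
set_option backward.isDefEq.respectTransparency.types false
set_option backward.defeqAttrib.useBackward true
set_option linter.style.haveILetI false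
set_option maxHeartbeats 800000

universe u

open CategoryTheory CategoryTheory.Limits AlgebraicGeometry

namespace Groth.Agent.ModPairLib

/-- `P` is local for Zariski coverings of modulus pairs. -/
def ZarLocal (P : ModPair.Pair.{u}) : Prop :=
  ∀ (X : ModPair.Pair.{u}) (ι : Type u) (U : ι → ModPair.Pair.{u}) (v : ∀ i, U i ⟶ X),
    (∀ i, ModPair.IsMinimal (U i).mod X.mod (v i).hom ∧ IsOpenImmersion (v i).hom ∧
      QuasiCompact (v i).hom) →
    (∀ x : X.total, ∃ (i : ι) (y : (U i).total), (v i).hom.base y = x) →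
    ∀ g : P ⟶ X, ∃ (i : ι) (h : P ⟶ U i), h ≫ v i = g

/-- `P` is local for abstract admissible blow-ups. -/
def BlowLocal (P : ModPair.Pair.{u}) : Prop :=
  ∀ (Q X : ModPair.Pair.{u}) (q : Q ⟶ X), ModPair.Pair.admBlowup q → ∀ g : P ⟶ X, ∃ h : P ⟶ Q, h ≫ q = g

theorem hom_eq {P Q : ModPair.Pair.{u}} {f g : P ⟶ Q} (h : f = g) : f.hom = g.hom := by rw [h]

/-- The pullback pair along an open immersion. -/
noncomputable def openPair (P : ModPair.Pair.{u}) (U : P.total.Opens) : ModPair.Pair.{u} :=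
  ⟨U.toScheme, P.mod.comap U.ι, BlowCompLib.isEffCartier_comap_openImmersion P.isEffCartier U.ι⟩

noncomputable def openHom (P : ModPair.Pair.{u}) (U : P.total.Opens) : openPair P U ⟶ P :=
  ⟨U.ι, le_refl _⟩

/-- A morphism to a pair factors through some member of a covering by compact opens. -/
theorem exists_range_le {P X : ModPair.Pair.{u}} (hP : ZarLocal P) [QuasiSeparatedSpace X.total]
    {ι : Type u} (U : ι → X.total.Opens) (hc : ∀ i, IsCompact (U i : Set X.total)) (hU : ⨆ i, U i = ⊤)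
    (g : P ⟶ X) : ∃ i, ∀ z, g.hom z ∈ U i := by
  obtain ⟨i, h, hh⟩ := hP X ι (fun i => openPair X (U i)) (fun i => openHom X (U i))
    (fun i => ⟨rfl, inferInstanceAs (IsOpenImmersion (U i).ι), by
      haveI : CompactSpace (U i).toScheme := isCompact_iff_compactSpace.mp (hc i)
      exact quasiCompact_of_compactSpace (U i).ι⟩)
    (fun x => by
      obtain ⟨i, hx⟩ := TopologicalSpace.Opens.mem_iSup.mp (hU.ge (trivial : x ∈ (⊤ : X.total.Opens)))
      exact ⟨i, ⟨x, hx⟩, rfl⟩) g
  refine ⟨i, fun z => ?_⟩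
  have e : g.hom = h.hom ≫ (U i).ι := (hom_eq hh).symm
  rw [e, Scheme.Hom.comp_apply]
  exact (h.hom z).2

theorem eq_top_of_cover {P : ModPair.Pair.{u}} (hP : ZarLocal P) [QuasiSeparatedSpace P.total]
    {ι : Type u} (U : ι → P.total.Opens) (hc : ∀ i, IsCompact (U i : Set P.total)) (hU : ⨆ i, U i = ⊤) :
    ∃ i, U i = ⊤ :=
  (exists_range_le hP U hc hU (𝟙 P)).imp fun _ h => top_le_iff.mp fun z _ => h z

theorem isAffine_total {P : ModPair.Pair.{u}} (hP : ZarLocal P) [QuasiSeparatedSpace P.total] :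
    IsAffine P.total := by
  obtain ⟨U, hU⟩ := eq_top_of_cover hP (fun U : P.total.affineOpens => U.1) (fun U => U.2.isCompact)
    (iSup_affineOpens_eq_top _)
  have h := U.2
  rw [hU] at h
  haveI : IsAffine ((⊤ : P.total.Opens) : Scheme.{u}) := h
  exact IsAffine.of_isIso P.total.topIso.inv

/-- A local ring of sections, from the covering property. -/
theorem isLocalRing_of_cover {X : Scheme.{u}} [IsAffine X]
    (h : ∀ (ι : Type u) (U : ι → X.Opens), (∀ i, IsCompact (U i : Set X)) → ⨆ i, U i = ⊤ → ∃ i, U i = ⊤) :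
    IsLocalRing Γ(X, ⊤) := by
  have hnt : Nontrivial Γ(X, ⊤) := by
    by_contra hn
    rw [not_nontrivial_iff_subsingleton] at hn
    haveI : IsEmpty (Spec Γ(X, ⊤)) := inferInstanceAs (IsEmpty (PrimeSpectrum Γ(X, ⊤)))
    haveI : IsEmpty X := Function.isEmpty X.isoSpec.hom
    obtain ⟨i, -⟩ := h PEmpty PEmpty.elim (fun i => i.elim) (top_le_iff.mp fun x _ => IsEmpty.elim ‹_› x)
    exact i.elim
  haveI := hnt
  refine IsLocalRing.of_isUnit_or_isUnit_one_sub_self fun a => ?_
  let b : ULift.{u} Bool → Γ(X, ⊤) := fun c => if c.down then a else 1 - a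
  obtain ⟨c, hc⟩ := h (ULift.{u} Bool) (fun c => X.basicOpen (b c))
    (fun c => ((isAffineOpen_top X).basicOpen (b c)).isCompact) (by
      refine ((isAffineOpen_top X).iSup_basicOpen_eq_self_iff (s := Set.range b)).mpr ?_ |>.symm.trans ?_ |>.symm
      · rw [Ideal.eq_top_iff_one]
        have : (1 : Γ(X, ⊤)) = b ⟨true⟩ + b ⟨false⟩ := by simp [b]
        rw [this]
        exact Ideal.add_mem _ (Ideal.subset_span ⟨_, rfl⟩) (Ideal.subset_span ⟨_, rfl⟩)
      · exact le_antisymm (iSup_le fun f => by obtain ⟨_, c, rfl⟩ := f; exact le_iSup (fun c => X.basicOpen (b c)) c)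
          (iSup_le fun c => le_iSup (fun f : Set.range b => X.basicOpen f.1) ⟨b c, c, rfl⟩))
  have hu : IsUnit (b c) :=
    X.toLocallyRingedSpace.toRingedSpace.isUnit_of_isUnit_germ ⊤ (b c) fun x hx =>
      (X.mem_basicOpen (b c) x trivial).mp (by rw [hc]; trivial)
  rcases c with ⟨_ | _⟩
  · exact Or.inr hu
  · exact Or.inl hu

/-- A compact open covering of the interior has a member equal to the interior. -/
theorem interior_cover {P : ModPair.Pair.{u}} (hZ : ZarLocal P) (hB : BlowLocal P)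
    [CompactSpace P.total] [QuasiSeparatedSpace P.total]
    {ι : Type u} (V : ι → P.total.Opens) (hle : ∀ i, V i ≤ ModPair.interior P.mod)
    (hc : ∀ i, IsCompact (V i : Set P.total)) (hV : ModPair.interior P.mod ≤ ⨆ i, V i) :
    ∃ i, V i = ModPair.interior P.mod := by
  obtain ⟨F, Y, b, κ, W, hF, hb, hY, hWc, hW, hWV⟩ :=
    Groth.Agent.S19336.result P.mod P.isEffCartier V hle hc hV
  let YP : ModPair.Pair.{u} := ⟨Y, P.mod.comap b, hY⟩
  let q : YP ⟶ P := ⟨b, le_refl _⟩
  haveI : IsProper b := BlowExistsLib.isProper_of_FG hb hF.1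
  haveI hiso : IsIso (b ∣_ ModPair.interior F) := BlowCompLib.isIso_restrict F b hb
  have hq : ModPair.Pair.admBlowup q := by
    refine ⟨rfl, ‹IsProper b›, ?_⟩
    have sq : IsPullback (𝟙 Y) b b (𝟙 P.total) := IsPullback.of_id_fst
    refine isIso_restrict_baseChange sq (ModPair.interior F) (ModPair.interior P.mod) fun x hx => ?_
    exact fun hxF => Set.disjoint_left.mp hF.2 hxF hx
  obtain ⟨h, hh⟩ := hB YP P q hq (𝟙 P)
  haveI : QuasiSeparatedSpace YP.total := quasiSeparatedSpace_of_quasiSeparated b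
  obtain ⟨k, hk⟩ := exists_range_le hZ (X := YP) W hWc hW h
  obtain ⟨i, hi⟩ := hWV k
  refine ⟨i, le_antisymm (hle i) fun x hx => ?_⟩
  have e : h.hom ≫ b = 𝟙 P.total := hom_eq hh
  have e' : b (h.hom x) = x := by rw [← Scheme.Hom.comp_apply, e]; rfl
  have h2 : h.hom x ∈ b ⁻¹ᵁ V i := hi ⟨hk x, show b (h.hom x) ∈ ModPair.interior P.mod from e'.symm ▸ hx⟩
  exact e' ▸ h2

theorem interior_affine_local {P : ModPair.Pair.{u}} (hZ : ZarLocal P) (hB : BlowLocal P)
    [CompactSpace P.total] [QuasiSeparatedSpace P.total] :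
    IsAffine (ModPair.interior P.mod : Scheme.{u}) ∧
      IsLocalRing Γ((ModPair.interior P.mod : Scheme.{u}), ⊤) := by
  let U := ModPair.interior P.mod
  have key : ∀ (ι : Type u) (V : ι → (U : Scheme.{u}).Opens), (∀ i, IsCompact (V i : Set (U : Scheme.{u}))) →
      ⨆ i, V i = ⊤ → ∃ i, V i = ⊤ := by
    intro ι V hc hV
    obtain ⟨i, hi⟩ := interior_cover hZ hB (fun i => U.ι ''ᵁ V i) (fun i => U.ι_image_le _) (fun i => by
      rw [Scheme.Hom.coe_image]
      exact (hc i).image U.ι.continuous) (fun x hx => by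
      obtain ⟨i, hxi⟩ := TopologicalSpace.Opens.mem_iSup.mp (hV.ge (trivial : (⟨x, hx⟩ : U) ∈ (⊤ : U.toScheme.Opens)))
      exact TopologicalSpace.Opens.mem_iSup.mpr ⟨i, ⟨x, hx⟩, hxi, rfl⟩)
    refine ⟨i, ?_⟩
    rw [← U.ι.preimage_image_eq (V i), hi]
    exact U.ι_preimage_self
  haveI : IsAffine (U : Scheme.{u}) := by
    obtain ⟨V, hV⟩ := key _ (fun V : (U : Scheme.{u}).affineOpens => V.1) (fun V => V.2.isCompact)
      (iSup_affineOpens_eq_top _)
    have h := V.2
    rw [hV] at h
    haveI : IsAffine ((⊤ : (U : Scheme.{u}).Opens) : Scheme.{u}) := h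
    exact IsAffine.of_isIso (U : Scheme.{u}).topIso.inv
  exact ⟨inferInstance, isLocalRing_of_cover key⟩

/-- In an affine scheme with local ring the closed point lies in all nonempty closed sets. -/
theorem eq_top_of_mem_closed {X : Scheme.{u}} [IsAffine X] [IsLocalRing Γ(X, ⊤)] {p : X}
    (hp : IsClosed ({p} : Set X)) (O : X.Opens) (hO : p ∈ O) : O = ⊤ := by
  refine top_le_iff.mp fun z _ => ?_
  have hs : ∀ w : X, w ⤳ X.isoSpec.inv (IsLocalRing.closedPoint Γ(X, ⊤)) := fun w => by
    have h := (IsLocalRing.specializes_closedPoint (X.isoSpec.hom w)).map X.isoSpec.inv.continuous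
    rwa [← Scheme.Hom.comp_apply, Iso.hom_inv_id] at h
  have he : X.isoSpec.inv (IsLocalRing.closedPoint Γ(X, ⊤)) = p := by
    have h := (hs p).mem_closed hp (Set.mem_singleton p)
    exact h
  exact (hs z).mem_open O.isOpen (he ▸ hO)

variable {P : ModPair.Pair.{u}} [IsAffine P.total] [IsAffine (ModPair.interior P.mod : Scheme.{u})]
  [IsLocalRing Γ((ModPair.interior P.mod : Scheme.{u}), ⊤)] {p : (ModPair.interior P.mod : Scheme.{u})}

/-- The prime of `Γ(P.total)` of a point of the interior. -/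
noncomputable abbrev primeOf (p : (ModPair.interior P.mod : Scheme.{u})) : Ideal Γ(P.total, ⊤) :=
  (P.total.toSpecΓ.base ((ModPair.interior P.mod).ι.base p)).asIdeal

omit [IsAffine P.total] in
theorem interior_le_basicOpen (hp : IsClosed ({p} : Set (ModPair.interior P.mod : Scheme.{u})))
    {a : Γ(P.total, ⊤)} (ha : a ∉ (primeOf p)) : ModPair.interior P.mod ≤ P.total.basicOpen a := by
  have h1 : (ModPair.interior P.mod).ι p ∈ P.total.basicOpen a := by
    rw [← Scheme.toSpecΓ_preimage_basicOpen]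
    exact ha
  have h2 := eq_top_of_mem_closed hp ((ModPair.interior P.mod).ι ⁻¹ᵁ P.total.basicOpen a) h1
  intro x hx
  exact h2.ge (show (⟨x, hx⟩ : (ModPair.interior P.mod).toScheme) ∈ (⊤ : (ModPair.interior P.mod).toScheme.Opens) from trivial)

omit [IsAffine P.total] in
theorem nzd_of_notMem (hp : IsClosed ({p} : Set (ModPair.interior P.mod : Scheme.{u})))
    {a : Γ(P.total, ⊤)} (ha : a ∉ (primeOf p)) : a ∈ nonZeroDivisors Γ(P.total, ⊤) := by
  haveI := isAffineHom_interior (isLP_of_cart P.isEffCartier)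
  haveI := dominant_interior P.isEffCartier
  rw [mem_nonZeroDivisors_iff_right]
  intro x hx
  apply (ModPair.interior P.mod).ι.app_injective ⊤
  rw [map_zero]
  have hu : IsUnit ((ModPair.interior P.mod).ι.app ⊤ a) := by
    refine (ModPair.interior P.mod).toScheme.toLocallyRingedSpace.toRingedSpace.isUnit_of_isUnit_germ _ _
      fun z hz => ((ModPair.interior P.mod).toScheme.mem_basicOpen _ z hz).mp ?_
    rw [← Scheme.preimage_basicOpen]
    exact interior_le_basicOpen hp ha z.2
  refine (hu.mul_left_eq_zero).mp ?_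
  rw [← map_mul, hx, map_zero]

/-- Admissible blow-ups make ideals with a member outside `𝔮` principal. -/
theorem dvd_or_dvd (hB : BlowLocal P) [IsLocalRing Γ(P.total, ⊤)]
    (hp : IsClosed ({p} : Set (ModPair.interior P.mod : Scheme.{u})))
    (a : Γ(P.total, ⊤)) {b : Γ(P.total, ⊤)} (hb : b ∉ (primeOf p)) : a ∣ b ∨ b ∣ a := by
  let K : P.total.IdealSheafData := Scheme.IdealSheafData.ofIdealTop (Ideal.span {a, b})
  have hKfg : BlowUp.IsFiniteTypeIdeal K := fun V => by
    rw [Scheme.IdealSheafData.ofIdealTop_ideal]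
    exact Ideal.FG.map (Submodule.fg_span (Set.toFinite ({a, b} : Set Γ(P.total, ⊤)))) _
  have hKU : ∀ x ∈ ModPair.interior P.mod, x ∉ K.support := fun x hx hmem => by
    have h1 := (Scheme.IdealSheafData.mem_support_iff_of_mem (U := ⟨⊤, isAffineOpen_top _⟩)
      (show x ∈ (⊤ : P.total.Opens) from trivial)).mp hmem
    rw [Scheme.mem_zeroLocus_iff] at h1
    refine h1 b ?_ (interior_le_basicOpen hp hb hx)
    rw [Scheme.IdealSheafData.ofIdealTop_ideal]
    have h2 : b ∈ Ideal.span {a, b} := Ideal.subset_span (by simp)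
    have := Ideal.mem_map_of_mem (P.total.presheaf.map (homOfLE (le_top : (⊤ : P.total.Opens) ≤ ⊤)).op).hom h2
    simpa using this
  obtain ⟨Y, β, hβ⟩ := BlowExistsLib.exists_isBlowUp (𝓘 := K)
  have hY : BlowUp.IsEffCartierIdeal (P.mod.comap β) := by
    haveI : IsSchemeTheoreticallyDominant (Scheme.Opens.ι (X := Y) (K.comap β).support.compl) :=
      dominant_interior hβ.1
    haveI : IsAffineHom (Scheme.Opens.ι (X := Y) (K.comap β).support.compl) :=
      isAffineHom_interior (isLP_of_cart hβ.1)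
    exact BlowCompLib.isEffCartier_comap_of_blowUp K β hβ P.isEffCartier
  let YP : ModPair.Pair.{u} := ⟨Y, P.mod.comap β, hY⟩
  let q : YP ⟶ P := ⟨β, le_refl _⟩
  haveI : IsProper β := BlowExistsLib.isProper_of_FG hβ hKfg
  haveI hiso : IsIso (β ∣_ ModPair.interior K) := BlowCompLib.isIso_restrict K β hβ
  have hq : ModPair.Pair.admBlowup q := by
    refine ⟨rfl, ‹IsProper β›, ?_⟩
    have sq : IsPullback (𝟙 Y) β β (𝟙 P.total) := IsPullback.of_id_fst
    exact isIso_restrict_baseChange sq (ModPair.interior K) (ModPair.interior P.mod) fun x hx => hKU x hx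
  obtain ⟨h, hh⟩ := hB YP P q hq (𝟙 P)
  have e : h.hom ≫ β = 𝟙 P.total := hom_eq hh
  have hlp : IsLP K := by
    have h1 := (isLP_of_cart hβ.1).comap h.hom
    rwa [← Scheme.IdealSheafData.comap_comp, e, Scheme.IdealSheafData.comap_id] at h1
  obtain ⟨V, hV, c, hc⟩ := hlp (P.total.isoSpec.inv (IsLocalRing.closedPoint Γ(P.total, ⊤)))
  have hclosed : IsClosed ({P.total.isoSpec.inv (IsLocalRing.closedPoint Γ(P.total, ⊤))} : Set P.total) := by
    have h1 : IsClosed ({IsLocalRing.closedPoint Γ(P.total, ⊤)} : Set (PrimeSpectrum Γ(P.total, ⊤))) :=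
      IsLocalRing.isClosed_singleton_closedPoint Γ(P.total, ⊤)
    simpa using P.total.isoSpec.inv.isClosedMap _ h1
  have hVtop : V = (⟨⊤, isAffineOpen_top _⟩ : P.total.affineOpens) :=
    Subtype.ext (eq_top_of_mem_closed hclosed V.1 hV)
  subst hVtop
  have hspan : Ideal.span {a, b} = Ideal.span {c} := by
    have h1 := hc
    rw [Scheme.IdealSheafData.ofIdealTop_ideal] at h1
    have h2 : P.total.presheaf.map (homOfLE (le_top : (⊤ : P.total.Opens) ≤ ⊤)).op = 𝟙 _ := by
      exact (congrArg P.total.presheaf.map (Subsingleton.elim _ (𝟙 _))).trans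
        (CategoryTheory.Functor.map_id _ _)
    simpa [h2, Ideal.map_id] using h1
  obtain ⟨a', ha'⟩ := Ideal.mem_span_singleton'.mp (hspan ▸ Ideal.subset_span (by simp : a ∈ ({a, b} : Set _)))
  obtain ⟨b', hb'⟩ := Ideal.mem_span_singleton'.mp (hspan ▸ Ideal.subset_span (by simp : b ∈ ({a, b} : Set _)))
  obtain ⟨x, y, hxy⟩ := Ideal.mem_span_pair.mp (hspan.symm ▸ Ideal.mem_span_singleton_self c)
  have hcn : c ∈ nonZeroDivisors Γ(P.total, ⊤) :=
    (mul_mem_nonZeroDivisors.mp (show b' * c ∈ _ from hb'.symm ▸ nzd_of_notMem hp hb)).2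
  have h1 : x * a' + y * b' = 1 := by
    refine (mul_cancel_right_mem_nonZeroDivisors hcn).mp ?_
    rw [one_mul, add_mul, mul_assoc, mul_assoc, ha', hb']
    exact hxy
  rcases IsLocalRing.isUnit_or_isUnit_of_add_one h1 with hu | hu
  · left
    have hu' := (IsUnit.mul_iff.mp hu).2
    rw [← hb', ← ha', mul_comm a' c, mul_comm b' c]
    exact mul_dvd_mul_left c (hu'.dvd)
  · right
    have hu' := (IsUnit.mul_iff.mp hu).2
    rw [← hb', ← ha', mul_comm a' c, mul_comm b' c]
    exact mul_dvd_mul_left c (hu'.dvd)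

/-- The forward direction of the characterisation at the closed point of the interior. -/
theorem valuation_bijOn (hB : BlowLocal P) [IsLocalRing Γ(P.total, ⊤)]
    (hp : IsClosed ({p} : Set (ModPair.interior P.mod : Scheme.{u}))) :
    ValuationRing (Γ(P.total, ⊤) ⧸ (primeOf p)) ∧
      Set.BijOn (algebraMap Γ(P.total, ⊤) (Localization.AtPrime (primeOf p)))
        ((primeOf p) : Set Γ(P.total, ⊤))
        (IsLocalRing.maximalIdeal (Localization.AtPrime (primeOf p)) : Set (Localization.AtPrime (primeOf p))) := by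
  refine ⟨ValuationRing.iff_dvd_total.mpr ⟨fun x y => ?_⟩, ?_, ?_, ?_⟩
  · obtain ⟨a, rfl⟩ := Ideal.Quotient.mk_surjective x
    obtain ⟨b, rfl⟩ := Ideal.Quotient.mk_surjective y
    by_cases hb : b ∈ (primeOf p)
    · left
      rw [Ideal.Quotient.eq_zero_iff_mem.mpr hb]
      exact dvd_zero _
    · exact (dvd_or_dvd hB hp a hb).imp (map_dvd _) (map_dvd _)
  · intro a ha
    exact (IsLocalization.AtPrime.to_map_mem_maximal_iff (Localization.AtPrime (primeOf p)) (primeOf p) a).mpr ha
  · intro a ha b hb hab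
    obtain ⟨s, hs⟩ := (IsLocalization.eq_iff_exists (primeOf p).primeCompl (Localization.AtPrime (primeOf p))).mp hab
    exact (mul_cancel_left_mem_nonZeroDivisors (nzd_of_notMem hp s.2)).mp hs
  · intro z hz
    obtain ⟨⟨a, s⟩, rfl⟩ : ∃ x : Γ(P.total, ⊤) × (primeOf p).primeCompl, IsLocalization.mk' _ x.1 x.2 = z :=
      ⟨IsLocalization.sec (primeOf p).primeCompl z, IsLocalization.mk'_sec _ z⟩
    have ha : a ∈ (primeOf p) := (IsLocalization.AtPrime.mk'_mem_maximal_iff (Localization.AtPrime (primeOf p)) (primeOf p) a s).mp hz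
    have hsa : (s : Γ(P.total, ⊤)) ∣ a := by
      rcases dvd_or_dvd hB hp a (b := (s : Γ(P.total, ⊤))) s.2 with ⟨r, hr⟩ | h
      · exact absurd (hr ▸ Ideal.mul_mem_right r (primeOf p) ha) s.2
      · exact h
    obtain ⟨r, hr⟩ := hsa
    refine ⟨r, (Ideal.IsPrime.mem_or_mem inferInstance (hr ▸ ha)).resolve_left s.2, ?_⟩
    rw [IsLocalization.eq_mk'_iff_mul_eq, hr, map_mul, mul_comm]

end Groth.Agent.ModPairLib
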