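import Mathlib
import Groth.Agent.ModPairLib.Local

/-!
A glueing of a valuation ring along a local ring is local for proper modifications and open coverings.
-/

set_option autoImplicit false
set_option backward.isDefEq.respectTransparency false
set_option backward.isDefEq.respectTransparency.types false
set_option backward.defeqAttrib.useBackward true
set_option linter.style.haveILetI false
set_option maxHeartbeats 800000

universe u

open CategoryTheory CategoryTheory.Limits AlgebraicGeometry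

namespace Groth.Agent.ModPairLib

/-- Lifting along a proper morphism from the fibre product of a valuation ring and a local ring. -/
theorem exists_lift_gluing {A : Type u} [CommRing A] [IsLocalRing A] (𝔮 : Ideal A) [𝔮.IsPrime]
    [ValuationRing (A ⧸ 𝔮)]
    (hbij : Set.BijOn (algebraMap A (Localization.AtPrime 𝔮)) (𝔮 : Set A)
      (IsLocalRing.maximalIdeal (Localization.AtPrime 𝔮) : Set (Localization.AtPrime 𝔮)))
    {Q X : Scheme.{u}} (q : Q ⟶ X) [IsProper q] (g : Spec (CommRingCat.of A) ⟶ X)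
    (σ : Spec (CommRingCat.of (Localization.AtPrime 𝔮)) ⟶ Q)
    (hσ : σ ≫ q = Spec.map (CommRingCat.ofHom (algebraMap A (Localization.AtPrime 𝔮))) ≫ g) :
    ∃ h : Spec (CommRingCat.of A) ⟶ Q, h ≫ q = g := by
  let R := Localization.AtPrime 𝔮
  let K := IsLocalRing.ResidueField R
  let ιR := algebraMap A R
  let π : R →+* K := IsLocalRing.residue R
  letI : Algebra (A ⧸ 𝔮) K := inferInstanceAs (Algebra (A ⧸ 𝔮) 𝔮.ResidueField)
  haveI : IsFractionRing (A ⧸ 𝔮) K := inferInstanceAs (IsFractionRing (A ⧸ 𝔮) 𝔮.ResidueField)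
  let ιV : (A ⧸ 𝔮) →+* K := algebraMap (A ⧸ 𝔮) K
  have hfac : ιV.comp (Ideal.Quotient.mk 𝔮) = π.comp ιR := RingHom.ext fun a =>
    (IsScalarTower.algebraMap_apply A (A ⧸ 𝔮) 𝔮.ResidueField a).symm.trans rfl
  have hcomm : (Spec.map (CommRingCat.ofHom π) ≫ σ) ≫ q =
      Spec.map (CommRingCat.ofHom ιV) ≫ Spec.map (CommRingCat.ofHom (Ideal.Quotient.mk 𝔮)) ≫ g := by
    rw [Category.assoc, hσ, ← Spec.map_comp_assoc, ← Spec.map_comp_assoc, ← CommRingCat.ofHom_comp,
      ← CommRingCat.ofHom_comp, hfac]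
  have hex : ValuativeCriterion.Existence q := by
    have h : UniversallyClosed q := inferInstance
    rw [UniversallyClosed.eq_valuativeCriterion] at h
    exact h.1
  obtain ⟨⟨⟨l, hl₁, hl₂⟩⟩⟩ := hex
    { R := A ⧸ 𝔮, K := K, i₁ := Spec.map (CommRingCat.ofHom π) ≫ σ,
      i₂ := Spec.map (CommRingCat.ofHom (Ideal.Quotient.mk 𝔮)) ≫ g, commSq := ⟨hcomm⟩ }
  -- an affine neighbourhood of the image of the closed point
  obtain ⟨W, hW, hyW⟩ : ∃ W : Q.Opens, IsAffineOpen W ∧ l (IsLocalRing.closedPoint (A ⧸ 𝔮)) ∈ W := by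
    obtain ⟨_, ⟨W, hW, rfl⟩, hyW, -⟩ := Q.isBasis_affineOpens.exists_subset_of_mem_open
      (Set.mem_univ (l (IsLocalRing.closedPoint (A ⧸ 𝔮)))) isOpen_univ
    exact ⟨W, hW, hyW⟩
  haveI : IsAffine (W : Scheme.{u}) := hW
  have hlW : Set.range l ⊆ Set.range W.ι := by
    rw [Scheme.Opens.range_ι]
    rintro _ ⟨z, rfl⟩
    exact ((IsLocalRing.specializes_closedPoint z).map l.continuous).mem_open W.isOpen hyW
  have hσW : Set.range σ ⊆ Set.range W.ι := by
    rw [Scheme.Opens.range_ι]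
    rintro _ ⟨z, rfl⟩
    refine ((IsLocalRing.specializes_closedPoint z).map σ.continuous).mem_open W.isOpen ?_
    have h1 : Spec.map (CommRingCat.ofHom π) (IsLocalRing.closedPoint K) = IsLocalRing.closedPoint R :=
      IsLocalRing.comap_closedPoint π
    have h2 := congrArg (fun m : Spec (CommRingCat.of K) ⟶ Q => m (IsLocalRing.closedPoint K)) hl₁
    have h3 : σ (IsLocalRing.closedPoint R) = l (Spec.map (CommRingCat.ofHom ιV) (IsLocalRing.closedPoint K)) := by
      rw [← h1, ← Scheme.Hom.comp_apply, ← Scheme.Hom.comp_apply]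
      exact h2.symm
    rw [h3]
    exact (((IsLocalRing.specializes_closedPoint _).map l.continuous)).mem_open W.isOpen hyW
  obtain ⟨mV, hmV⟩ : ∃ m, m ≫ (W : Scheme.{u}).isoSpec.inv ≫ W.ι = l :=
    ⟨IsOpenImmersion.lift W.ι l hlW ≫ (W : Scheme.{u}).isoSpec.hom, by simp⟩
  obtain ⟨mR, hmR⟩ : ∃ m, m ≫ (W : Scheme.{u}).isoSpec.inv ≫ W.ι = σ :=
    ⟨IsOpenImmersion.lift W.ι σ hσW ≫ (W : Scheme.{u}).isoSpec.hom, by simp⟩
  obtain ⟨βV, hβV⟩ := Spec.map_surjective mV
  obtain ⟨βR, hβR⟩ := Spec.map_surjective mR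
  have hagree : π.comp βR.hom = ιV.comp βV.hom := by
    have h : Spec.map (βV ≫ CommRingCat.ofHom ιV) = Spec.map (βR ≫ CommRingCat.ofHom π) := by
      rw [Spec.map_comp, Spec.map_comp, hβV, hβR, ← cancel_mono ((W : Scheme.{u}).isoSpec.inv ≫ W.ι),
        Category.assoc, Category.assoc, hmV, hmR]
      exact hl₁
    exact (congrArg CommRingCat.Hom.hom (Spec.map_injective h)).symm
  have hker : ∀ r : R, π r = 0 → ∃ a ∈ 𝔮, ιR a = r := fun r hr =>
    hbij.2.2 ((IsLocalRing.residue_eq_zero_iff r).mp hr)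
  have hinj : Function.Injective ιR := by
    rw [injective_iff_map_eq_zero]
    intro a ha
    have haq : a ∈ 𝔮 := by
      by_contra hne
      have hu := IsLocalization.map_units R (⟨a, hne⟩ : 𝔮.primeCompl)
      rw [show algebraMap A R (⟨a, hne⟩ : 𝔮.primeCompl) = ιR a from rfl, ha] at hu
      exact not_isUnit_zero hu
    exact hbij.2.1 haq (zero_mem _) (ha.trans (map_zero _).symm)
  have hex : ∀ b, ∃ a, ιR a = βR.hom b ∧ Ideal.Quotient.mk 𝔮 a = βV.hom b := fun b => by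
    obtain ⟨a₀, ha₀⟩ := Ideal.Quotient.mk_surjective (βV.hom b)
    obtain ⟨a, ha, har⟩ := hker (βR.hom b - ιR a₀) (by
      rw [map_sub, sub_eq_zero]
      calc π (βR.hom b) = ιV (βV.hom b) := RingHom.congr_fun hagree b
        _ = π (ιR a₀) := by rw [← ha₀]; exact RingHom.congr_fun hfac a₀)
    refine ⟨a₀ + a, by rw [map_add, har, add_sub_cancel], ?_⟩
    rw [map_add, Ideal.Quotient.eq_zero_iff_mem.mpr ha, add_zero, ha₀]
  choose β hβ hβq using hex
  let β' : Γ(W, ⊤) →+* A :=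
    { toFun := β
      map_one' := hinj (by rw [hβ, map_one, map_one])
      map_mul' := fun x y => hinj (by rw [hβ, map_mul, map_mul, hβ, hβ])
      map_zero' := hinj (by rw [hβ, map_zero, map_zero])
      map_add' := fun x y => hinj (by rw [hβ, map_add, map_add, hβ, hβ]) }
  let h := Spec.map (CommRingCat.ofHom β') ≫ (W : Scheme.{u}).isoSpec.inv ≫ W.ι
  refine ⟨h, ?_⟩
  have hhσ : Spec.map (CommRingCat.ofHom ιR) ≫ h = σ := by
    rw [← Spec.map_comp_assoc]
    have e : CommRingCat.ofHom β' ≫ CommRingCat.ofHom ιR = βR := CommRingCat.hom_ext (RingHom.ext hβ)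
    rw [e, hβR, hmR]
  have hhl : Spec.map (CommRingCat.ofHom (Ideal.Quotient.mk 𝔮)) ≫ h = l := by
    rw [← Spec.map_comp_assoc]
    have e : CommRingCat.ofHom β' ≫ CommRingCat.ofHom (Ideal.Quotient.mk 𝔮) = βV :=
      CommRingCat.hom_ext (RingHom.ext hβq)
    rw [e, hβV, hmV]
  -- both morphisms factor through an affine open and agree on the localisation
  obtain ⟨O, hO, hgO⟩ : ∃ O : X.Opens, IsAffineOpen O ∧ g (IsLocalRing.closedPoint A) ∈ O := by
    obtain ⟨_, ⟨O, hO, rfl⟩, hgO, -⟩ := X.isBasis_affineOpens.exists_subset_of_mem_open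
      (Set.mem_univ (g (IsLocalRing.closedPoint A))) isOpen_univ
    exact ⟨O, hO, hgO⟩
  haveI : IsAffine (O : Scheme.{u}) := hO
  have hrange : ∀ m : Spec (CommRingCat.of A) ⟶ X, m (IsLocalRing.closedPoint A) ∈ O →
      Set.range m ⊆ Set.range O.ι := by
    intro m hm
    rw [Scheme.Opens.range_ι]
    rintro _ ⟨z, rfl⟩
    exact ((IsLocalRing.specializes_closedPoint z).map m.continuous).mem_open O.isOpen hm
  have hclosed : (h ≫ q) (IsLocalRing.closedPoint A) = g (IsLocalRing.closedPoint A) := by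
    have h1 : Spec.map (CommRingCat.ofHom (Ideal.Quotient.mk 𝔮)) (IsLocalRing.closedPoint (A ⧸ 𝔮)) =
        IsLocalRing.closedPoint A :=
      haveI : IsLocalHom (Ideal.Quotient.mk 𝔮) := IsLocalHom.of_surjective _ Ideal.Quotient.mk_surjective
      IsLocalRing.comap_closedPoint (Ideal.Quotient.mk 𝔮)
    rw [← h1, ← Scheme.Hom.comp_apply, ← Scheme.Hom.comp_apply, ← Category.assoc, hhl]
    exact congrArg (fun m : Spec (CommRingCat.of (A ⧸ 𝔮)) ⟶ X => m (IsLocalRing.closedPoint (A ⧸ 𝔮))) hl₂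
  obtain ⟨m₁, hm₁⟩ : ∃ m, m ≫ (O : Scheme.{u}).isoSpec.inv ≫ O.ι = h ≫ q :=
    ⟨IsOpenImmersion.lift O.ι (h ≫ q) (hrange _ (hclosed ▸ hgO)) ≫ (O : Scheme.{u}).isoSpec.hom, by simp⟩
  obtain ⟨m₂, hm₂⟩ : ∃ m, m ≫ (O : Scheme.{u}).isoSpec.inv ≫ O.ι = g :=
    ⟨IsOpenImmersion.lift O.ι g (hrange _ hgO) ≫ (O : Scheme.{u}).isoSpec.hom, by simp⟩
  obtain ⟨γ₁, hγ₁⟩ := Spec.map_surjective m₁
  obtain ⟨γ₂, hγ₂⟩ := Spec.map_surjective m₂
  have heq : γ₁ ≫ CommRingCat.ofHom ιR = γ₂ ≫ CommRingCat.ofHom ιR := by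
    apply Spec.map_injective
    rw [Spec.map_comp, Spec.map_comp, hγ₁, hγ₂, ← cancel_mono ((O : Scheme.{u}).isoSpec.inv ≫ O.ι),
      Category.assoc, Category.assoc, hm₁, hm₂, ← Category.assoc, hhσ]
    exact hσ
  have hγ : γ₁ = γ₂ := CommRingCat.hom_ext (RingHom.ext fun x =>
    hinj (RingHom.congr_fun (congrArg CommRingCat.Hom.hom heq) x))
  rw [← hm₁, ← hm₂, ← hγ₁, ← hγ₂, hγ]

variable {P : ModPair.Pair.{u}} [IsAffine P.total] [IsLocalRing Γ(P.total, ⊤)]

theorem isClosed_closedPoint :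
    IsClosed ({P.total.isoSpec.inv (IsLocalRing.closedPoint Γ(P.total, ⊤))} : Set P.total) := by
  have h1 : IsClosed ({IsLocalRing.closedPoint Γ(P.total, ⊤)} : Set (PrimeSpectrum Γ(P.total, ⊤))) :=
    IsLocalRing.isClosed_singleton_closedPoint Γ(P.total, ⊤)
  simpa using P.total.isoSpec.inv.isClosedMap _ h1

theorem zarLocal_of_local : ZarLocal P := by
  intro X ι U v hv hcov g
  obtain ⟨i, y, hy⟩ := hcov (g.hom (P.total.isoSpec.inv (IsLocalRing.closedPoint Γ(P.total, ⊤))))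
  haveI : IsOpenImmersion (v i).hom := (hv i).2.1
  have htop := eq_top_of_mem_closed isClosed_closedPoint (g.hom ⁻¹ᵁ (v i).hom.opensRange) ⟨y, hy⟩
  have hr : Set.range g.hom ⊆ Set.range (v i).hom := by
    rintro _ ⟨z, rfl⟩
    exact htop.ge (show z ∈ (⊤ : P.total.Opens) from trivial)
  let h := IsOpenImmersion.lift (v i).hom g.hom hr
  have hh : h ≫ (v i).hom = g.hom := IsOpenImmersion.lift_fac _ _ _
  refine ⟨i, ⟨h, ?_⟩, ModPair.Pair.Hom.ext hh⟩
  show P.mod ≤ (U i).mod.comap h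
  rw [(hv i).1, ← Scheme.IdealSheafData.comap_comp, hh]
  exact g.cond

theorem blowLocal_of_gluing (p : (ModPair.interior P.mod : Scheme.{u}))
    [ValuationRing (Γ(P.total, ⊤) ⧸ primeOf p)]
    (hbij : Set.BijOn (algebraMap Γ(P.total, ⊤) (Localization.AtPrime (primeOf p)))
      (primeOf p : Set Γ(P.total, ⊤))
      (IsLocalRing.maximalIdeal (Localization.AtPrime (primeOf p)) :
        Set (Localization.AtPrime (primeOf p)))) : BlowLocal P := by
  intro Q X q hq g
  obtain ⟨hmin, hprop, hiso⟩ := hq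
  haveI := hprop
  haveI := hiso
  let s := Spec.map (CommRingCat.ofHom (algebraMap Γ(P.total, ⊤) (Localization.AtPrime (primeOf p)))) ≫
    P.total.isoSpec.inv
  have hs : ∀ z, s z ∈ ModPair.interior P.mod := fun z => by
    refine ((IsLocalRing.specializes_closedPoint z).map s.continuous).mem_open
      (ModPair.interior P.mod).isOpen ?_
    have h1 : Spec.map (CommRingCat.ofHom (algebraMap Γ(P.total, ⊤) (Localization.AtPrime (primeOf p))))
        (IsLocalRing.closedPoint (Localization.AtPrime (primeOf p))) =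
          P.total.toSpecΓ ((ModPair.interior P.mod).ι p) :=
      PrimeSpectrum.ext (IsLocalization.AtPrime.comap_maximalIdeal (Localization.AtPrime (primeOf p)) (primeOf p))
    rw [Scheme.Hom.comp_apply, h1, ← Scheme.isoSpec_hom, ← Scheme.Hom.comp_apply]
    show ((ModPair.interior P.mod).ι ≫ P.total.isoSpec.hom ≫ P.total.isoSpec.inv) p ∈ ModPair.interior P.mod
    rw [Iso.hom_inv_id, Category.comp_id]
    exact p.2
  have hsX : Set.range (s ≫ g.hom) ⊆ Set.range (ModPair.interior X.mod).ι := by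
    rw [Scheme.Opens.range_ι]
    rintro _ ⟨z, rfl⟩
    exact interior_le_of_ambient g.cond (hs z)
  let σ := IsOpenImmersion.lift (ModPair.interior X.mod).ι (s ≫ g.hom) hsX ≫
    inv (q.hom ∣_ ModPair.interior X.mod) ≫ (q.hom ⁻¹ᵁ ModPair.interior X.mod).ι
  have hσ : σ ≫ q.hom = s ≫ g.hom := by
    simp only [σ, Category.assoc]
    rw [← morphismRestrict_ι, IsIso.inv_hom_id_assoc, IsOpenImmersion.lift_fac]
  obtain ⟨h, hh⟩ := exists_lift_gluing (primeOf p) hbij q.hom (P.total.isoSpec.inv ≫ g.hom) σ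
    (by rw [hσ, Category.assoc])
  have hh' : (P.total.isoSpec.hom ≫ h) ≫ q.hom = g.hom := by
    rw [Category.assoc, hh, Iso.hom_inv_id_assoc]
  refine ⟨⟨P.total.isoSpec.hom ≫ h, ?_⟩, ModPair.Pair.Hom.ext hh'⟩
  show P.mod ≤ Q.mod.comap _
  rw [hmin, ← Scheme.IdealSheafData.comap_comp, hh']
  exact g.cond

theorem exists_closed_point {X : Scheme.{u}} [IsAffine X] [IsLocalRing Γ(X, ⊤)] :
    ∃ p : X, IsClosed ({p} : Set X) := by
  refine ⟨X.isoSpec.inv (IsLocalRing.closedPoint Γ(X, ⊤)), ?_⟩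
  have h1 : IsClosed ({IsLocalRing.closedPoint Γ(X, ⊤)} : Set (PrimeSpectrum Γ(X, ⊤))) :=
    IsLocalRing.isClosed_singleton_closedPoint Γ(X, ⊤)
  simpa using X.isoSpec.inv.isClosedMap _ h1

end Groth.Agent.ModPairLib
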