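import Mathlib
import Groth.Agent.ModPairLib.Cartier
import Groth.Agent.BlowExistsLib.Chart

/-!
Over a semi-valuation ring, a proper minimal morphism which is finite over the interior is finite.
-/

set_option autoImplicit false
set_option backward.isDefEq.respectTransparency false
set_option backward.isDefEq.respectTransparency.types false
set_option backward.defeqAttrib.useBackward true
set_option linter.style.haveILetI false
set_option maxHeartbeats 800000

universe u

open CategoryTheory CategoryTheory.Limits AlgebraicGeometry TensorProduct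

namespace Groth.Agent.ModPairLib

theorem cart_generator_nzd {X : Scheme.{u}} {I : X.IdealSheafData} (hI : BlowUp.IsEffCartierIdeal I)
    (V : X.affineOpens) {a : Γ(X, V.1)} (ha : I.ideal V = Ideal.span {a}) :
    a ∈ nonZeroDivisors Γ(X, V.1) := by
  rw [mem_nonZeroDivisors_iff_right]
  intro s hs
  apply TopCat.Presheaf.section_ext X.sheaf
  intro x hx
  refine Eq.trans ?_ (map_zero _).symm
  have hst : IntMult.stalkIdeal I x = Ideal.span {(X.presheaf.germ V.1 x hx).hom a} := by
    rw [IdealStalkLib.stalkIdeal_eq I V x hx, ha, Ideal.map_span, Set.image_singleton]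
  have h := BlowExistsLib.generator_mem_nonZeroDivisors hI x hst
  refine (mem_nonZeroDivisors_iff_right.mp h) _ ?_
  show (X.presheaf.germ V.1 x hx).hom s * _ = 0
  rw [← map_mul, hs, map_zero]

theorem quasiFinite_tensor {R K : Type u} [CommRing R] [CommRing K] [Algebra R K] {Y : Scheme.{u}}
    (f : Y ⟶ Spec (CommRingCat.of R))
    (hgen : LocallyQuasiFinite (pullback.snd f (Spec.map (CommRingCat.ofHom (algebraMap R K)))))
    {B : Type u} [CommRing B] [Algebra R B] (m : Spec (CommRingCat.of B) ⟶ Y) [IsOpenImmersion m]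
    (hmf : m ≫ f = Spec.map (CommRingCat.ofHom (algebraMap R B))) :
    Algebra.QuasiFinite K (K ⊗[R] B) := by
  haveI := hgen
  have hq : LocallyQuasiFinite (pullback.snd (m ≫ f) (Spec.map (CommRingCat.ofHom (algebraMap R K)))) := by
    rw [← pullbackRightPullbackFstIso_inv_snd_snd]
    infer_instance
  rw [hmf] at hq
  haveI := hq
  haveI hq2 : LocallyQuasiFinite (pullback.fst (Spec.map (CommRingCat.ofHom (algebraMap R K)))
      (Spec.map (CommRingCat.ofHom (algebraMap R B)))) := by
    rw [← pullbackSymmetry_hom_comp_snd]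
    infer_instance
  haveI hq3 : LocallyQuasiFinite (Spec.map (CommRingCat.ofHom (algebraMap K (K ⊗[R] B)))) := by
    rw [← pullbackSpecIso_inv_fst']
    infer_instance
  rw [HasRingHomProperty.Spec_iff (P := @LocallyQuasiFinite)] at hq3
  exact RingHom.quasiFinite_algebraMap.mp hq3

variable {O : Type u} [CommRing O] [IsLocalRing O] (R : ValuationSubring (IsLocalRing.ResidueField O))

/-- The semi-valuation ring of elements with residue class in `R`. -/
abbrev semiVal : Subring O := (R.toSubring).comap (IsLocalRing.residue O)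

theorem exists_scaled {n : ℕ} (c : Fin n → IsLocalRing.ResidueField O) (i₀ : Fin n) (hi₀ : c i₀ ≠ 0) :
    ∃ (j : Fin n) (d : Fin n → ↥(semiVal R)), c j ≠ 0 ∧ d j = 1 ∧
      ∀ i, IsLocalRing.residue O (d i : O) = c i / c j := by
  classical
  obtain ⟨j, -, hj⟩ := Finset.exists_max_image Finset.univ (fun i => R.valuation (c i))
    ⟨i₀, Finset.mem_univ _⟩
  have hcj : c j ≠ 0 := fun h => by
    have := hj i₀ (Finset.mem_univ _)
    rw [h, map_zero, le_zero_iff, map_eq_zero] at this
    exact hi₀ this
  have hmem (i : Fin n) : c i / c j ∈ R := by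
    rw [← R.valuation_le_one_iff, map_div₀]
    exact div_le_one_of_le₀ (hj i (Finset.mem_univ _)) zero_le
  choose o ho using fun i => IsLocalRing.residue_surjective (c i / c j)
  refine ⟨j, Function.update (fun i => (⟨o i, by rw [Subring.mem_comap, ho i]; exact hmem i⟩ : ↥(semiVal R))) j 1,
    hcj, Function.update_self _ _ _, fun i => ?_⟩
  rcases eq_or_ne i j with rfl | hij
  · rw [Function.update_self, div_self hcj]
    exact map_one _
  · rw [Function.update_of_ne hij]
    exact ho i

variable {B : Type u} [CommRing B] [Algebra ↥(semiVal R) B] (f : ↥(semiVal R)) [IsLocalization.Away f O]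

omit [IsLocalization.Away f O] in
theorem mem_of_mem_maximal {μ : O} (h : μ ∈ IsLocalRing.maximalIdeal O) :
    μ ∈ (R.toSubring).comap (IsLocalRing.residue O) := by
  rw [Subring.mem_comap, (IsLocalRing.residue_eq_zero_iff μ).mpr h]
  exact zero_mem R.toSubring

theorem exists_dvd_of_mem_maximal {μ : O} (h : μ ∈ IsLocalRing.maximalIdeal O) :
    ∃ a : ↥(semiVal R), (a : O) * (f : O) = μ := by
  obtain ⟨g, hg⟩ := (IsLocalization.Away.algebraMap_isUnit (S := O) f).exists_right_inv
  refine ⟨⟨g * μ, mem_of_mem_maximal R (Ideal.mul_mem_left _ _ h)⟩, ?_⟩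
  show g * μ * (f : O) = μ
  rw [mul_right_comm, mul_comm g]
  exact (congrArg (· * μ) hg).trans (one_mul μ)

theorem mem_smul_of_maximal (P : Ideal ↥(semiVal R)) (hP : f ∈ P) {z : O ⊗[semiVal R] B}
    (hz : z ∈ (IsLocalRing.maximalIdeal O) • (⊤ : Submodule O (O ⊗[semiVal R] B))) :
    ∃ w ∈ P • (⊤ : Submodule ↥(semiVal R) B), z = (1 : O) ⊗ₜ[semiVal R] w := by
  refine Submodule.smul_induction_on hz (fun μ hμ y hy => ?_) ?_
  · clear hy
    induction y using TensorProduct.induction_on with
    | zero => exact ⟨0, zero_mem _, by rw [smul_zero, TensorProduct.tmul_zero]⟩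
    | tmul o b =>
      obtain ⟨a, ha⟩ := exists_dvd_of_mem_maximal R f (Ideal.mul_mem_right o _ hμ)
      refine ⟨(a * f) • b, Submodule.smul_mem_smul (P.mul_mem_left a hP) trivial, ?_⟩
      rw [TensorProduct.smul_tmul', TensorProduct.tmul_smul, TensorProduct.smul_tmul']
      congr 1
      show μ * o = ((a * f : ↥(semiVal R)) : O) * 1
      rw [mul_one, Subring.coe_mul, ha]
    | add y₁ y₂ h₁ h₂ =>
      obtain ⟨w₁, hw₁, e₁⟩ := h₁
      obtain ⟨w₂, hw₂, e₂⟩ := h₂
      exact ⟨w₁ + w₂, add_mem hw₁ hw₂, by rw [smul_add, e₁, e₂, TensorProduct.tmul_add]⟩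
  · rintro y₁ y₂ ⟨w₁, hw₁, e₁⟩ ⟨w₂, hw₂, e₂⟩
    exact ⟨w₁ + w₂, add_mem hw₁ hw₂, by rw [e₁, e₂, TensorProduct.tmul_add]⟩

theorem away_tmul_injective (hB : algebraMap ↥(semiVal R) B f ∈ nonZeroDivisors B) :
    Function.Injective (fun b : B => (1 : O) ⊗ₜ[semiVal R] b) := by
  intro x y hxy
  haveI : IsLocalizedModule (Submonoid.powers f) (TensorProduct.mk ↥(semiVal R) O B 1) :=
    (isLocalizedModule_iff_isBaseChange (Submonoid.powers f) O _).mpr (TensorProduct.isBaseChange _ _ _)
  obtain ⟨⟨_, k, rfl⟩, hs⟩ := (IsLocalizedModule.eq_iff_exists (Submonoid.powers f)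
    (TensorProduct.mk ↥(semiVal R) O B 1)).mp hxy
  change f ^ k • x = f ^ k • y at hs
  rw [Algebra.smul_def, Algebra.smul_def, map_pow] at hs
  exact (mul_cancel_left_mem_nonZeroDivisors (pow_mem hB k)).mp hs

/-- A relation with a unit coefficient modulo a prime containing `f`. -/
theorem exists_relation_semiVal (hB : algebraMap ↥(semiVal R) B f ∈ nonZeroDivisors B) (P : Ideal ↥(semiVal R)) (hP : f ∈ P)
    [Module.Finite (IsLocalRing.ResidueField O) (IsLocalRing.ResidueField O ⊗[O] (O ⊗[semiVal R] B))]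
    {n : ℕ} (b : Fin n → B)
    (hn : Module.finrank (IsLocalRing.ResidueField O) (IsLocalRing.ResidueField O ⊗[O] (O ⊗[semiVal R] B)) < n) :
    ∃ (d : Fin n → ↥(semiVal R)) (j : Fin n), d j = 1 ∧ ∑ i, d i • b i ∈ P • (⊤ : Submodule ↥(semiVal R) B) := by
  classical
  have hdep : ¬ LinearIndependent (IsLocalRing.ResidueField O)
      (fun i => (1 : IsLocalRing.ResidueField O) ⊗ₜ[O] ((1 : O) ⊗ₜ[semiVal R] b i)) := fun h => by
    have := h.fintype_card_le_finrank
    rw [Fintype.card_fin] at this
    omega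
  obtain ⟨c, hc, i₀, hi₀⟩ := Fintype.not_linearIndependent_iff.mp hdep
  obtain ⟨j, d, hcj, hdj, hd⟩ := exists_scaled R c i₀ hi₀
  refine ⟨d, j, hdj, ?_⟩
  have hk : (1 : IsLocalRing.ResidueField O) ⊗ₜ[O] ((1 : O) ⊗ₜ[semiVal R] (∑ i, d i • b i)) = 0 := by
    have h0 : (c j)⁻¹ • ∑ i, c i • ((1 : IsLocalRing.ResidueField O) ⊗ₜ[O] ((1 : O) ⊗ₜ[semiVal R] b i)) = 0 := by
      rw [hc, smul_zero]
    refine Eq.trans ?_ h0
    rw [Finset.smul_sum, TensorProduct.tmul_sum, TensorProduct.tmul_sum]
    refine Finset.sum_congr rfl fun i _ => ?_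
    rw [← mul_smul, inv_mul_eq_div, ← hd i, TensorProduct.tmul_smul]
    rw [show d i • ((1 : O) ⊗ₜ[semiVal R] b i) = (d i : O) • ((1 : O) ⊗ₜ[semiVal R] b i) from rfl,
      TensorProduct.tmul_smul]
    exact (IsScalarTower.algebraMap_smul (IsLocalRing.ResidueField O) _ _).symm
  have hmem : (1 : O) ⊗ₜ[semiVal R] (∑ i, d i • b i) ∈
      (IsLocalRing.maximalIdeal O) • (⊤ : Submodule O (O ⊗[semiVal R] B)) := by
    rw [← Submodule.Quotient.mk_eq_zero]
    have h2 := congrArg (TensorProduct.quotTensorEquivQuotSMul (O ⊗[semiVal R] B) (IsLocalRing.maximalIdeal O)) hk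
    rw [map_zero] at h2
    have h3 := TensorProduct.quotTensorEquivQuotSMul_mk_tmul (IsLocalRing.maximalIdeal O) (1 : O)
      ((1 : O) ⊗ₜ[semiVal R] (∑ i, d i • b i))
    rw [one_smul, map_one] at h3
    exact h3.symm.trans h2
  obtain ⟨w, hw, hwe⟩ := mem_smul_of_maximal R f P hP hmem
  rwa [away_tmul_injective R f hB hwe]

theorem quasiFinite_semiVal (hB : algebraMap ↥(semiVal R) B f ∈ nonZeroDivisors B)
    [Algebra.QuasiFinite O (O ⊗[semiVal R] B)] : Algebra.QuasiFinite ↥(semiVal R) B := by
  classical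
  refine ⟨fun P _ => ?_⟩
  by_cases hP : f ∈ P
  · haveI : Module.Finite (IsLocalRing.ResidueField O) (IsLocalRing.ResidueField O ⊗[O] (O ⊗[semiVal R] B)) :=
      Module.Finite.of_quasiFinite
    generalize hN : Module.finrank (IsLocalRing.ResidueField O)
      (IsLocalRing.ResidueField O ⊗[O] (O ⊗[semiVal R] B)) = N
    have hspan : Submodule.span P.ResidueField
        (Set.range (fun b : B => (1 : P.ResidueField) ⊗ₜ[semiVal R] b)) = ⊤ := by
      refine top_le_iff.mp fun z _ => ?_
      induction z using TensorProduct.induction_on with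
      | zero => exact zero_mem _
      | tmul a b =>
        have h1 : a • ((1 : P.ResidueField) ⊗ₜ[semiVal R] b) = a ⊗ₜ[semiVal R] b := by
          rw [TensorProduct.smul_tmul', smul_eq_mul, mul_one]
        rw [← h1]
        exact Submodule.smul_mem _ _ (Submodule.subset_span ⟨b, rfl⟩)
      | add x y hx hy => exact add_mem (hx trivial) (hy trivial)
    obtain ⟨s, hsG, hsspan, hli⟩ := exists_linearIndependent P.ResidueField
      (Set.range (fun b : B => (1 : P.ResidueField) ⊗ₜ[semiVal R] b))
    have hsfin : s.Finite := by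
      by_contra hinf
      obtain ⟨t, hts, htc⟩ := (Set.not_finite.mp hinf).exists_subset_card_eq (N + 1)
      let e : Fin (N + 1) ≃ t := (Fintype.equivFinOfCardEq (by rw [Fintype.card_coe]; exact htc)).symm
      have hb : ∀ i, ∃ b : B, (1 : P.ResidueField) ⊗ₜ[semiVal R] b = ((e i : t) : P.Fiber B) :=
        fun i => hsG (hts (e i).2)
      choose b hb using hb
      obtain ⟨d, j, hdj, hd⟩ := exists_relation_semiVal R f hB P hP b (hN ▸ Nat.lt_succ_self N)
      have hli' : LinearIndependent P.ResidueField (fun i => ((e i : t) : P.Fiber B)) :=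
        hli.comp (fun i => (⟨_, hts (e i).2⟩ : s))
          fun i k h => e.injective (Subtype.ext (congrArg Subtype.val h :))
      have hzero : ∀ w ∈ P • (⊤ : Submodule ↥(semiVal R) B), (1 : P.ResidueField) ⊗ₜ[semiVal R] w = 0 := by
        intro w hw
        refine Submodule.smul_induction_on hw (fun a ha y _ => ?_) (fun x y hx hy => ?_)
        · rw [TensorProduct.tmul_smul, TensorProduct.smul_tmul', Algebra.smul_def, mul_one,
            Ideal.algebraMap_residueField_eq_zero.mpr ha, TensorProduct.zero_tmul]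
        · rw [TensorProduct.tmul_add, hx, hy, add_zero]
      have hrel : ∑ i, algebraMap ↥(semiVal R) P.ResidueField (d i) • ((e i : t) : P.Fiber B) = 0 := by
        have := hzero _ hd
        simp only [TensorProduct.tmul_sum] at this
        refine Eq.trans (Finset.sum_congr rfl fun i _ => ?_) this
        rw [← hb i, TensorProduct.tmul_smul, IsScalarTower.algebraMap_smul]
      have := Fintype.linearIndependent_iff.mp hli' _ hrel j
      rw [hdj, map_one] at this
      exact one_ne_zero this
    exact Module.finite_def.mpr ⟨hsfin.toFinset, by rw [Set.Finite.coe_toFinset, hsspan, hspan]⟩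
  · have hu : IsUnit (algebraMap ↥(semiVal R) P.ResidueField f) :=
      isUnit_iff_ne_zero.mpr fun h => hP (Ideal.algebraMap_residueField_eq_zero.mp h)
    letI : Algebra O P.ResidueField := (IsLocalization.Away.lift f hu).toAlgebra
    haveI : IsScalarTower ↥(semiVal R) O P.ResidueField :=
      IsScalarTower.of_algebraMap_eq' (IsLocalization.Away.lift_comp f hu).symm
    haveI : Module.Finite P.ResidueField (P.ResidueField ⊗[O] (O ⊗[semiVal R] B)) := Module.Finite.of_quasiFinite
    exact Module.Finite.equiv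
      (TensorProduct.AlgebraTensorModule.cancelBaseChange ↥(semiVal R) O P.ResidueField P.ResidueField B)

end Groth.Agent.ModPairLib
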