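import Mathlib
import Groth.Agent.ModPairLib.Descend
import Groth.Agent.ModPairLib.SemiVal
import Groth.Agent.NApproxLib.Over
import Groth.Agent.NApproxLib.ImageLimit
import Groth.Agent.AffLim.DescendConst
import Groth.Agent.S9220

/-!
Approximation of modulus pairs over a base by pairs of finite type.
-/

set_option autoImplicit false
set_option backward.isDefEq.respectTransparency false
set_option backward.isDefEq.respectTransparency.types false
set_option backward.defeqAttrib.useBackward true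
set_option linter.style.haveILetI false
set_option maxHeartbeats 800000

universe u

open CategoryTheory CategoryTheory.Limits AlgebraicGeometry

namespace Groth.Agent.ModPairLib

/-- Ideal sheaves of finite type pull back to ideal sheaves of finite type. -/
theorem fg_comap {X Y : Scheme.{u}} (J : Y.IdealSheafData) (f : X ⟶ Y)
    (hJ : ∀ U : Y.affineOpens, (J.ideal U).FG) (V : X.affineOpens) : ((J.comap f).ideal V).FG := by
  have key : ∀ x : V.1, ∃ r : Γ(X, V.1), x.1 ∈ X.basicOpen r ∧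
      ((J.comap f).ideal (X.affineBasicOpen (U := V) r)).FG := fun x => by
    obtain ⟨_, ⟨U, hU, rfl⟩, hxU, -⟩ :=
      Y.isBasis_affineOpens.exists_subset_of_mem_open (Set.mem_univ (f x.1)) isOpen_univ
    obtain ⟨r, hr, hxr⟩ := V.2.exists_basicOpen_le (V := V.1 ⊓ f ⁻¹ᵁ U) ⟨x.1, x.2, hxU⟩ x.2
    exact ⟨r, hxr, by
      rw [IdealStalkLib.comap_ideal J f (U := U) hU (X.affineBasicOpen (U := V) r).2 (hr.trans inf_le_right)]
      exact (hJ ⟨U, hU⟩).map _⟩
  choose r hxr hr using key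
  refine Ideal.fg_of_localizationSpan (Set.range r) ?_ ?_
  · rw [← V.2.self_le_iSup_basicOpen_iff]
    exact fun x hxV => TopologicalSpace.Opens.mem_iSup.2 ⟨⟨_, ⟨x, hxV⟩, rfl⟩, hxr ⟨x, hxV⟩⟩
  · rintro ⟨_, x, rfl⟩
    letI : Algebra Γ(X, V.1) Γ(X, X.basicOpen (r x)) := (X.presheaf.map (homOfLE (X.basicOpen_le (r x))).op).hom.toAlgebra
    haveI : IsLocalization.Away (r x) Γ(X, X.basicOpen (r x)) := V.2.isLocalization_basicOpen (r x)
    let e := IsLocalization.algEquiv (Submonoid.powers (r x)) Γ(X, X.basicOpen (r x)) (Localization.Away (r x))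
    rw [show algebraMap Γ(X, V.1) (Localization.Away (r x)) =
      e.toAlgHom.toRingHom.comp (algebraMap Γ(X, V.1) Γ(X, X.basicOpen (r x))) from (AlgHom.comp_algebraMap e.toAlgHom).symm,
      ← Ideal.map_map, show algebraMap Γ(X, V.1) Γ(X, X.basicOpen (r x)) =
        (X.presheaf.map (homOfLE (X.basicOpen_le (r x))).op).hom from rfl, (J.comap f).map_ideal_basicOpen V (r x)]
    exact (hr x).map _

/-- A locally principal ideal whose pullback along a dominant affine morphism is effective Cartier. -/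
theorem cart_of_dominant_comap {X Y : Scheme.{u}} (f : X ⟶ Y) [IsAffineHom f] [IsSchemeTheoreticallyDominant f]
    {J : Y.IdealSheafData} (hJ : IsLP J) (h : BlowUp.IsEffCartierIdeal (J.comap f)) :
    BlowUp.IsEffCartierIdeal J := fun y => by
  obtain ⟨U, hy, b, hb⟩ := hJ y
  refine ⟨U, hy, b, ?_, hb⟩
  let V : X.affineOpens := ⟨f ⁻¹ᵁ U.1, U.2.preimage f⟩
  have hn := cart_generator_nzd h V (BlowCompLib.ideal_comap_span J f hb V le_rfl)
  rw [mem_nonZeroDivisors_iff_right] at hn ⊢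
  intro s hs
  apply f.app_injective U.1
  rw [map_zero]
  refine hn _ ?_
  rw [Scheme.Hom.app_eq_appLE, ← map_mul, hs, map_zero]

variable {I : Type u} [SmallCategory I] [IsCofiltered I]

/-- An effective Cartier ideal on the limit is effective Cartier at some stage. -/
theorem exists_cart_stage (D : I ⥤ Scheme.{u}) (c : Cone D) (hc : IsLimit c)
    [∀ {i j} (f : i ⟶ j), IsAffineHom (D.map f)]
    [∀ i, IsSchemeTheoreticallyDominant (c.π.app i)]
    [∀ i, CompactSpace (D.obj i)] [∀ i, QuasiSeparatedSpace (D.obj i)]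
    {i : I} (J : (D.obj i).IdealSheafData) (hfg : ∀ U : (D.obj i).affineOpens, (J.ideal U).FG)
    (hX : BlowUp.IsEffCartierIdeal (J.comap (c.π.app i))) :
    ∃ (j : I) (t : j ⟶ i), BlowUp.IsEffCartierIdeal (J.comap (D.map t)) := by
  classical
  haveI : ∀ k, IsAffineHom (c.π.app k) := fun k => isAffineHom_π_app D c hc k
  have key (x : c.pt) : ∃ (m : I) (t : m ⟶ i) (W : (D.obj m).affineOpens),
      c.π.app m x ∈ W.1 ∧ ∃ b, (J.comap (D.map t)).ideal W = Ideal.span {b} := by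
    have hX' : BlowUp.IsEffCartierIdeal (X := c.pt) (J.comap (c.π.app i)) := hX
    obtain ⟨V, hx, f, hf, hfV⟩ := hX' x
    obtain ⟨m₀, V₀, hV₀, hV₀e⟩ := exists_isAffineOpen_preimage_eq D c hc V.1 V.2
    obtain ⟨m₁, a₀, a₁, -⟩ := IsCofilteredOrEmpty.cone_objs m₀ i
    let W₁ : (D.obj m₁).affineOpens := ⟨D.map a₀ ⁻¹ᵁ V₀, hV₀.preimage _⟩
    have hW₁ : c.π.app m₁ ⁻¹ᵁ W₁.1 = V.1 := by
      show c.π.app m₁ ⁻¹ᵁ (D.map a₀ ⁻¹ᵁ V₀) = V.1
      rw [← Scheme.Hom.comp_preimage, c.w, hV₀e]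
    -- finitely many generators at stage `m₁`
    have hfg₁ : ((J.comap (D.map a₁)).ideal W₁).FG := by
      exact fg_comap J (D.map a₁) hfg W₁
    obtain ⟨G, hG⟩ := hfg₁
    -- transport to `V`
    have e₁ : V.1 ≤ c.π.app m₁ ⁻¹ᵁ W₁.1 := hW₁.ge
    let φ : Γ(D.obj m₁, W₁.1) →+* Γ(c.pt, V.1) := ((c.π.app m₁).appLE W₁.1 V.1 e₁).hom
    have hGV : (J.comap (c.π.app i)).ideal V = Ideal.span (φ '' (G : Set Γ(D.obj m₁, W₁.1))) := by
      rw [← c.w a₁, Scheme.IdealSheafData.comap_comp, IdealStalkLib.comap_ideal _ _ W₁.2 V.2 e₁, ← hG]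
      exact Ideal.map_span _ _
    have hfmem : f ∈ Ideal.span (φ '' (G : Set Γ(D.obj m₁, W₁.1))) := by
      rw [← hGV, hfV]; exact Ideal.mem_span_singleton_self f
    obtain ⟨μ, hμ⟩ : ∃ μ : G → Γ(c.pt, V.1), ∑ g, μ g • φ g.1 = f := by
      rw [← Finset.coe_image] at hfmem
      obtain ⟨μ, hμ⟩ := Submodule.mem_span_finset'.mp hfmem
      refine (Submodule.mem_span_range_iff_exists_fun _).mp ?_
      have hr : Set.range (fun g : G => φ g.1) = ↑(G.image φ) := by
        ext z; simp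
      rw [hr]
      exact Submodule.mem_span_finset'.mpr ⟨μ, hμ⟩
    have hr : ∀ g : G, ∃ r, r * f = φ g.1 := fun g => Ideal.mem_span_singleton'.mp (by
      rw [← hfV, hGV]; exact Ideal.subset_span ⟨g.1, g.2, rfl⟩)
    choose r hr using hr
    -- lift all the sections
    let z : Option (G ⊕ G) → Γ(c.pt, V.1) := fun o => o.elim f (Sum.elim μ r)
    choose k t e w hw using fun o => exists_section_stage D c hc m₁ W₁.2
      ((c.pt.presheaf.map (homOfLE hW₁.le).op).hom (z o))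
    obtain ⟨m, q, p, hp⟩ := IsCofiltered.wideCospan (fun o => t o)
    let W : (D.obj m).affineOpens := ⟨D.map q ⁻¹ᵁ W₁.1, W₁.2.preimage _⟩
    have eW : V.1 ≤ c.π.app m ⁻¹ᵁ W.1 := by
      show V.1 ≤ c.π.app m ⁻¹ᵁ (D.map q ⁻¹ᵁ W₁.1)
      rw [← Scheme.Hom.comp_preimage, c.w, hW₁]
    have eW' : c.π.app m ⁻¹ᵁ W.1 ≤ V.1 := by
      show c.π.app m ⁻¹ᵁ (D.map q ⁻¹ᵁ W₁.1) ≤ V.1
      rw [← Scheme.Hom.comp_preimage, c.w, hW₁]
    let ψ : Γ(D.obj m, W.1) →+* Γ(c.pt, V.1) := ((c.π.app m).appLE W.1 V.1 eW).hom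
    have hinj : Function.Injective ψ := by
      intro a b hab
      apply (c.π.app m).app_injective W.1
      have h2 := congrArg (c.pt.presheaf.map (homOfLE eW').op).hom hab
      have e3 : (c.π.app m).app W.1 = (c.π.app m).appLE _ _ eW ≫ c.pt.presheaf.map (homOfLE eW').op :=
        (Scheme.Hom.app_eq_appLE _).trans (Scheme.Hom.appLE_map _ eW (homOfLE eW').op).symm
      exact (ConcreteCategory.congr_hom e3 a).trans (h2.trans (ConcreteCategory.congr_hom e3 b).symm)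
    have hlift : ∀ o, ∃ y : Γ(D.obj m, W.1), ψ y = z o := fun o => by
      have hle : W.1 ≤ D.map (p o) ⁻¹ᵁ (D.map (t o) ⁻¹ᵁ W₁.1) := by
        refine le_of_eq ?_
        show D.map q ⁻¹ᵁ W₁.1 = _
        rw [← hp o, Functor.map_comp, Scheme.Hom.comp_preimage]
      refine ⟨((D.map (p o)).appLE _ _ hle).hom (w o), ?_⟩
      have h2 := congrArg (c.pt.presheaf.map (homOfLE hW₁.ge).op).hom (hw o)
      have e4 : c.pt.presheaf.map (homOfLE hW₁.le).op ≫ c.pt.presheaf.map (homOfLE hW₁.ge).op = 𝟙 _ := by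
        rw [← Functor.map_comp]
        exact (congrArg c.pt.presheaf.map (Subsingleton.elim _ (𝟙 _))).trans
          (CategoryTheory.Functor.map_id _ _)
      refine Eq.trans ?_ (h2.trans (ConcreteCategory.congr_hom e4 (z o)))
      refine ConcreteCategory.congr_hom (?_ : (D.map (p o)).appLE _ _ hle ≫ (c.π.app m).appLE W.1 V.1 eW =
        (c.π.app (k o)).appLE _ _ (e o) ≫ c.pt.presheaf.map (homOfLE hW₁.ge).op) (w o)
      refine Eq.trans ?_ (Scheme.Hom.appLE_map _ (e o) (homOfLE hW₁.ge).op).symm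
      rw [Scheme.Hom.appLE_comp_appLE]
      simp
    choose y hy using hlift
    refine ⟨m, q ≫ a₁, W, ?_, y none, ?_⟩
    · exact eW hx
    let θ := ((D.map q).appLE W₁.1 W.1 le_rfl).hom
    have hθ (g : Γ(D.obj m₁, W₁.1)) : ψ (θ g) = φ g := by
      refine ConcreteCategory.congr_hom (?_ : (D.map q).appLE W₁.1 W.1 le_rfl ≫ (c.π.app m).appLE W.1 V.1 eW =
        (c.π.app m₁).appLE W₁.1 V.1 e₁) g
      rw [Scheme.Hom.appLE_comp_appLE]
      simp
    rw [Functor.map_comp, Scheme.IdealSheafData.comap_comp,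
      IdealStalkLib.comap_ideal _ _ W₁.2 W.2 (le_refl _), ← hG, Ideal.map_span]
    refine le_antisymm ?_ ?_
    · rw [Ideal.span_le]
      rintro _ ⟨g, hg, rfl⟩
      rw [SetLike.mem_coe, Ideal.mem_span_singleton']
      refine ⟨y (some (Sum.inr ⟨g, hg⟩)), hinj ?_⟩
      rw [map_mul, hy, hy]
      exact (hr ⟨g, hg⟩).trans (hθ g).symm
    · rw [Ideal.span_le, Set.singleton_subset_iff, SetLike.mem_coe]
      have hsum : ∑ g : G, y (some (Sum.inl g)) * θ g.1 = y none := hinj (by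
        rw [map_sum, hy none]
        refine (Finset.sum_congr rfl fun g _ => ?_).trans hμ
        rw [map_mul, hy, hθ]
        rfl)
      rw [← hsum]
      exact Ideal.sum_mem _ fun g _ => Ideal.mul_mem_left _ _ (Ideal.subset_span ⟨g.1, g.2, rfl⟩)
  choose m t W hxW b hb using key
  haveI : CompactSpace c.pt := Scheme.compactSpace_of_isLimit D c hc
  obtain ⟨T, hT⟩ := CompactSpace.elim_nhds_subcover (fun x => ((c.π.app (m x) ⁻¹ᵁ (W x).1 : c.pt.Opens) : Set c.pt))
    (fun x => IsOpen.mem_nhds (TopologicalSpace.Opens.isOpen _) (hxW x))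
  obtain ⟨l, q, p, hp⟩ := IsCofiltered.wideCospan (fun x : T => t x.1)
  obtain ⟨l', v, hv⟩ := exists_map_eq_top D c hc (⨆ x : T, D.map (p x) ⁻¹ᵁ (W x.1).1) (by
    refine top_le_iff.mp fun z _ => ?_
    obtain ⟨x, hxT, hz⟩ := Set.mem_iUnion₂.mp (hT.ge (Set.mem_univ z))
    rw [Scheme.Hom.preimage_iSup]
    refine TopologicalSpace.Opens.mem_iSup.mpr ⟨⟨x, hxT⟩, ?_⟩
    rw [← Scheme.Hom.comp_preimage, c.w]
    exact hz)
  refine ⟨l', v ≫ q, cart_of_dominant_comap (c.π.app l') (fun z => ?_) ?_⟩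
  · have hz : z ∈ D.map v ⁻¹ᵁ ⨆ x : T, D.map (p x) ⁻¹ᵁ (W x.1).1 := hv ▸ trivial
    rw [Scheme.Hom.preimage_iSup] at hz
    obtain ⟨x, hx⟩ := TopologicalSpace.Opens.mem_iSup.mp hz
    rw [← Scheme.Hom.comp_preimage, ← Functor.map_comp] at hx
    refine ⟨⟨D.map (v ≫ p x) ⁻¹ᵁ (W x.1).1, (W x.1).2.preimage _⟩, hx, ?_⟩
    rw [← hp x, ← Category.assoc, D.map_comp (v ≫ p x) (t x.1), Scheme.IdealSheafData.comap_comp]
    exact ⟨_, BlowCompLib.ideal_comap_span _ (D.map (v ≫ p x)) (hb x.1) _ le_rfl⟩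
  · rw [← Scheme.IdealSheafData.comap_comp, c.w]
    exact hX

/-- A modulus pair over a qcqs base is a limit of pairs of finite type along dominant affine transitions. -/
theorem exists_approx {X S : Scheme.{u}} [CompactSpace S] [QuasiSeparatedSpace S]
    (IS : S.IdealSheafData) (hS : BlowUp.IsEffCartierIdeal IS)
    (IX : X.IdealSheafData) (hX : BlowUp.IsEffCartierIdeal IX)
    (f : X ⟶ S) [QuasiCompact f] [IsSeparated f] (hf : ModPair.IsAmbient IX IS f) :
    ∃ (I : Type u) (_ : SmallCategory I) (_ : IsCofiltered I) (D : I ⥤ Over S) (c : Cone D)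
      (_ : IsLimit c) (e : c.pt ≅ Over.mk f) (J : ∀ i, (D.obj i).left.IdealSheafData),
      (∀ i, BlowUp.IsEffCartierIdeal (J i)) ∧
      (∀ i, LocallyOfFiniteType (D.obj i).hom ∧ QuasiCompact (D.obj i).hom ∧ IsSeparated (D.obj i).hom) ∧
      (∀ i, ModPair.IsAmbient (J i) IS (D.obj i).hom) ∧
      (∀ (i j : I) (t : i ⟶ j), IsAffineHom (D.map t).left ∧ ModPair.IsMinimal (J i) (J j) (D.map t).left ∧
          IsSchemeTheoreticallyDominant (D.map t).left) ∧
      (∀ i, IX = (J i).comap (e.inv.left ≫ (c.π.app i).left)) := by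
  haveI : CompactSpace X := QuasiCompact.compactSpace_of_compactSpace f
  haveI : QuasiSeparatedSpace X := quasiSeparatedSpace_of_quasiSeparated f
  obtain ⟨K, hp, hd, hne, D₀, p, hc₀, hobj, hmap⟩ := NApproxLib.exists_over_limit f
  let D₁ : Kᵒᵖ ⥤ Scheme.{u} := D₀ ⋙ Over.forget S
  let c₁ : Cone D₁ := (Over.forget S).mapCone (Cone.mk (Over.mk f) p)
  have hc₁ : IsLimit c₁ := isLimitOfPreserves (Over.forget S) hc₀
  haveI : ∀ {i j : Kᵒᵖ} (a : i ⟶ j), IsAffineHom (D₁.map a) := fun {i j} a => hmap i j a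
  haveI : ∀ i, CompactSpace (D₁.obj i) := fun i => (hobj i).2.2.2.1
  haveI : ∀ i, QuasiSeparatedSpace (D₁.obj i) := fun i => (hobj i).2.2.2.2.1
  let j₁ : X ⟶ c₁.pt := 𝟙 X
  haveI : ∀ i, IsAffineHom (c₁.π.app i) := fun i => isAffineHom_π_app D₁ c₁ hc₁ i
  haveI : ∀ i, QuasiCompact (j₁ ≫ c₁.π.app i) := fun i => inferInstance
  let E : Kᵒᵖ ⥤ Scheme.{u} := NApproxLib.imgSys D₁ c₁ j₁
  let cE : Cone E := NApproxLib.imgCone D₁ c₁ j₁
  obtain ⟨hcE⟩ := NApproxLib.nonempty_isLimit_imgCone D₁ c₁ hc₁ j₁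
  haveI : ∀ i, CompactSpace (E.obj i) := fun i =>
    QuasiCompact.compactSpace_of_compactSpace (j₁ ≫ c₁.π.app i).imageι
  haveI : ∀ i, QuasiSeparatedSpace (E.obj i) := fun i =>
    quasiSeparatedSpace_of_quasiSeparated (j₁ ≫ c₁.π.app i).imageι
  haveI hEaff : ∀ {i j : Kᵒᵖ} (a : i ⟶ j), IsAffineHom (E.map a) := fun {i j} a => by
    have h := (NApproxLib.exists_imgMap D₁ c₁ j₁ a).choose_spec.1
    haveI : IsAffineHom (E.map a ≫ (j₁ ≫ c₁.π.app j).imageι) := by
      show IsAffineHom ((NApproxLib.exists_imgMap D₁ c₁ j₁ a).choose ≫ _)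
      rw [h]
      infer_instance
    exact MorphismProperty.of_postcomp (W := @IsAffineHom) (W' := @IsSeparated) (E.map a)
      (j₁ ≫ c₁.π.app j).imageι inferInstance ‹_›
  haveI hπd : ∀ i, IsSchemeTheoreticallyDominant (cE.π.app i) := fun i =>
    inferInstanceAs (IsSchemeTheoreticallyDominant (j₁ ≫ c₁.π.app i).toImage)
  have hEd : ∀ {i j : Kᵒᵖ} (a : i ⟶ j), IsSchemeTheoreticallyDominant (E.map a) := fun {i j} a => by
    refine ⟨le_bot_iff.mp ?_⟩
    have h2 := Scheme.Hom.le_ker_comp (cE.π.app i) (E.map a)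
    rw [cE.w a, Scheme.Hom.ker_eq_bot (cE.π.app j)] at h2
    exact h2
  -- separatedness
  let tD : D₁ ⟶ (Functor.const Kᵒᵖ).obj S := { app := fun i => (D₀.obj i).hom }
  obtain ⟨i₀⟩ : Nonempty Kᵒᵖ := IsCofiltered.nonempty
  haveI : IsSeparated (c₁.π.app i₀ ≫ tD.app i₀) := by
    show IsSeparated ((p.app i₀).left ≫ (D₀.obj i₀).hom)
    exact (Over.w (p.app i₀)).symm ▸ ‹IsSeparated f›
  obtain ⟨i₁, hi₁⟩ := AffLim.exists_isSeparated_const tD c₁ hc₁ i₀
  -- the ideal
  obtain ⟨i₂, J₂, hJ₂, hJ₂e⟩ := Groth.Agent.S9220.result E cE hcE IX (fg_of_isLP (isLP_of_cart hX))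
  obtain ⟨i₃, t₃, hcart⟩ := exists_cart_stage E cE hcE J₂ hJ₂ (hJ₂e ▸ hX)
  let g (i : Kᵒᵖ) : E.obj i ⟶ S := (j₁ ≫ c₁.π.app i).imageι ≫ (D₀.obj i).hom
  have hg {i j : Kᵒᵖ} (a : i ⟶ j) : E.map a ≫ g j = g i := by
    show (NApproxLib.exists_imgMap D₁ c₁ j₁ a).choose ≫ _ ≫ _ = _
    rw [← Category.assoc, (NApproxLib.exists_imgMap D₁ c₁ j₁ a).choose_spec.1, Category.assoc]
    show _ ≫ (D₀.map a).left ≫ _ = _
    rw [Over.w]
  have hπg (i : Kᵒᵖ) : cE.π.app i ≫ g i = f := by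
    show (j₁ ≫ c₁.π.app i).toImage ≫ _ ≫ _ = _
    rw [Scheme.Hom.toImage_imageι_assoc, Category.assoc, Category.id_comp]
    exact Over.w (p.app i)
  have hamb : (J₂.comap (E.map t₃)).comap (cE.π.app i₃) ≤ (IS.comap (g i₃)).comap (cE.π.app i₃) := by
    rw [← Scheme.IdealSheafData.comap_comp, ← Scheme.IdealSheafData.comap_comp, cE.w, hJ₂e, hπg]
    exact hf
  obtain ⟨i₄, t₄, ht₄⟩ := exists_stage_le E cE hcE i₃ hcart ((isLP_of_cart hS).comap (g i₃)) hamb
  obtain ⟨l, a₁, a₄, -⟩ := IsCofilteredOrEmpty.cone_objs i₁ i₄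
  let E' : Over l ⥤ Scheme.{u} := Over.forget l ⋙ E
  let cE' : Cone E' := cE.whisker (Over.forget l)
  have hcE' : IsLimit cE' := (Functor.Initial.isLimitWhiskerEquiv (Over.forget l) cE).symm hcE
  let J (i : Over l) : (E'.obj i).IdealSheafData :=
    J₂.comap (E.map ((i.hom ≫ a₄ ≫ t₄) ≫ t₃))
  have hJmin {i j : Over l} (a : i ⟶ j) : J i = (J j).comap (E'.map a) := by
    show J₂.comap _ = (J₂.comap _).comap (E.map a.left)
    rw [← Scheme.IdealSheafData.comap_comp, ← Functor.map_comp]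
    congr 2
  let F : Over l ⥤ Over S :=
    { obj := fun i => Over.mk (g i.left)
      map := fun {i j} a => Over.homMk (E.map a.left) (hg a.left)
      map_id := fun i => Over.OverMorphism.ext (E.map_id _)
      map_comp := fun a b => Over.OverMorphism.ext (E.map_comp _ _) }
  let cF : Cone F :=
    { pt := Over.mk f
      π :=
        { app := fun i => Over.homMk (cE.π.app i.left) (hπg i.left)
          naturality := fun i j a => Over.OverMorphism.ext (cE.π.naturality a.left) } }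
  haveI : IsConnected (Over l) := IsCofiltered.isConnected _
  have hcF : IsLimit cF := isLimitOfReflects (Over.forget S) (show IsLimit ((Over.forget S).mapCone cF) from hcE')
  refine ⟨Over l, inferInstance, inferInstance, F, cF, hcF, Iso.refl _, J, fun i => ?_, fun i => ?_,
    fun i => ?_, fun i j a => ⟨hEaff a.left, hJmin a, hEd a.left⟩, fun i => ?_⟩
  · haveI : IsAffineHom (cE.π.app i.left) := isAffineHom_π_app E cE hcE _
    refine cart_of_dominant_comap (cE.π.app i.left) ?_ ?_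
    · show IsLP (J₂.comap _)
      rw [Functor.map_comp, Scheme.IdealSheafData.comap_comp]
      exact (isLP_of_cart hcart).comap _
    · show BlowUp.IsEffCartierIdeal ((J₂.comap _).comap _)
      rw [← Scheme.IdealSheafData.comap_comp, cE.w, hJ₂e]
      exact hX
  · haveI : LocallyOfFinitePresentation (D₀.obj i.left).hom := (hobj i.left).1
    haveI : QuasiCompact (D₀.obj i.left).hom := (hobj i.left).2.1
    haveI : IsSeparated (D₀.obj i.left).hom := hi₁ i.left (i.hom ≫ a₁)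
    exact ⟨inferInstanceAs (LocallyOfFiniteType (_ ≫ (D₀.obj i.left).hom)),
      inferInstanceAs (QuasiCompact (_ ≫ (D₀.obj i.left).hom)),
      inferInstanceAs (IsSeparated (_ ≫ (D₀.obj i.left).hom))⟩
  · show J₂.comap _ ≤ IS.comap (g i.left)
    rw [← hg ((i.hom ≫ a₄ ≫ t₄)), Functor.map_comp, Scheme.IdealSheafData.comap_comp,
      Scheme.IdealSheafData.comap_comp]
    rw [show i.hom ≫ a₄ ≫ t₄ = (i.hom ≫ a₄) ≫ t₄ from (Category.assoc _ _ _).symm, Functor.map_comp,
      Scheme.IdealSheafData.comap_comp, Scheme.IdealSheafData.comap_comp]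
    exact Scheme.IdealSheafData.comap_mono _ ht₄
  · show IX = (J₂.comap _).comap (𝟙 X ≫ cE.π.app i.left)
    rw [Category.id_comp, ← Scheme.IdealSheafData.comap_comp, cE.w, hJ₂e]

end Groth.Agent.ModPairLib
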