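import Mathlib

/-! Elementary consequences of a calculus of right fractions. -/

set_option autoImplicit false

universe v₁ v₂ u₁ u₂

open CategoryTheory

namespace Groth.Agent.ModPairLib.Frac

variable {C : Type u₁} [Category.{v₁} C] {D : Type u₂} [Category.{v₂} D] {W : MorphismProperty C}
  [W.HasRightCalculusOfFractions] (L : C ⥤ D) [L.IsLocalization W]

variable (W) in
theorem exists_frac {X Y : C} (u : L.obj X ⟶ L.obj Y) :
    ∃ (X' : C) (s : X' ⟶ X) (a : X' ⟶ Y), W s ∧ L.map s ≫ u = L.map a := by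
  obtain ⟨φ, rfl⟩ := Localization.exists_rightFraction L W u
  exact ⟨φ.X', φ.s, φ.f, φ.hs, MorphismProperty.RightFraction.map_s_comp_map φ L _⟩

variable (W) in
theorem exists_common {X Y Z : C} (u : L.obj X ⟶ L.obj Y) (v : L.obj X ⟶ L.obj Z) :
    ∃ (X' : C) (s : X' ⟶ X) (a : X' ⟶ Y) (b : X' ⟶ Z), W s ∧ L.map s ≫ u = L.map a ∧ L.map s ≫ v = L.map b := by
  obtain ⟨X₁, s, a, hs, ha⟩ := exists_frac W L u
  obtain ⟨X₂, t, b, ht, hb⟩ := exists_frac W L (L.map s ≫ v)
  exact ⟨X₂, t ≫ s, t ≫ a, b, W.comp_mem _ _ ht hs, by rw [L.map_comp, Category.assoc, ha, L.map_comp],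
    by rw [L.map_comp, Category.assoc, hb]⟩

theorem cancel_s {X X' : C} {s : X' ⟶ X} (hs : W s) {A : D} {u v : L.obj X ⟶ A}
    (h : L.map s ≫ u = L.map s ≫ v) : u = v := by
  haveI := Localization.inverts L W s hs
  exact (cancel_epi (L.map s)).1 h

end Groth.Agent.ModPairLib.Frac
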