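import Mathlib
import Groth.Agent.ModPairLib.Pair
import Groth.Agent.ModPairLib.Frac
import Groth.Agent.S18735

/-! The abstract admissible blow-ups admit a calculus of right fractions. -/

set_option autoImplicit false
set_option backward.isDefEq.respectTransparency false
set_option backward.isDefEq.respectTransparency.types false
set_option backward.defeqAttrib.useBackward true
set_option linter.style.haveILetI false
set_option maxHeartbeats 800000

universe u

open CategoryTheory CategoryTheory.Limits AlgebraicGeometry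

namespace Groth.Agent.ModPairLib

open ModPair

theorem minimal_comp {X Y Z : Scheme.{u}} {I : X.IdealSheafData} {J : Y.IdealSheafData} {K : Z.IdealSheafData}
    {f : X ⟶ Y} {g : Y ⟶ Z} (hf : IsMinimal I J f) (hg : IsMinimal J K g) : IsMinimal I K (f ≫ g) := by
  show I = _
  rw [show I = J.comap f from hf, show J = K.comap g from hg, Scheme.IdealSheafData.comap_comp]

theorem isAdmBlowup_comp {X Y Z : Scheme.{u}} {I : X.IdealSheafData} {J : Y.IdealSheafData} {K : Z.IdealSheafData}
    {f : X ⟶ Y} {g : Y ⟶ Z} (hf : IsAdmBlowup I J f) (hg : IsAdmBlowup J K g) : IsAdmBlowup I K (f ≫ g) := by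
  haveI := hf.2.1
  haveI := hg.2.1
  refine ⟨minimal_comp hf.1 hg.1, inferInstance, ?_⟩
  have h1 : IsIso (f ∣_ g ⁻¹ᵁ ModPair.interior K) := by
    rw [← interior_eq_of_minimal hg.1]
    exact hf.2.2
  rw [morphismRestrict_comp]
  exact @IsIso.comp_isIso _ _ _ _ _ _ _ h1 hg.2.2

theorem admBlowup_id (P : Pair.{u}) : IsAdmBlowup P.mod P.mod (𝟙 P.total) :=
  ⟨(Scheme.IdealSheafData.comap_id P.mod).symm, inferInstance, inferInstance⟩

instance isMultiplicative_admBlowup : (Pair.admBlowup.{u}).IsMultiplicative where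
  id_mem P := admBlowup_id P
  comp_mem _ _ hf hg := isAdmBlowup_comp hf hg

/-- Morphisms equal after composing with an admissible blow-up are equal. -/
theorem eq_of_comp_admBlowup {P Q R : Pair.{u}} (f₁ f₂ : P ⟶ Q) (s : Q ⟶ R) (hs : Pair.admBlowup s)
    (h : f₁ ≫ s = f₂ ≫ s) : f₁ = f₂ := by
  obtain ⟨hmin, hprop, hiso⟩ := hs
  haveI := hprop
  haveI := dominant_interior P.isEffCartier
  have heq : f₁.hom ≫ s.hom = f₂.hom ≫ s.hom := congrArg Pair.Hom.hom h
  refine Pair.Hom.ext (hom_ext_dominant (ModPair.interior P.mod).ι s.hom heq ?_)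
  set U := s.hom ⁻¹ᵁ ModPair.interior R.mod
  have hl : ∀ f : P ⟶ Q, Set.range ((ModPair.interior P.mod).ι ≫ f.hom) ⊆ Set.range U.ι := fun f => by
    rintro _ ⟨y, rfl⟩
    rw [Scheme.Opens.range_ι]
    rw [SetLike.mem_coe, show U = ModPair.interior Q.mod from (interior_eq_of_minimal hmin).symm, Scheme.Hom.comp_apply]
    exact interior_le_of_ambient f.cond y.2
  rw [← IsOpenImmersion.lift_fac U.ι _ (hl f₁), ← IsOpenImmersion.lift_fac U.ι _ (hl f₂)]
  congr 1
  rw [← cancel_mono (s.hom ∣_ ModPair.interior R.mod), ← cancel_mono (ModPair.interior R.mod).ι]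
  simp only [Category.assoc, morphismRestrict_ι]
  rw [IsOpenImmersion.lift_fac_assoc, IsOpenImmersion.lift_fac_assoc, Category.assoc, Category.assoc, heq]

theorem exists_square {X Y Y' : Pair.{u}} (f : X ⟶ Y') (s : Y ⟶ Y') (hs : Pair.admBlowup s) :
    ∃ (X' : Pair.{u}) (t : X' ⟶ X) (a : X' ⟶ Y), Pair.admBlowup t ∧ t ≫ f = a ≫ s := by
  obtain ⟨hc, hq, hr⟩ := S18735.result Y'.mod X.mod Y.mod Y'.isEffCartier X.isEffCartier Y.isEffCartier f.hom f.cond s.hom hs
  refine ⟨⟨_, _, hc⟩, ⟨_, le_of_eq hq.1⟩, ⟨_, hr⟩, hq, Pair.Hom.ext ?_⟩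
  show (mprodι s.hom f.hom Y.mod X.mod ≫ pullback.snd s.hom f.hom) ≫ f.hom =
    (mprodι s.hom f.hom Y.mod X.mod ≫ pullback.fst s.hom f.hom) ≫ s.hom
  rw [Category.assoc, Category.assoc, pullback.condition]

instance calculus_admBlowup : (Pair.admBlowup.{u}).HasRightCalculusOfFractions where
  exists_rightFraction X Y φ := by
    obtain ⟨X', t, a, ht, h⟩ := exists_square φ.f φ.s φ.hs
    exact ⟨MorphismProperty.RightFraction.mk t ht a, h⟩
  ext X Y Y' f₁ f₂ s hs h := ⟨X, 𝟙 X, admBlowup_id X, by rw [eq_of_comp_admBlowup f₁ f₂ s hs h]⟩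

end Groth.Agent.ModPairLib
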