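import Mathlib
import Groth.Agent.ModPairLib.Approx
import Groth.Agent.ModPairLib.FiniteExt
import Groth.Agent.NApproxLib.Proper
import Groth.Agent.S4613
import Groth.Agent.S2078
import Groth.Agent.S7379
import Groth.Agent.ASp.EtLocal

/-!
Approximation of morphisms of modulus pairs of finite type by finitely presented ones.
-/

set_option autoImplicit false
set_option backward.isDefEq.respectTransparency false
set_option backward.isDefEq.respectTransparency.types false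
set_option backward.defeqAttrib.useBackward true
set_option linter.style.haveILetI false
set_option maxHeartbeats 800000

universe u

open CategoryTheory CategoryTheory.Limits AlgebraicGeometry

namespace Groth.Agent.ModPairLib

attribute [local instance] IsCofiltered.isConnected

/-- Kernels of the sections of a closed immersion which is finitely presented over an open. -/
theorem ker_app_fg_of_le {X Y : Scheme.{u}} (f : X ⟶ Y) [IsClosedImmersion f] {U W : Y.Opens}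
    (hU : IsAffineOpen U) (h : U ≤ W) [LocallyOfFinitePresentation (f ∣_ W)] :
    (RingHom.ker (f.app U).hom).FG := by
  have hU' : IsAffineOpen (W.ι ⁻¹ᵁ U) :=
    hU.preimage_of_isOpenImmersion W.ι (by rw [Scheme.Opens.opensRange_ι]; exact h)
  haveI : IsClosedImmersion (f ∣_ W) := IsZariskiLocalAtTarget.restrict ‹_› W
  have h1 := (Groth.Agent.S4613.result (f ∣_ W)).mp inferInstance ⟨W.ι ⁻¹ᵁ U, hU'⟩
  rw [morphismRestrict_app, CommRingCat.hom_comp,
    RingHom.ker_comp_of_injective _ ((ConcreteCategory.bijective_of_isIso _).injective)] at h1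
  have e : W.ι ''ᵁ (W.ι ⁻¹ᵁ U) = U := by
    rw [Scheme.Hom.image_preimage_eq_opensRange_inf, Scheme.Opens.opensRange_ι, inf_eq_right.mpr h]
  have h3 : ∀ V : Y.Opens, V = U → (RingHom.ker (f.app V).hom).FG → (RingHom.ker (f.app U).hom).FG :=
    fun V hV hf => hV ▸ hf
  exact h3 _ e h1

variable {I : Type u} [SmallCategory I] [IsCofiltered I]

/-- A finitely presented closed immersion into a stage of a system of closed immersions is eventually an
isomorphism. -/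
theorem exists_iso_stage_closed (D : I ⥤ Scheme.{u}) (c : Cone D) (hc : IsLimit c)
    [∀ {i j} (f : i ⟶ j), IsClosedImmersion (D.map f)] [∀ i, IsClosedImmersion (c.π.app i)]
    (i : I) (W : (D.obj i).Opens) (hW : IsCompact (W : Set (D.obj i)))
    [LocallyOfFinitePresentation (c.π.app i ∣_ W)] :
    ∃ (j : I) (t : j ⟶ i), ∀ (m : I) (v : m ⟶ j), IsIso (c.π.app m ∣_ (D.map (v ≫ t) ⁻¹ᵁ W)) := by
  classical
  have key (x : W) : ∃ (U : (D.obj i).affineOpens) (_ : x.1 ∈ U.1) (_ : U.1 ≤ W) (k : I) (t : k ⟶ i),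
      ∀ (m : I) (v : m ⟶ k), Function.Bijective ((c.π.app m).app (D.map (v ≫ t) ⁻¹ᵁ U.1)).hom := by
    obtain ⟨_, ⟨U, hU, rfl⟩, hx, hUW⟩ :=
      (D.obj i).isBasis_affineOpens.exists_subset_of_mem_open x.2 W.isOpen
    replace hU : IsAffineOpen U := hU
    obtain ⟨G, hG⟩ := ker_app_fg_of_le (c.π.app i) hU hUW
    choose k t ht using fun g : G => exists_app_map_eq_zero_of_isLimit D c hc hU.isCompact g.1
      (show (c.π.app i).app U g.1 = 0 from RingHom.mem_ker.mp (hG ▸ Ideal.subset_span g.2))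
    obtain ⟨l, q, p, hp⟩ := IsCofiltered.wideCospan t
    refine ⟨⟨U, hU⟩, hx, hUW, l, q, fun m v => ⟨?_, (c.π.app m).app_surjective _ (hU.preimage _)⟩⟩
    rw [injective_iff_map_eq_zero]
    intro z hz
    obtain ⟨z', rfl⟩ := (D.map (v ≫ q)).app_surjective U hU z
    have hker : z' ∈ RingHom.ker ((c.π.app i).app U).hom := by
      rw [RingHom.mem_ker]
      have e1 : c.π.app i = c.π.app m ≫ D.map (v ≫ q) := (c.w _).symm
      have h2 : (c.π.app m ≫ D.map (v ≫ q)).app U z' = 0 := by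
        rw [Scheme.Hom.comp_app]
        exact hz
      have h3 : ∀ f' : c.pt ⟶ D.obj i, f' = c.π.app i → f'.app U z' = 0 → (c.π.app i).app U z' = 0 :=
        fun f' hf' h => by cases hf'; exact h
      exact h3 _ e1.symm h2
    rw [← hG] at hker
    have hle : Ideal.span (G : Set Γ(D.obj i, U)) ≤ RingHom.ker ((D.map (v ≫ q)).app U).hom := by
      rw [Ideal.span_le]
      intro g hg
      rw [SetLike.mem_coe, RingHom.mem_ker]
      have h3 : ∀ f' : D.obj m ⟶ D.obj i, f' = D.map (v ≫ q) → f'.app U g = 0 →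
          (D.map (v ≫ q)).app U g = 0 := fun f' hf' h => by cases hf'; exact h
      refine h3 (D.map (v ≫ p ⟨g, hg⟩) ≫ D.map (t ⟨g, hg⟩)) ?_ ?_
      · rw [← Functor.map_comp, Category.assoc, hp]
      · rw [Scheme.Hom.comp_app]
        exact (congrArg ((D.map (v ≫ p ⟨g, hg⟩)).app _).hom (ht ⟨g, hg⟩)).trans (map_zero _)
    exact RingHom.mem_ker.mp (hle hker)
  choose U hxU hUW k t hk using key
  obtain ⟨T, hT⟩ := hW.elim_finite_subcover (fun x => ((U x).1 : Set (D.obj i)))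
    (fun x => (U x).1.2) (fun y hy => Set.mem_iUnion.mpr ⟨⟨y, hy⟩, hxU ⟨y, hy⟩⟩)
  obtain ⟨l, q, p, hp⟩ := IsCofiltered.wideCospan (fun x : T => t x.1)
  refine ⟨l, q, fun m v => ?_⟩
  change MorphismProperty.isomorphisms Scheme (c.π.app m ∣_ (D.map (v ≫ q) ⁻¹ᵁ W))
  rw [IsZariskiLocalAtTarget.iff_of_iSup_eq_top (P := MorphismProperty.isomorphisms Scheme)
    (fun x : T => (D.map (v ≫ q) ⁻¹ᵁ W).ι ⁻¹ᵁ (D.map (v ≫ q) ⁻¹ᵁ (U x.1).1)) (top_le_iff.mp fun y _ => by
      obtain ⟨x, hxT, hy⟩ := Set.mem_iUnion₂.mp (hT (show D.map (v ≫ q) y.1 ∈ (W : Set (D.obj i)) from y.2))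
      exact TopologicalSpace.Opens.mem_iSup.mpr ⟨⟨x, hxT⟩, hy⟩)]
  intro x
  have hs := hk x.1 m (v ≫ p x)
  rw [Category.assoc, hp x] at hs
  have hiso : IsIso (c.π.app m ∣_ (D.map (v ≫ q) ⁻¹ᵁ (U x.1).1)) :=
    isIso_restrict_of_app_bijective (c.π.app m) ((U x.1).2.preimage _) hs
  refine (MorphismProperty.arrow_mk_iso_iff (.isomorphisms _) (morphismRestrictRestrict _ _ _)).mpr ?_
  have e : (D.map (v ≫ q) ⁻¹ᵁ W).ι ''ᵁ ((D.map (v ≫ q) ⁻¹ᵁ W).ι ⁻¹ᵁ (D.map (v ≫ q) ⁻¹ᵁ (U x.1).1)) =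
      D.map (v ≫ q) ⁻¹ᵁ (U x.1).1 := by
    rw [Scheme.Hom.image_preimage_eq_opensRange_inf, Scheme.Opens.opensRange_ι,
      inf_eq_right.mpr (Scheme.Hom.preimage_mono _ (hUW x.1))]
  have h3 : ∀ V, V = D.map (v ≫ q) ⁻¹ᵁ (U x.1).1 → IsIso (c.π.app m ∣_ V) := fun V hV => hV ▸ hiso
  exact h3 _ e

/-- A common chart of two locally principal ideals. -/
theorem exists_chart_lp {X : Scheme.{u}} {A B : X.IdealSheafData} (hA : IsLP A) (hB : IsLP B) (x : X) :
    ∃ V : X.affineOpens, x ∈ V.1 ∧ (∃ a, A.ideal V = Ideal.span {a}) ∧ ∃ b, B.ideal V = Ideal.span {b} := by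
  obtain ⟨U₁, hx₁, a, ha⟩ := hA x
  obtain ⟨U₂, hx₂, b, hb⟩ := hB x
  obtain ⟨t, ht, hxt⟩ := U₁.2.exists_basicOpen_le (V := U₁.1 ⊓ U₂.1) ⟨x, hx₁, hx₂⟩ hx₁
  exact ⟨X.affineBasicOpen (U := U₁) t, hxt,
    ⟨_, ideal_basicOpen_span A (U := U₁) (ht.trans inf_le_left) ha⟩,
    ⟨_, ideal_basicOpen_span B (U := U₂) (ht.trans inf_le_right) hb⟩⟩

/-- An inclusion between locally principal ideals on the limit holds at some stage. -/
theorem exists_stage_le_lp (D : I ⥤ Scheme.{u}) (c : Cone D) (hc : IsLimit c)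
    [∀ {i j} (f : i ⟶ j), IsAffineHom (D.map f)] (i : I) [CompactSpace (D.obj i)]
    {A B : (D.obj i).IdealSheafData} (hA : IsLP A) (hB : IsLP B)
    (h : A.comap (c.π.app i) ≤ B.comap (c.π.app i)) :
    ∃ (j : I) (t : j ⟶ i), A.comap (D.map t) ≤ B.comap (D.map t) := by
  classical
  haveI := isAffineHom_π_app D c hc i
  have key (x : D.obj i) : ∃ (U : (D.obj i).affineOpens) (_ : x ∈ U.1) (k : I) (v : k ⟶ i),
      (A.comap (D.map v)).ideal ⟨D.map v ⁻¹ᵁ U.1, U.2.preimage _⟩ ≤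
        (B.comap (D.map v)).ideal ⟨D.map v ⁻¹ᵁ U.1, U.2.preimage _⟩ := by
    obtain ⟨U, hx, ⟨a, ha⟩, b, hb⟩ := exists_chart_lp hA hB x
    let V : c.pt.affineOpens := ⟨c.π.app i ⁻¹ᵁ U.1, U.2.preimage _⟩
    have h1 := h V
    rw [BlowCompLib.ideal_comap_span A _ ha V le_rfl, BlowCompLib.ideal_comap_span B _ hb V le_rfl,
      Ideal.span_singleton_le_iff_mem, Ideal.mem_span_singleton'] at h1
    obtain ⟨r, hr⟩ := h1
    obtain ⟨j, t, e, w, rfl⟩ := exists_section_stage D c hc i U.2 r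
    let Uj : (D.obj j).affineOpens := ⟨D.map t ⁻¹ᵁ U.1, U.2.preimage _⟩
    let a' : Γ(D.obj j, Uj.1) := ((D.map t).appLE U.1 Uj.1 le_rfl).hom a
    let b' : Γ(D.obj j, Uj.1) := ((D.map t).appLE U.1 Uj.1 le_rfl).hom b
    have hcomp (z : Γ(D.obj i, U.1)) : ((c.π.app j).appLE Uj.1 V.1 e).hom
        (((D.map t).appLE U.1 Uj.1 le_rfl).hom z) = ((c.π.app i).appLE U.1 V.1 le_rfl).hom z := by
      rw [← ConcreteCategory.comp_apply, Scheme.Hom.appLE_comp_appLE]
      simp [V]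
    have h0 : ((c.π.app j).appLE Uj.1 V.1 e).hom (w * b' - a') = 0 := by
      rw [map_sub, map_mul, hcomp, hcomp, sub_eq_zero]
      exact hr
    have h0' : (c.π.app j).app Uj.1 (w * b' - a') = 0 := by
      have hle : c.π.app j ⁻¹ᵁ Uj.1 ≤ V.1 := le_of_eq (by
        show c.π.app j ⁻¹ᵁ (D.map t ⁻¹ᵁ U.1) = c.π.app i ⁻¹ᵁ U.1
        rw [← Scheme.Hom.comp_preimage, c.w])
      have := congrArg (c.pt.presheaf.map (homOfLE hle).op).hom h0
      rw [map_zero] at this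
      refine Eq.trans ?_ this
      exact ConcreteCategory.congr_hom ((Scheme.Hom.app_eq_appLE _).trans
        (Scheme.Hom.appLE_map (c.π.app j) e (homOfLE hle).op).symm) _
    obtain ⟨k, v, hk⟩ := exists_app_map_eq_zero_of_isLimit D c hc Uj.2.isCompact _ h0'
    refine ⟨U, hx, k, v ≫ t, ?_⟩
    let Uk : (D.obj k).affineOpens := ⟨D.map (v ≫ t) ⁻¹ᵁ U.1, U.2.preimage _⟩
    have hle' : Uk.1 ≤ D.map v ⁻¹ᵁ Uj.1 := le_of_eq (by
      show D.map (v ≫ t) ⁻¹ᵁ U.1 = D.map v ⁻¹ᵁ (D.map t ⁻¹ᵁ U.1)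
      rw [← Scheme.Hom.comp_preimage, Functor.map_comp])
    show (A.comap _).ideal Uk ≤ (B.comap _).ideal Uk
    rw [Functor.map_comp, Scheme.IdealSheafData.comap_comp, Scheme.IdealSheafData.comap_comp]
    rw [BlowCompLib.ideal_comap_span _ _
        (BlowCompLib.ideal_comap_span A (D.map t) ha Uj le_rfl) Uk hle',
      BlowCompLib.ideal_comap_span _ _
        (BlowCompLib.ideal_comap_span B (D.map t) hb Uj le_rfl) Uk hle',
      Ideal.span_singleton_le_iff_mem, Ideal.mem_span_singleton']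
    refine ⟨((D.map v).appLE Uj.1 Uk.1 hle').hom w, ?_⟩
    rw [← map_mul, ← sub_eq_zero, ← map_sub]
    have := congrArg ((D.obj k).presheaf.map (homOfLE hle').op).hom hk
    rw [map_zero] at this
    refine Eq.trans ?_ this
    refine ConcreteCategory.congr_hom
      (?_ : _ = (D.map v).app Uj.1 ≫ (D.obj k).presheaf.map (homOfLE hle').op) _
    rw [Scheme.Hom.app_eq_appLE, Scheme.Hom.appLE_map]
  choose U hxU k v hk using key
  obtain ⟨T, hT⟩ := CompactSpace.elim_nhds_subcover (fun x => ((U x).1 : Set (D.obj i)))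
    (fun x => (U x).1.2.mem_nhds (hxU x))
  obtain ⟨l, q, p, hp⟩ := IsCofiltered.wideCospan (fun x : T => v x.1)
  refine ⟨l, q, le_of_local fun y => ?_⟩
  obtain ⟨x, hxT, hy⟩ := Set.mem_iUnion₂.mp (hT.ge (Set.mem_univ (D.map q y)))
  refine ⟨⟨D.map q ⁻¹ᵁ (U x).1, (U x).2.preimage _⟩, hy, ?_⟩
  have hq : D.map q = D.map (p ⟨x, hxT⟩) ≫ D.map (v x) := by
    rw [← Functor.map_comp, hp ⟨x, hxT⟩]
  rw [congrArg A.comap hq, congrArg B.comap hq, Scheme.IdealSheafData.comap_comp,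
    Scheme.IdealSheafData.comap_comp]
  refine ideal_le_comap _ _ _ ⟨D.map (v x) ⁻¹ᵁ (U x).1, (U x).2.preimage _⟩ _ ?_ (hk x)
  show D.map q ⁻¹ᵁ (U x).1 ≤ D.map (p ⟨x, hxT⟩) ⁻¹ᵁ (D.map (v x) ⁻¹ᵁ (U x).1)
  rw [← Scheme.Hom.comp_preimage, ← hq]

/-- A locally principal ideal on the limit is locally principal at some stage. -/
theorem exists_lp_stage (D : I ⥤ Scheme.{u}) (c : Cone D) (hc : IsLimit c)
    [∀ {i j} (f : i ⟶ j), IsAffineHom (D.map f)]
    [∀ i, CompactSpace (D.obj i)] [∀ i, QuasiSeparatedSpace (D.obj i)]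
    {i : I} (J : (D.obj i).IdealSheafData) (hfg : ∀ U : (D.obj i).affineOpens, (J.ideal U).FG)
    (hX : IsLP (J.comap (c.π.app i))) :
    ∃ (j : I) (t : j ⟶ i), IsLP (J.comap (D.map t)) := by
  classical
  haveI : ∀ k, IsAffineHom (c.π.app k) := fun k => isAffineHom_π_app D c hc k
  have key (x : c.pt) : ∃ (m : I) (t : m ⟶ i) (W : (D.obj m).affineOpens),
      c.π.app m x ∈ W.1 ∧ ∃ b, (J.comap (D.map t)).ideal W = Ideal.span {b} := by
    have hX' : IsLP (X := c.pt) (J.comap (c.π.app i)) := hX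
    obtain ⟨V, hx, f, hfV⟩ := hX' x
    obtain ⟨m₀, V₀, hV₀, hV₀e⟩ := exists_isAffineOpen_preimage_eq D c hc V.1 V.2
    obtain ⟨m₁, a₀, a₁, -⟩ := IsCofilteredOrEmpty.cone_objs m₀ i
    let W₁ : (D.obj m₁).affineOpens := ⟨D.map a₀ ⁻¹ᵁ V₀, hV₀.preimage _⟩
    have hW₁ : c.π.app m₁ ⁻¹ᵁ W₁.1 = V.1 := by
      show c.π.app m₁ ⁻¹ᵁ (D.map a₀ ⁻¹ᵁ V₀) = V.1
      rw [← Scheme.Hom.comp_preimage, c.w, hV₀e]
    obtain ⟨G, hG⟩ := fg_comap J (D.map a₁) hfg W₁
    have e₁ : V.1 ≤ c.π.app m₁ ⁻¹ᵁ W₁.1 := hW₁.ge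
    let φ : Γ(D.obj m₁, W₁.1) →+* Γ(c.pt, V.1) := ((c.π.app m₁).appLE W₁.1 V.1 e₁).hom
    have hGV : (J.comap (c.π.app i)).ideal V = Ideal.span (φ '' (G : Set Γ(D.obj m₁, W₁.1))) := by
      rw [← c.w a₁, Scheme.IdealSheafData.comap_comp, IdealStalkLib.comap_ideal _ _ W₁.2 V.2 e₁, ← hG]
      exact Ideal.map_span _ _
    have hfmem : f ∈ Ideal.span (φ '' (G : Set Γ(D.obj m₁, W₁.1))) := by
      rw [← hGV, hfV]; exact Ideal.mem_span_singleton_self f
    obtain ⟨μ, hμ⟩ : ∃ μ : G → Γ(c.pt, V.1), ∑ g, μ g • φ g.1 = f := by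
      rw [← Finset.coe_image] at hfmem
      obtain ⟨μ, hμ⟩ := Submodule.mem_span_finset'.mp hfmem
      refine (Submodule.mem_span_range_iff_exists_fun _).mp ?_
      have hr : Set.range (fun g : G => φ g.1) = ↑(G.image φ) := by
        ext z; simp
      rw [hr]
      exact Submodule.mem_span_finset'.mpr ⟨μ, hμ⟩
    have hr : ∀ g : G, ∃ r, r * f = φ g.1 := fun g => Ideal.mem_span_singleton'.mp (by
      rw [← hfV, hGV]; exact Ideal.subset_span ⟨g.1, g.2, rfl⟩)
    choose r hr using hr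
    let z : Option (G ⊕ G) → Γ(c.pt, V.1) := fun o => o.elim f (Sum.elim μ r)
    choose k t e w hw using fun o => exists_section_stage D c hc m₁ W₁.2
      ((c.pt.presheaf.map (homOfLE hW₁.le).op).hom (z o))
    obtain ⟨m, q, p, hp⟩ := IsCofiltered.wideCospan (fun o => t o)
    let W : (D.obj m).affineOpens := ⟨D.map q ⁻¹ᵁ W₁.1, W₁.2.preimage _⟩
    have eW : V.1 ≤ c.π.app m ⁻¹ᵁ W.1 := by
      show V.1 ≤ c.π.app m ⁻¹ᵁ (D.map q ⁻¹ᵁ W₁.1)
      rw [← Scheme.Hom.comp_preimage, c.w, hW₁]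
    have eW' : c.π.app m ⁻¹ᵁ W.1 ≤ V.1 := by
      show c.π.app m ⁻¹ᵁ (D.map q ⁻¹ᵁ W₁.1) ≤ V.1
      rw [← Scheme.Hom.comp_preimage, c.w, hW₁]
    let ψ : Γ(D.obj m, W.1) →+* Γ(c.pt, V.1) := ((c.π.app m).appLE W.1 V.1 eW).hom
    have hlift : ∀ o, ∃ y : Γ(D.obj m, W.1), ψ y = z o := fun o => by
      have hle : W.1 ≤ D.map (p o) ⁻¹ᵁ (D.map (t o) ⁻¹ᵁ W₁.1) := by
        refine le_of_eq ?_
        show D.map q ⁻¹ᵁ W₁.1 = _
        rw [← hp o, Functor.map_comp, Scheme.Hom.comp_preimage]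
      refine ⟨((D.map (p o)).appLE _ _ hle).hom (w o), ?_⟩
      have h2 := congrArg (c.pt.presheaf.map (homOfLE hW₁.ge).op).hom (hw o)
      have e4 : c.pt.presheaf.map (homOfLE hW₁.le).op ≫ c.pt.presheaf.map (homOfLE hW₁.ge).op = 𝟙 _ := by
        rw [← Functor.map_comp]
        exact (congrArg c.pt.presheaf.map (Subsingleton.elim _ (𝟙 _))).trans
          (CategoryTheory.Functor.map_id _ _)
      refine Eq.trans ?_ (h2.trans (ConcreteCategory.congr_hom e4 (z o)))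
      refine ConcreteCategory.congr_hom (?_ : (D.map (p o)).appLE _ _ hle ≫ (c.π.app m).appLE W.1 V.1 eW =
        (c.π.app (k o)).appLE _ _ (e o) ≫ c.pt.presheaf.map (homOfLE hW₁.ge).op) (w o)
      refine Eq.trans ?_ (Scheme.Hom.appLE_map _ (e o) (homOfLE hW₁.ge).op).symm
      rw [Scheme.Hom.appLE_comp_appLE]
      simp
    choose y hy using hlift
    let θ : Γ(D.obj m₁, W₁.1) →+* Γ(D.obj m, W.1) := ((D.map q).appLE W₁.1 W.1 le_rfl).hom
    have hθ (g : Γ(D.obj m₁, W₁.1)) : ψ (θ g) = φ g := by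
      refine ConcreteCategory.congr_hom (?_ : (D.map q).appLE W₁.1 W.1 le_rfl ≫ (c.π.app m).appLE W.1 V.1 eW =
        (c.π.app m₁).appLE W₁.1 V.1 e₁) g
      rw [Scheme.Hom.appLE_comp_appLE]
      simp
    let d : Option G → Γ(D.obj m, W.1) := fun o => o.elim
      ((∑ g : G, y (some (Sum.inl g)) * θ g.1) - y none)
      (fun g => y (some (Sum.inr g)) * y none - θ g.1)
    have hd : ∀ o, ψ (d o) = 0 := fun o => by
      cases o with
      | none =>
        show ψ (_ - _) = 0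
        rw [map_sub, map_sum, hy none, sub_eq_zero]
        refine (Finset.sum_congr rfl fun g _ => ?_).trans hμ
        rw [map_mul, hy, hθ]
        rfl
      | some g =>
        show ψ (_ - _) = 0
        rw [map_sub, map_mul, hy, hy, hθ, sub_eq_zero]
        exact hr g
    have hd' : ∀ o, (c.π.app m).app W.1 (d o) = 0 := fun o => by
      have h2 := congrArg (c.pt.presheaf.map (homOfLE eW').op).hom (hd o)
      rw [map_zero] at h2
      refine Eq.trans ?_ h2
      exact ConcreteCategory.congr_hom ((Scheme.Hom.app_eq_appLE _).trans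
        (Scheme.Hom.appLE_map _ eW (homOfLE eW').op).symm) _
    choose k' t' ht' using fun o => exists_app_map_eq_zero_of_isLimit D c hc W.2.isCompact (d o) (hd' o)
    obtain ⟨m', q', p', hp'⟩ := IsCofiltered.wideCospan t'
    let W' : (D.obj m').affineOpens := ⟨D.map q' ⁻¹ᵁ W.1, W.2.preimage _⟩
    let ρ : Γ(D.obj m, W.1) →+* Γ(D.obj m', W'.1) := ((D.map q').app W.1).hom
    have hρ : ∀ o, ρ (d o) = 0 := fun o => by
      have h3 : ∀ f' : D.obj m' ⟶ D.obj m, f' = D.map q' → f'.app W.1 (d o) = 0 →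
          (D.map q').app W.1 (d o) = 0 := fun f' hf' h => by cases hf'; exact h
      refine h3 (D.map (p' o) ≫ D.map (t' o)) ?_ ?_
      · rw [← Functor.map_comp, hp']
      · rw [Scheme.Hom.comp_app]
        exact (congrArg ((D.map (p' o)).app _).hom (ht' o)).trans (map_zero _)
    refine ⟨m', (q' ≫ q) ≫ a₁, W', ?_, ρ (y none), ?_⟩
    · show c.π.app m' x ∈ D.map q' ⁻¹ᵁ W.1
      have h4 : x ∈ c.π.app m' ⁻¹ᵁ (D.map q' ⁻¹ᵁ W.1) := by
        rw [← Scheme.Hom.comp_preimage, c.w]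
        exact eW hx
      exact h4
    rw [Category.assoc, Functor.map_comp, Scheme.IdealSheafData.comap_comp,
      IdealStalkLib.comap_ideal _ _ W.2 W'.2 (le_refl _), Functor.map_comp, Scheme.IdealSheafData.comap_comp,
      IdealStalkLib.comap_ideal _ _ W₁.2 W.2 (le_refl _), ← hG, Ideal.map_span, Ideal.map_span]
    have hρ' : ((D.map q').appLE W.1 W'.1 le_rfl).hom = ρ := by
      show _ = ((D.map q').app W.1).hom
      rw [Scheme.Hom.app_eq_appLE]
    rw [hρ']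
    refine le_antisymm ?_ ?_
    · rw [Ideal.span_le]
      rintro _ ⟨_, ⟨g, hg, rfl⟩, rfl⟩
      rw [SetLike.mem_coe, Ideal.mem_span_singleton']
      refine ⟨ρ (y (some (Sum.inr ⟨g, hg⟩))), ?_⟩
      have := hρ (some ⟨g, hg⟩)
      rwa [show d (some ⟨g, hg⟩) = _ - _ from rfl, map_sub, map_mul, sub_eq_zero] at this
    · rw [Ideal.span_le, Set.singleton_subset_iff, SetLike.mem_coe]
      have := hρ none
      rw [show d none = _ - _ from rfl, map_sub, sub_eq_zero, map_sum] at this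
      rw [← this]
      exact Ideal.sum_mem _ fun g _ => by
        rw [map_mul]
        exact Ideal.mul_mem_left _ _ (Ideal.subset_span ⟨θ g.1, ⟨g.1, g.2, rfl⟩, rfl⟩)
  choose m t W hxW b hb using key
  haveI : CompactSpace c.pt := Scheme.compactSpace_of_isLimit D c hc
  obtain ⟨T, hT⟩ := CompactSpace.elim_nhds_subcover (fun x => ((c.π.app (m x) ⁻¹ᵁ (W x).1 : c.pt.Opens) : Set c.pt))
    (fun x => IsOpen.mem_nhds (TopologicalSpace.Opens.isOpen _) (hxW x))
  obtain ⟨l, q, p, hp⟩ := IsCofiltered.wideCospan (fun x : T => t x.1)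
  obtain ⟨l', v, hv⟩ := exists_map_eq_top D c hc (⨆ x : T, D.map (p x) ⁻¹ᵁ (W x.1).1) (by
    refine top_le_iff.mp fun z _ => ?_
    obtain ⟨x, hxT, hz⟩ := Set.mem_iUnion₂.mp (hT.ge (Set.mem_univ z))
    rw [Scheme.Hom.preimage_iSup]
    refine TopologicalSpace.Opens.mem_iSup.mpr ⟨⟨x, hxT⟩, ?_⟩
    rw [← Scheme.Hom.comp_preimage, c.w]
    exact hz)
  refine ⟨l', v ≫ q, fun z => ?_⟩
  have hz : z ∈ D.map v ⁻¹ᵁ ⨆ x : T, D.map (p x) ⁻¹ᵁ (W x.1).1 := hv ▸ trivial
  rw [Scheme.Hom.preimage_iSup] at hz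
  obtain ⟨x, hx⟩ := TopologicalSpace.Opens.mem_iSup.mp hz
  rw [← Scheme.Hom.comp_preimage, ← Functor.map_comp] at hx
  refine ⟨⟨D.map (v ≫ p x) ⁻¹ᵁ (W x.1).1, (W x.1).2.preimage _⟩, hx, ?_⟩
  rw [← hp x, ← Category.assoc, D.map_comp (v ≫ p x) (t x.1), Scheme.IdealSheafData.comap_comp]
  exact ⟨_, BlowCompLib.ideal_comap_span _ (D.map (v ≫ p x)) (hb x.1) _ le_rfl⟩

/-- A morphism of finite type is a limit of finitely presented ones along closed immersions. -/
theorem exists_closed_limit {X Y : Scheme.{u}} (f : X ⟶ Y) [LocallyOfFiniteType f] [CompactSpace X]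
    [QuasiSeparatedSpace X] [CompactSpace Y] [QuasiSeparatedSpace Y] :
    ∃ (K : Type u) (_ : SmallCategory K) (_ : IsCofiltered K) (D : K ⥤ Over Y) (c : Cone D) (_ : IsLimit c)
      (_ : c.pt ≅ Over.mk f),
      (∀ i, LocallyOfFinitePresentation (D.obj i).hom ∧ QuasiCompact (D.obj i).hom ∧
        QuasiSeparated (D.obj i).hom) ∧
      (∀ (i j : K) (a : i ⟶ j), IsClosedImmersion (D.map a).left) ∧
      (∀ i, IsClosedImmersion (c.π.app i).left) ∧
      (IsProper f → ∀ i, IsProper (D.obj i).hom) := by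
  by_cases hf : IsProper f
  · haveI := hf
    obtain ⟨K, hp, hd, hne, D, c, hc, e, h1, h2⟩ := NApproxLib.exists_proper_limit f
    refine ⟨Kᵒᵖ, inferInstance, inferInstance, D, c, hc, e, fun i => ?_, h1, fun i => (h2 i).1,
      fun _ i => (h2 i).2.1⟩
    haveI := (h2 i).2.1
    exact ⟨(h2 i).2.2, inferInstance, inferInstance⟩
  · obtain ⟨X', f', j, hlfp, hqc, hqs, hj, hjf⟩ := Groth.Agent.S2078.result f
    haveI : CompactSpace X' := QuasiCompact.compactSpace_of_compactSpace f'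
    haveI : QuasiSeparatedSpace X' := quasiSeparatedSpace_of_quasiSeparated f'
    obtain ⟨K, hp, hd, hne, D, c, hc, hobj, ⟨e⟩⟩ := Groth.Agent.S7379.result j
    haveI hcl0 : ∀ i, IsClosedImmersion (D.obj i).hom := fun i => (hobj i).1
    have hcl : ∀ {k l : Kᵒᵖ} (a : k ⟶ l), IsClosedImmersion (D.map a).left := fun {k l} a => by
      haveI : IsClosedImmersion ((D.map a).left ≫ (D.obj l).hom) := by rw [Over.w]; infer_instance
      exact IsClosedImmersion.of_comp (D.map a).left (D.obj l).hom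
    have hept : c.pt.hom ≫ f' = e.hom.left ≫ f := by
      rw [← hjf, reassoc_of% (show e.hom.left ≫ j = c.pt.hom from Over.w e.hom)]
    have hl : IsLimit ((Over.forget Y).mapCone ((Over.map f').mapCone c)) :=
      isLimitOfPreserves (Over.forget X') hc
    refine ⟨Kᵒᵖ, inferInstance, inferInstance, D ⋙ Over.map f', (Over.map f').mapCone c,
      isLimitOfReflects (Over.forget Y) hl, Over.isoMk ((Over.forget _).mapIso e) hept.symm,
      fun i => ?_, fun i l a => hcl a, fun i => ?_, fun h => absurd h hf⟩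
    · haveI := (hobj i).2
      exact ⟨inferInstanceAs (LocallyOfFinitePresentation ((D.obj i).hom ≫ f')),
        inferInstanceAs (QuasiCompact ((D.obj i).hom ≫ f')),
        inferInstanceAs (QuasiSeparated ((D.obj i).hom ≫ f'))⟩
    · show IsClosedImmersion (c.π.app i).left
      haveI : IsClosedImmersion ((c.π.app i).left ≫ (D.obj i).hom) := by
        rw [show (c.π.app i).left ≫ (D.obj i).hom = c.pt.hom from Over.w (c.π.app _),
          ← show e.hom.left ≫ j = c.pt.hom from Over.w e.hom]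
        haveI : IsIso e.hom.left := inferInstanceAs (IsIso ((Over.forget X').map e.hom))
        infer_instance
      exact IsClosedImmersion.of_comp _ (D.obj i).hom

/-- Approximation of a finite type morphism of modulus pairs by finitely presented ones. -/
theorem exists_fp_approx {X Y : Scheme.{u}}
    [CompactSpace X] [QuasiSeparatedSpace X] [CompactSpace Y] [QuasiSeparatedSpace Y]
    (IX : X.IdealSheafData) (IY : Y.IdealSheafData) (hX : BlowUp.IsEffCartierIdeal IX)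
    (hY : BlowUp.IsEffCartierIdeal IY) (f : X ⟶ Y) (hf : ModPair.IsAmbient IX IY f)
    [LocallyOfFiniteType f] :
    ∃ (K : Type u) (_ : SmallCategory K) (_ : IsCofiltered K) (D : K ⥤ Over Y) (c : Cone D)
      (_ : IsLimit c) (e : c.pt ≅ Over.mk f) (J : ∀ i, (D.obj i).left.IdealSheafData),
      (∀ i, LocallyOfFinitePresentation (D.obj i).hom ∧ QuasiCompact (D.obj i).hom ∧
          QuasiSeparated (D.obj i).hom) ∧
        (∀ (i j : K) (t : i ⟶ j), IsClosedImmersion (D.map t).left) ∧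
        (∀ i, IsClosedImmersion (c.π.app i).left) ∧
        (∀ i, IsLP (J i)) ∧
        (∀ i, IX = (J i).comap (e.inv.left ≫ (c.π.app i).left)) ∧
        (∀ (i j : K) (t : i ⟶ j), J i = (J j).comap (D.map t).left) ∧
        (∀ i, ModPair.IsAmbient (J i) IY (D.obj i).hom) ∧
        (ModPair.IsMinimal IX IY f → ∀ i, ModPair.IsMinimal (J i) IY (D.obj i).hom) ∧
        (IsProper f → ∀ i, IsProper (D.obj i).hom) ∧
        (ModPair.IsMinimal IX IY f → IsIso (f ∣_ ModPair.interior IY) →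
          ∀ i, IsIso ((D.obj i).hom ∣_ ModPair.interior IY)) := by
  classical
  obtain ⟨K, hK, hKc, D, c, hc, e, hfp, hcl, hπ, hprop⟩ := exists_closed_limit f
  let D₁ := D ⋙ Over.forget Y
  let c₁ : Cone D₁ := (Over.forget Y).mapCone c
  have hc₁ : IsLimit c₁ := isLimitOfPreserves (Over.forget Y) hc
  haveI hcl₁ : ∀ {i j : K} (a : i ⟶ j), IsClosedImmersion (D₁.map a) := fun {i j} a => hcl i j a
  haveI : ∀ {i j : K} (a : i ⟶ j), IsAffineHom (D₁.map a) := fun {i j} a => inferInstance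
  haveI : ∀ i, CompactSpace (D₁.obj i) := fun i => by
    haveI := (hfp i).2.1
    exact QuasiCompact.compactSpace_of_compactSpace (D.obj i).hom
  haveI : ∀ i, QuasiSeparatedSpace (D₁.obj i) := fun i => by
    haveI := (hfp i).2.2
    exact quasiSeparatedSpace_of_quasiSeparated (D.obj i).hom
  haveI : ∀ i, IsClosedImmersion (c₁.π.app i) := hπ
  haveI : IsIso e.hom.left := inferInstanceAs (IsIso ((Over.forget Y).map e.hom))
  let IX' : c₁.pt.IdealSheafData := IX.comap e.hom.left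
  have hX' : BlowUp.IsEffCartierIdeal IX' := BlowCompLib.isEffCartier_comap_openImmersion hX e.hom.left
  have hwe : e.hom.left ≫ f = c.pt.hom := Over.w e.hom
  obtain ⟨i₀, J₀, hJ₀, hJ₀e⟩ := Groth.Agent.S9220.result D₁ c₁ hc₁ IX' (fg_of_isLP (isLP_of_cart hX'))
  obtain ⟨i₁, t₁, hlp⟩ := exists_lp_stage D₁ c₁ hc₁ J₀ hJ₀ (hJ₀e ▸ isLP_of_cart hX')
  have hπJ : (J₀.comap (D₁.map t₁)).comap (c₁.π.app i₁) = IX' := by
    rw [← Scheme.IdealSheafData.comap_comp, c₁.w, hJ₀e]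
  have hπY : (IY.comap (D.obj i₁).hom).comap (c₁.π.app i₁) = (IY.comap f).comap e.hom.left := by
    rw [← Scheme.IdealSheafData.comap_comp, ← Scheme.IdealSheafData.comap_comp, hwe]
    exact congrArg IY.comap (Over.w (c.π.app i₁))
  have hlY : IsLP (IY.comap (D.obj i₁).hom) := (isLP_of_cart hY).comap _
  obtain ⟨i₂, t₂, h₂⟩ := exists_stage_le_lp D₁ c₁ hc₁ i₁ hlp hlY (by
    rw [hπJ, hπY]; exact Scheme.IdealSheafData.comap_mono _ hf)
  obtain ⟨i₃, t₃, h₃⟩ : ∃ (i₃ : K) (t₃ : i₃ ⟶ i₁), ModPair.IsMinimal IX IY f →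
      (IY.comap (D.obj i₁).hom).comap (D₁.map t₃) ≤ (J₀.comap (D₁.map t₁)).comap (D₁.map t₃) := by
    by_cases hm : ModPair.IsMinimal IX IY f
    · obtain ⟨i₃, t₃, h⟩ := exists_stage_le_lp D₁ c₁ hc₁ i₁ hlY hlp (by
        rw [hπJ, hπY]; exact Scheme.IdealSheafData.comap_mono _ hm.ge)
      exact ⟨i₃, t₃, fun _ => h⟩
    · exact ⟨i₁, 𝟙 _, fun h => absurd h hm⟩
  obtain ⟨i₄, t₄, h₄⟩ : ∃ (i₄ : K) (t₄ : i₄ ⟶ i₁), IsIso (f ∣_ ModPair.interior IY) →
      ∀ (m : K) (v : m ⟶ i₄), IsIso ((D.obj m).hom ∣_ ModPair.interior IY) := by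
    by_cases hiso : IsIso (f ∣_ ModPair.interior IY)
    · generalize hU : ModPair.interior IY = U at hiso
      haveI hι : IsAffineHom U.ι := hU ▸ isAffineHom_interior (isLP_of_cart hY)
      let g := (D.obj i₁).hom
      haveI := (hfp i₁).1
      haveI := (hfp i₁).2.1
      have hpt : IsIso (c.pt.hom ∣_ U) := by
        rw [← hwe]
        haveI := hiso
        rw [morphismRestrict_comp]
        infer_instance
      have hπg : ∀ m, IsIso ((c₁.π.app m ∣_ ((D.obj m).hom ⁻¹ᵁ U)) ≫ ((D.obj m).hom ∣_ U)) := fun m => by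
        rw [← morphismRestrict_comp]
        exact (show ∀ h', h' = c.pt.hom → IsIso (h' ∣_ U) from fun h' hh => by cases hh; exact hpt) _
          (Over.w (c.π.app m))
      haveI : LocallyOfFinitePresentation (c₁.π.app i₁ ∣_ (g ⁻¹ᵁ U)) := by
        haveI := hπg i₁
        exact ASp.locallyOfFinitePresentation_of_comp _ (g ∣_ U) inferInstance inferInstance
      haveI : CompactSpace U.toScheme := QuasiCompact.compactSpace_of_compactSpace U.ι
      have hUc : IsCompact (U : Set Y) :=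
        isCompact_iff_compactSpace.mpr (inferInstanceAs (CompactSpace U.toScheme))
      obtain ⟨l, q, hl⟩ := exists_iso_stage_closed D₁ c₁ hc₁ i₁ (g ⁻¹ᵁ U) (g.isCompact_preimage hUc)
      refine ⟨l, q, fun _ m v => ?_⟩
      have hW : D₁.map (v ≫ q) ⁻¹ᵁ (g ⁻¹ᵁ U) = (D.obj m).hom ⁻¹ᵁ U := by
        rw [← Scheme.Hom.comp_preimage]
        exact congrArg (fun h : (D.obj m).left ⟶ Y => h ⁻¹ᵁ U) (Over.w (D.map (v ≫ q)))
      haveI : IsIso (c₁.π.app m ∣_ ((D.obj m).hom ⁻¹ᵁ U)) :=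
        (show ∀ V, V = (D.obj m).hom ⁻¹ᵁ U → IsIso (c₁.π.app m ∣_ V) →
          IsIso (c₁.π.app m ∣_ ((D.obj m).hom ⁻¹ᵁ U)) from fun V hV h => hV ▸ h) _ hW (hl m v)
      haveI := hπg m
      exact IsIso.of_isIso_comp_left (c₁.π.app m ∣_ ((D.obj m).hom ⁻¹ᵁ U)) _
    · exact ⟨i₁, 𝟙 _, fun h => absurd h hiso⟩
  obtain ⟨a, s₂, s₃, -⟩ := IsCofilteredOrEmpty.cone_objs i₂ i₃
  obtain ⟨l₀, b, s₄, -⟩ := IsCofilteredOrEmpty.cone_objs a i₄
  -- equalize the maps to `i₁`
  obtain ⟨l, ρ, hρ₁, hρ₂⟩ : ∃ (l : K) (ρ : l ⟶ l₀), ρ ≫ b ≫ s₂ ≫ t₂ = ρ ≫ b ≫ s₃ ≫ t₃ ∧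
      ρ ≫ b ≫ s₂ ≫ t₂ = ρ ≫ s₄ ≫ t₄ := by
    let u := IsCofiltered.eqHom (b ≫ s₂ ≫ t₂) (b ≫ s₃ ≫ t₃)
    let w := IsCofiltered.eqHom (u ≫ b ≫ s₂ ≫ t₂) (u ≫ s₄ ≫ t₄)
    refine ⟨_, w ≫ u, ?_, ?_⟩
    · rw [Category.assoc, Category.assoc]
      exact congrArg (w ≫ ·) (IsCofiltered.eq_condition _ _)
    · rw [Category.assoc, Category.assoc]
      exact IsCofiltered.eq_condition _ _
  let σ : l ⟶ i₁ := ρ ≫ b ≫ s₂ ≫ t₂
  let J (i : Over l) : (D.obj i.left).left.IdealSheafData := (J₀.comap (D₁.map t₁)).comap (D₁.map (i.hom ≫ σ))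
  have hJamb : ∀ i : Over l, J i ≤ IY.comap (D.obj i.left).hom := fun i => by
    rw [show (D.obj i.left).hom = D₁.map (i.hom ≫ σ) ≫ (D.obj i₁).hom from (Over.w (D.map _)).symm,
      Scheme.IdealSheafData.comap_comp]
    show ((J₀.comap _).comap (D₁.map (i.hom ≫ σ))) ≤ _
    rw [show i.hom ≫ σ = (i.hom ≫ ρ ≫ b ≫ s₂) ≫ t₂ by simp [σ],
      Functor.map_comp, Scheme.IdealSheafData.comap_comp, Scheme.IdealSheafData.comap_comp]
    exact Scheme.IdealSheafData.comap_mono _ h₂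
  refine ⟨Over l, inferInstance, inferInstance, Over.forget l ⋙ D, c.whisker (Over.forget l),
    (Functor.Initial.isLimitWhiskerEquiv (Over.forget l) c).symm hc, e, J, fun i => hfp i.left,
    fun i j t => hcl _ _ t.left, fun i => hπ i.left, fun i => hlp.comap _, fun i => ?_, fun i j t => ?_,
    hJamb, fun hm i => le_antisymm (hJamb i) ?_, fun h i => hprop h i.left,
    fun _ hiso i => h₄ hiso i.left (i.hom ≫ ρ ≫ s₄)⟩
  · show IX = ((J₀.comap _).comap _).comap (e.inv.left ≫ c₁.π.app i.left)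
    rw [← Scheme.IdealSheafData.comap_comp, ← Scheme.IdealSheafData.comap_comp]
    have hfin : c₁.π.app i.left ≫ D₁.map (i.hom ≫ σ) ≫ D₁.map t₁ = c₁.π.app i₀ := by
      rw [c₁.w_assoc, c₁.w]
    have hI : IX = J₀.comap (e.inv.left ≫ c₁.π.app i₀) := by
      rw [Scheme.IdealSheafData.comap_comp, hJ₀e, ← Scheme.IdealSheafData.comap_comp]
      rw [show e.inv.left ≫ e.hom.left = 𝟙 X by rw [← Over.comp_left, e.inv_hom_id]; rfl]
      exact (Scheme.IdealSheafData.comap_id IX).symm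
    exact hI.trans (congrArg J₀.comap
      ((congrArg (e.inv.left ≫ ·) hfin.symm).trans (Category.assoc _ _ _).symm))
  · show _ = ((J₀.comap _).comap _).comap (D₁.map t.left)
    rw [← Scheme.IdealSheafData.comap_comp (J₀.comap (D₁.map t₁)), ← Functor.map_comp, ← Category.assoc,
      Over.w t]
  · show IY.comap (D.obj i.left).hom ≤ _
    rw [show (D.obj i.left).hom = D₁.map (i.hom ≫ σ) ≫ (D.obj i₁).hom from (Over.w (D.map _)).symm,
      Scheme.IdealSheafData.comap_comp]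
    show _ ≤ ((J₀.comap _).comap (D₁.map (i.hom ≫ σ)))
    rw [show i.hom ≫ σ = (i.hom ≫ ρ ≫ b ≫ s₃) ≫ t₃ by simp [σ, hρ₁],
      Functor.map_comp, Scheme.IdealSheafData.comap_comp, Scheme.IdealSheafData.comap_comp]
    exact Scheme.IdealSheafData.comap_mono _ (h₃ hm)

end Groth.Agent.ModPairLib
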