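import Mathlib
import Groth.Agent.ModPairLib.Calculus

/-! Disjoint unions of modulus pairs, also in the localization at admissible blow-ups. -/

set_option autoImplicit false
set_option backward.isDefEq.respectTransparency false
set_option backward.isDefEq.respectTransparency.types false
set_option backward.defeqAttrib.useBackward true
set_option linter.style.haveILetI false
set_option maxHeartbeats 800000

universe u

open CategoryTheory CategoryTheory.Limits AlgebraicGeometry

namespace Groth.Agent.ModPairLib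

open ModPair

theorem comap_map_closed {X Y : Scheme.{u}} (I : X.IdealSheafData) (ι : X ⟶ Y) [IsClosedImmersion ι] :
    (I.map ι).comap ι = I := by
  show (I.subschemeι ≫ ι).ker.comap ι = I
  rw [← Scheme.IdealSheafData.ker_fst_of_isClosedImmersion]
  have h : IsPullback I.subschemeι (𝟙 _) ι (I.subschemeι ≫ ι) := by
    refine IsPullback.of_isLimit' ⟨by rw [Category.id_comp]⟩
      (PullbackCone.IsLimit.mk _ (fun s => s.snd) (fun s => ?_) (fun s => Category.comp_id _) (fun s m _ h => ?_))
    · rw [← cancel_mono ι, Category.assoc, s.condition]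
    · rw [← h, Category.comp_id]
  rw [← h.isoPullback_inv_fst, Scheme.Hom.ker_comp_of_isIso, Scheme.IdealSheafData.ker_subschemeι]

variable {σ : Type u} (P : σ → Pair.{u})

/-- The total space of the disjoint union. -/
noncomputable abbrev sTot : Scheme.{u} := ∐ fun i => (P i).total

/-- The inclusion. -/
noncomputable abbrev sι (i : σ) : (P i).total ⟶ sTot P := Sigma.ι (fun i => (P i).total) i

theorem sι_surj (x : sTot P) : ∃ i y, sι P i y = x := by
  obtain ⟨⟨i, y⟩, h⟩ := (sigmaMk (fun i => (P i).total)).surjective x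
  exact ⟨i, y, (sigmaMk_mk (fun i => (P i).total) i y).symm.trans h⟩

theorem sι_disj {i j : σ} {a : (P i).total} {b : (P j).total} (h : sι P i a = sι P j b) : i = j :=
  congrArg Sigma.fst ((sigmaι_eq_iff (fun i => (P i).total) i j a b).1 h)

theorem isClosed_range_sι (i : σ) : IsClosed (Set.range (sι P i)) := by
  rw [← isOpen_compl_iff]
  have e : (Set.range (sι P i))ᶜ = ⋃ j : {j // j ≠ i}, Set.range (sι P j.1) := by
    ext x
    simp only [Set.mem_compl_iff, Set.mem_iUnion]
    constructor
    · intro hx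
      obtain ⟨j, y, rfl⟩ := sι_surj P x
      exact ⟨⟨j, fun h => hx (by subst h; exact ⟨y, rfl⟩)⟩, y, rfl⟩
    · rintro ⟨j, y, rfl⟩ ⟨z, hz⟩
      exact j.2 (sι_disj P hz).symm
  rw [e]
  exact isOpen_iUnion fun j => (sι P j.1).isOpenEmbedding.isOpen_range

instance isClosedImmersion_sι (i : σ) : IsClosedImmersion (sι P i) :=
  .of_isPreimmersion _ (isClosed_range_sι P i)

/-- The complement of a summand. -/
noncomputable abbrev others (i : σ) : (sTot P).Opens := ⟨(Set.range (sι P i))ᶜ, (isClosed_range_sι P i).isOpen_compl⟩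

instance others_isClosedImmersion (i : σ) : IsClosedImmersion (others P i).ι :=
  .of_isPreimmersion _ (by
    rw [Scheme.Opens.range_ι]
    exact (sι P i).isOpenEmbedding.isOpen_range.isClosed_compl)

/-- The disjoint union of the moduli. -/
noncomputable def sMod : (sTot P).IdealSheafData :=
  ⨆ i, (P i).mod.map (sι P i) * (others P i).ι.ker

theorem comap_sMod (j : σ) : (sMod P).comap (sι P j) = (P j).mod := by
  rw [sMod, (Scheme.IdealSheafData.map_gc (sι P j)).l_iSup]
  refine le_antisymm (iSup_le fun i => ?_) (le_iSup_of_le j ?_)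
  · rw [BlowCompLib.comap_mul]
    by_cases h : i = j
    · subst h
      rw [comap_map_closed]
      exact (mul_le_mul' le_rfl le_top).trans (Scheme.IdealSheafData.mul_top _).le
    · have h0 : (others P i).ι.ker.comap (sι P j) = ⊥ := by
        have hr : Set.range (sι P j) ⊆ Set.range (others P i).ι := by
          rw [Scheme.Opens.range_ι]
          rintro _ ⟨y, rfl⟩ ⟨z, hz⟩
          exact h (sι_disj P hz)
        rw [← IsOpenImmersion.lift_fac _ _ hr, Scheme.IdealSheafData.comap_comp,
          show (others P i).ι.ker.comap (others P i).ι = ⊥ from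
            le_bot_iff.1 ((congrArg (fun K => Scheme.IdealSheafData.comap K (others P i).ι)
              (Scheme.IdealSheafData.map_bot (others P i).ι).symm).le.trans (Scheme.IdealSheafData.comap_map_le _ _)),
          Scheme.IdealSheafData.comap_bot]
      rw [h0, Scheme.IdealSheafData.mul_bot]
      exact bot_le
  · rw [BlowCompLib.comap_mul, comap_map_closed,
      BlowCompLib.comap_eq_top _ (sι P j) (fun y hy => ?_), Scheme.IdealSheafData.mul_top]
    have h2 : sι P j y ∈ ((others P j).ι.ker.support : Set (sTot P)) := hy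
    rw [Scheme.Hom.support_ker, (others P j).ι.isClosedEmbedding.isClosed_range.closure_eq, Scheme.Opens.range_ι] at h2
    exact h2 ⟨y, rfl⟩

/-- The disjoint union. -/
noncomputable def sPair : Pair.{u} :=
  ⟨sTot P, sMod P, BlowProdLib.isEffCartier_of_local _ fun x => by
    obtain ⟨i, y, hy⟩ := sι_surj P x
    exact ⟨_, sι P i, inferInstance, y, hy, by rw [comap_sMod]; exact (P i).isEffCartier⟩⟩

/-- The inclusion of a summand. -/
noncomputable def sInc (i : σ) : P i ⟶ sPair P := ⟨sι P i, (comap_sMod P i).ge⟩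

variable {P}

/-- The morphism out of the disjoint union. -/
noncomputable def sDesc {Q : Pair.{u}} (f : ∀ i, P i ⟶ Q) : sPair P ⟶ Q :=
  ⟨Sigma.desc fun i => (f i).hom, le_of_cover (V := fun i => (P i).total) (sι P) (sι_surj P) fun i => by
    show (sMod P).comap _ ≤ _
    rw [comap_sMod, ← Scheme.IdealSheafData.comap_comp]
    erw [Sigma.ι_desc]
    exact (f i).cond⟩

@[reassoc]
theorem sInc_sDesc {Q : Pair.{u}} (f : ∀ i, P i ⟶ Q) (i : σ) : sInc P i ≫ sDesc f = f i :=
  Pair.Hom.ext (Sigma.ι_desc (fun i => (f i).hom) i)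

theorem sPair_hom_ext {Q : Pair.{u}} {a b : sPair P ⟶ Q} (h : ∀ i, sInc P i ≫ a = sInc P i ≫ b) : a = b :=
  Pair.Hom.ext (Sigma.hom_ext _ _ fun i => congrArg Pair.Hom.hom (h i))

variable (P)

/-- The disjoint union is a coproduct. -/
noncomputable def sIsColimit : IsColimit (Cofan.mk (sPair P) (sInc P)) :=
  mkCofanColimit _ (fun s => sDesc s.inj) (fun s i => sInc_sDesc _ i)
    (fun s m hm => sPair_hom_ext fun i => (hm i).trans (sInc_sDesc _ i).symm)

/-- The map induced on disjoint unions. -/
noncomputable def sMap {P' : σ → Pair.{u}} (s : ∀ i, P' i ⟶ P i) : sPair P' ⟶ sPair P :=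
  sDesc fun i => s i ≫ sInc P i

theorem sMap_admBlowup {P' : σ → Pair.{u}} (s : ∀ i, P' i ⟶ P i) (hs : ∀ i, Pair.admBlowup (s i)) :
    Pair.admBlowup (sMap P s) := by
  have hι : ∀ i, sι P' i ≫ (sMap P s).hom = (s i).hom ≫ sι P i := fun i => congrArg Pair.Hom.hom (sInc_sDesc _ i)
  have hsq : ∀ i, IsPullback (sι P' i) (s i).hom (sMap P s).hom (sι P i) := fun i => by
    refine (IsOpenImmersion.isPullback (s i).hom (sι P' i) (sι P i) (sMap P s).hom (hι i) ?_).flip
    ext x
    constructor
    · rintro ⟨z, hz⟩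
      obtain ⟨j, w, rfl⟩ := sι_surj P' x
      replace hz := hz.trans (congrArg (fun m : (P' j).total ⟶ sTot P => m w) (hι j))
      have := sι_disj P hz
      subst this
      exact ⟨w, rfl⟩
    · rintro ⟨y, rfl⟩
      exact ⟨(s i).hom y, (congrArg (fun m : (P' i).total ⟶ sTot P => m y) (hι i)).symm⟩
  show IsAdmBlowup (sPair P').mod (sPair P).mod (sMap P s).hom
  refine ⟨le_antisymm (sMap P s).cond (le_of_cover (V := fun i => (P' i).total) (sι P') (sι_surj P') fun i => ?_), ?_, ?_⟩
  · show ((sMod P).comap _).comap _ ≤ (sMod P').comap _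
    rw [← Scheme.IdealSheafData.comap_comp, hι, Scheme.IdealSheafData.comap_comp, comap_sMod, comap_sMod]
    exact le_of_eq (hs i).1.symm
  · refine IsZariskiLocalAtTarget.of_openCover (P := @IsProper) (sigmaOpenCover (fun i => (P i).total)) fun i => ?_
    have h := MorphismProperty.of_isPullback (P := @IsProper) (IsPullback.of_hasPullback (sMap P s).hom (sι P i))
    show IsProper (pullback.snd (sMap P s).hom (sι P i))
    rw [← (hsq i).isoPullback_inv_snd]
    haveI := (hs i).2.1
    infer_instance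
  · set V := ModPair.interior (sPair P).mod
    let j : ∀ i, (ModPair.interior (P i).mod).toScheme ⟶ V.toScheme := fun i =>
      IsOpenImmersion.lift V.ι ((ModPair.interior (P i).mod).ι ≫ sι P i) (by
        rw [Scheme.Opens.range_ι]
        rintro _ ⟨y, rfl⟩
        exact interior_le_of_ambient (sInc P i).cond y.2)
    have hj : ∀ i, j i ≫ V.ι = (ModPair.interior (P i).mod).ι ≫ sι P i := fun i => IsOpenImmersion.lift_fac _ _ _
    refine (IsZariskiLocalAtTarget.iff_of_iSup_eq_top (P := MorphismProperty.isomorphisms Scheme.{u})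
      (fun i : σ => V.ι ⁻¹ᵁ (sι P i).opensRange) (top_le_iff.1 fun x _ => ?_)).2 fun i => ?_
    · obtain ⟨i, y, hy⟩ := sι_surj P x.1
      exact TopologicalSpace.Opens.mem_iSup.2 ⟨i, y, hy⟩
    · refine ((MorphismProperty.isomorphisms Scheme.{u}).arrow_mk_iso_iff (morphismRestrictRestrict (sMap P s).hom _ _)).2 ?_
      simp only [MorphismProperty.isomorphisms.iff]
      rw [Scheme.Hom.image_preimage_eq_opensRange_inf, Scheme.Opens.opensRange_ι]
      have hc : sι P i ⁻¹ᵁ V = ModPair.interior (P i).mod := by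
        rw [← interior_comap]
        exact congrArg ModPair.interior (comap_sMod P i)
      haveI : IsIso ((s i).hom ∣_ (sι P i ⁻¹ᵁ V)) := by
        rw [hc]
        exact (hs i).2.2
      refine isIso_restrict_of_section (V ⊓ (sι P i).opensRange)
        (IsOpenImmersion.lift ((sι P i ⁻¹ᵁ V).ι ≫ sι P i) (V ⊓ (sι P i).opensRange).ι (by
          rintro _ ⟨⟨x, hxV, y, rfl⟩, rfl⟩
          exact ⟨⟨y, hxV⟩, rfl⟩) ≫ inv ((s i).hom ∣_ (sι P i ⁻¹ᵁ V)) ≫ ((s i).hom ⁻¹ᵁ (sι P i ⁻¹ᵁ V)).ι ≫ sι P' i) ?_ ?_
      · simp only [Category.assoc]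
        rw [hι, ← morphismRestrict_ι_assoc, IsIso.inv_hom_id_assoc, IsOpenImmersion.lift_fac]
      · intro x hx
        obtain ⟨y, hy, hxy⟩ : x ∈ sι P' i '' ((s i).hom ⁻¹ᵁ (sι P i ⁻¹ᵁ V) : Set (P' i).total) := by
          obtain ⟨hxV, z, hz⟩ := hx
          obtain ⟨k, w, rfl⟩ := sι_surj P' x
          replace hz := hz.trans (congrArg (fun m : (P' k).total ⟶ sTot P => m w) (hι k))
          have := sι_disj P hz
          subst this
          refine ⟨w, ?_, rfl⟩
          show sι P i ((s i).hom w) ∈ V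
          rw [← Scheme.Hom.comp_apply, ← hι, Scheme.Hom.comp_apply]
          exact hxV
        let z : (sι P i ⁻¹ᵁ V).toScheme := ((s i).hom ∣_ (sι P i ⁻¹ᵁ V)) ⟨y, hy⟩
        let z' : (V ⊓ (sι P i).opensRange : (sTot P).Opens).toScheme := ⟨sι P i ((s i).hom y), hy, _, rfl⟩
        refine ⟨z', ?_⟩
        have hz : (IsOpenImmersion.lift ((sι P i ⁻¹ᵁ V).ι ≫ sι P i) (V ⊓ (sι P i).opensRange).ι (by
            rintro _ ⟨⟨x, hxV, y, rfl⟩, rfl⟩
            exact ⟨⟨y, hxV⟩, rfl⟩)) z' = z := by
          refine ((sι P i ⁻¹ᵁ V).ι ≫ sι P i).isOpenEmbedding.injective ?_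
          rw [← Scheme.Hom.comp_apply, IsOpenImmersion.lift_fac, Scheme.Hom.comp_apply]
          have h2 : (sι P i ⁻¹ᵁ V).ι z = (s i).hom y := by
            show (((s i).hom ∣_ (sι P i ⁻¹ᵁ V)) ≫ (sι P i ⁻¹ᵁ V).ι) ⟨y, hy⟩ = _
            rw [morphismRestrict_ι]
            rfl
          rw [h2]
          rfl
        rw [Scheme.Hom.comp_apply, hz]
        show ((((s i).hom ∣_ (sι P i ⁻¹ᵁ V)) ≫ inv ((s i).hom ∣_ (sι P i ⁻¹ᵁ V))) ≫
          ((s i).hom ⁻¹ᵁ (sι P i ⁻¹ᵁ V)).ι ≫ sι P' i) ⟨y, hy⟩ = x
        rw [IsIso.hom_inv_id, Category.id_comp, Scheme.Hom.comp_apply]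
        exact hxy

variable {P}

/-- The localization functor preserves disjoint unions. -/
theorem existsUnique_desc_Q {Z : Pair.{u}} (u : ∀ i, (Pair.admBlowup.{u}).Q.obj (P i) ⟶ (Pair.admBlowup.{u}).Q.obj Z) :
    ∃! v : (Pair.admBlowup.{u}).Q.obj (sPair P) ⟶ (Pair.admBlowup.{u}).Q.obj Z,
      ∀ i, (Pair.admBlowup.{u}).Q.map (sInc P i) ≫ v = u i := by
  let L := (Pair.admBlowup.{u}).Q
  choose P' s a hs ha using fun i => Frac.exists_frac Pair.admBlowup L (u i)
  haveI := Localization.inverts L Pair.admBlowup (sMap P s) (sMap_admBlowup P s hs)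
  refine ⟨inv (L.map (sMap P s)) ≫ L.map (sDesc a), fun i => Frac.cancel_s L (hs i) ?_, fun v hv => ?_⟩
  · rw [ha i, ← Category.assoc, ← Functor.map_comp, ← sInc_sDesc (fun i => s i ≫ sInc P i) i,
      Functor.map_comp, Category.assoc]
    show L.map (sInc P' i) ≫ L.map (sMap P s) ≫ _ = _
    rw [IsIso.hom_inv_id_assoc, ← Functor.map_comp, sInc_sDesc]
  · obtain ⟨X', t, b, ht, hb⟩ := Frac.exists_frac Pair.admBlowup L v
    rw [IsIso.eq_inv_comp]
    obtain ⟨X'', t', b', ht', hb'⟩ := exists_square (sMap P s) t ht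
    refine Frac.cancel_s L ht' ?_
    rw [← Category.assoc, ← Functor.map_comp, hb', Functor.map_comp, Category.assoc, hb, ← Functor.map_comp,
      ← Functor.map_comp]
    -- compare summandwise
    have key : ∀ i, ∃ (W : Pair.{u}) (r : W ⟶ P' i) (j : W ⟶ X''),
        Pair.admBlowup r ∧ j ≫ t' = r ≫ sInc P' i ∧ j ≫ b' ≫ b = j ≫ t' ≫ sDesc a := fun i => by
      obtain ⟨W₀, r₀, j₀, hr₀, hj₀⟩ := exists_square (sInc P' i) t' ht'
      have h : L.map (j₀ ≫ b' ≫ b) = L.map (j₀ ≫ t' ≫ sDesc a) := by
        rw [← reassoc_of% hj₀, sInc_sDesc, Functor.map_comp, Functor.map_comp, ← hb, ← Category.assoc (L.map b'),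
          ← Functor.map_comp, ← hb', ← Category.assoc, ← Functor.map_comp, ← reassoc_of% hj₀,
          Functor.map_comp, Functor.map_comp]
        have hs' : sInc P' i ≫ sMap P s = s i ≫ sInc P i := sInc_sDesc _ i
        rw [L.map_comp r₀ (a i), ← ha i, ← hv i, ← L.map_comp (sInc P' i), hs', L.map_comp]
        simp only [Category.assoc]
        rfl
      obtain ⟨W, q, hq, hqe⟩ := (MorphismProperty.map_eq_iff_precomp L Pair.admBlowup _ _).1 h
      exact ⟨W, q ≫ r₀, q ≫ j₀, Pair.admBlowup.{u}.comp_mem _ _ hq hr₀,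
        by rw [Category.assoc, Category.assoc, hj₀], by simpa only [Category.assoc] using hqe⟩
    choose W r j hr hj hje using key
    let m : sPair W ⟶ X'' := sDesc j
    have hm : m ≫ t' = sMap P' r := sPair_hom_ext fun i => by
      rw [← Category.assoc, sInc_sDesc, hj, sMap, sInc_sDesc]
    haveI := Localization.inverts L Pair.admBlowup t' ht'
    haveI : IsIso (L.map m) := by
      haveI : IsIso (L.map m ≫ L.map t') := by
        rw [← Functor.map_comp, hm]
        exact Localization.inverts L Pair.admBlowup _ (sMap_admBlowup P' r hr)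
      exact IsIso.of_isIso_comp_right (L.map m) (L.map t')
    rw [← cancel_epi (L.map m), ← Functor.map_comp, ← Functor.map_comp]
    congr 1
    exact sPair_hom_ext fun i => by
      simp only [← Category.assoc, m, sInc_sDesc]
      simpa only [Category.assoc] using hje i

/-- The image of the disjoint union is a coproduct in the localization. -/
theorem preservesColimitsOfShape_Q (σ : Type u) :
    PreservesColimitsOfShape (Discrete σ) (Pair.admBlowup.{u}).Q := by
  let L := (Pair.admBlowup.{u}).Q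
  haveI : L.EssSurj := Localization.essSurj L Pair.admBlowup
  suffices h : ∀ P : σ → Pair.{u}, PreservesColimit (Discrete.functor P) L from
    ⟨fun {K} => by haveI := h (fun i => K.obj ⟨i⟩); exact preservesColimit_of_iso_diagram L Discrete.natIsoFunctor.symm⟩
  intro P
  refine preservesColimit_of_preserves_colimit_cocone (sIsColimit P) ?_
  refine (isColimitMapCoconeCofanMkEquiv L P (sInc P)).symm ?_
  have hex : ∀ s : Cofan fun i => L.obj (P i), ∃! v, ∀ i, L.map (sInc P i) ≫ v = s.inj i := fun s => by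
    let e := L.objObjPreimageIso s.pt
    obtain ⟨v, hv, huniq⟩ := existsUnique_desc_Q fun i => s.inj i ≫ e.inv
    exact ⟨v ≫ e.hom, fun i => by rw [reassoc_of% (hv i), e.inv_hom_id, Category.comp_id],
      fun m hm => by rw [← huniq (m ≫ e.inv) fun i => by rw [reassoc_of% (hm i)], Category.assoc, e.inv_hom_id, Category.comp_id]⟩
  exact mkCofanColimit _ (fun s => (hex s).choose) (fun s i => (hex s).choose_spec.1 i)
    (fun s m hm => (hex s).choose_spec.2 m hm)

theorem hasColimitsOfShape_pair (σ : Type u) : HasColimitsOfShape (Discrete σ) Pair.{u} :=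
  ⟨fun K => by
    haveI : HasColimit (Discrete.functor (K.obj ∘ Discrete.mk)) := ⟨⟨⟨_, sIsColimit (K.obj ∘ Discrete.mk)⟩⟩⟩
    exact hasColimit_of_iso Discrete.natIsoFunctor⟩

theorem preservesColimitsOfShape_forget (σ : Type u) : PreservesColimitsOfShape (Discrete σ) Pair.forget.{u} := by
  suffices h : ∀ P : σ → Pair.{u}, PreservesColimit (Discrete.functor P) Pair.forget from
    ⟨fun {K} => by haveI := h (fun i => K.obj ⟨i⟩); exact preservesColimit_of_iso_diagram _ Discrete.natIsoFunctor.symm⟩
  intro P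
  refine preservesColimit_of_preserves_colimit_cocone (sIsColimit P) ?_
  exact (isColimitMapCoconeCofanMkEquiv Pair.forget P (sInc P)).symm (coproductIsCoproduct _)

end Groth.Agent.ModPairLib
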