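import Mathlib
import Groth.Agent.ModPairLib.LocalBack
import Groth.Agent.ModPairLib.FiniteExt
import Groth.Agent.BlowCompLib.Flat
import Groth.Agent.S19345

/-!
Modulus pairs which are local for finite coverings.
-/

set_option autoImplicit false
set_option backward.isDefEq.respectTransparency false
set_option backward.isDefEq.respectTransparency.types false
set_option backward.defeqAttrib.useBackward true
set_option linter.style.haveILetI false
set_option maxHeartbeats 800000

universe u

open CategoryTheory CategoryTheory.Limits AlgebraicGeometry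

namespace Groth.Agent.ModPairLib

/-- `P` is local for finite coverings of modulus pairs. -/
def FinLocal (P : ModPair.Pair.{u}) : Prop :=
  ∀ (X : ModPair.Pair.{u}) (ι : Type u) (U : ι → ModPair.Pair.{u}) (v : ∀ i, U i ⟶ X),
    (∀ i, ModPair.IsMinimal (U i).mod X.mod (v i).hom ∧ IsFinite (v i).hom) →
    (∀ x : X.total, ∃ (i : ι) (y : (U i).total), (v i).hom.base y = x) →
    ∀ g : P ⟶ X, ∃ (i : ι) (h : P ⟶ U i), h ≫ v i = g

theorem exists_section_of_finLocal {P : ModPair.Pair.{u}} (hF : FinLocal P) {T : Scheme.{u}}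
    (t : T ⟶ P.total) [IsFinite t] [Surjective t] (hT : BlowUp.IsEffCartierIdeal (P.mod.comap t)) :
    ∃ h : P.total ⟶ T, h ≫ t = 𝟙 P.total := by
  let TP : ModPair.Pair.{u} := ⟨T, P.mod.comap t, hT⟩
  let q : TP ⟶ P := ⟨t, le_refl _⟩
  obtain ⟨_, h, hh⟩ := hF P PUnit (fun _ => TP) (fun _ => q) (fun _ => ⟨rfl, ‹IsFinite t›⟩)
    (fun x => ⟨PUnit.unit, t.surjective x⟩) (𝟙 P)
  exact ⟨h.hom, hom_eq hh⟩

theorem exists_section_interior {P : ModPair.Pair.{u}} (hF : FinLocal P) [CompactSpace P.total]
    [QuasiSeparatedSpace P.total] {T₀ : Scheme.{u}}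
    (t₀ : T₀ ⟶ (ModPair.interior P.mod : Scheme.{u})) [IsFinite t₀] [Surjective t₀] :
    ∃ s : (ModPair.interior P.mod : Scheme.{u}) ⟶ T₀, s ≫ t₀ = 𝟙 _ := by
  obtain ⟨T, t, j, hfin, hsurj, hcart, hj, hrange, hjt⟩ :=
    exists_finite_extension P.mod P.isEffCartier t₀
  obtain ⟨h, hh⟩ := exists_section_of_finLocal hF t hcart
  let U := ModPair.interior P.mod
  have hr : Set.range (U.ι ≫ h) ⊆ Set.range j := by
    rintro _ ⟨z, rfl⟩
    refine hrange.ge ?_
    show t ((U.ι ≫ h) z) ∈ U
    rw [← Scheme.Hom.comp_apply, Category.assoc, hh, Category.comp_id]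
    exact z.2
  refine ⟨IsOpenImmersion.lift j (U.ι ≫ h) hr, ?_⟩
  rw [← cancel_mono U.ι, Category.assoc, ← hjt, IsOpenImmersion.lift_fac_assoc, Category.assoc, hh,
    Category.comp_id, Category.id_comp]

theorem exists_retraction {X : Scheme.{u}} [IsAffine X] {B : Type u} [CommRing B]
    (φ : Γ(X, ⊤) →+* B) (h : X ⟶ Spec (CommRingCat.of B))
    (hh : h ≫ Spec.map (CommRingCat.ofHom φ) ≫ X.isoSpec.inv = 𝟙 X) :
    ∃ ψ : B →+* Γ(X, ⊤), ψ.comp φ = RingHom.id Γ(X, ⊤) := by
  obtain ⟨ψ, hψ⟩ := Spec.map_surjective (X.isoSpec.inv ≫ h)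
  refine ⟨ψ.hom, ?_⟩
  have e : CommRingCat.ofHom φ ≫ ψ = 𝟙 _ := by
    apply Spec.map_injective
    rw [Spec.map_comp, Spec.map_id, hψ, ← cancel_mono X.isoSpec.inv, Category.assoc, Category.assoc,
      hh, Category.comp_id]
    exact (Category.id_comp _).symm
  exact congrArg CommRingCat.Hom.hom e

theorem isFinite_specMap {X : Scheme.{u}} [IsAffine X] {B : Type u} [CommRing B]
    {φ : Γ(X, ⊤) →+* B} (hφ : φ.Finite) : IsFinite (Spec.map (CommRingCat.ofHom φ) ≫ X.isoSpec.inv) := by
  haveI : IsFinite (Spec.map (CommRingCat.ofHom φ)) := (IsFinite.SpecMap_iff _).mpr hφ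
  infer_instance

theorem surjective_specMap {X : Scheme.{u}} [IsAffine X] {B : Type u} [CommRing B]
    {φ : Γ(X, ⊤) →+* B} (hs : Function.Surjective (PrimeSpectrum.comap φ)) :
    Surjective (Spec.map (CommRingCat.ofHom φ) ≫ X.isoSpec.inv) := by
  haveI : Surjective (Spec.map (CommRingCat.ofHom φ)) := ⟨hs⟩
  infer_instance

theorem adjoinRoot_nontrivial {A : Type u} [CommRing A] [Nontrivial A] {F : Polynomial A} (hF : F.Monic)
    (hd : 0 < F.natDegree) : Nontrivial (AdjoinRoot F) := by
  exact (AdjoinRoot.powerBasis' hF).basis.repr.toEquiv.nontrivial_congr.mpr (by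
    haveI : Nonempty (Fin (AdjoinRoot.powerBasis' hF).dim) := ⟨⟨0, by simpa using hd⟩⟩
    infer_instance)

theorem root_of_retraction {A : Type u} [CommRing A] {F : Polynomial A} (ψ : AdjoinRoot F →+* A)
    (hψ : ψ.comp (algebraMap A (AdjoinRoot F)) = RingHom.id A) : ∃ r : A, F.eval r = 0 := by
  refine ⟨ψ (AdjoinRoot.root F), ?_⟩
  rw [AdjoinRoot.algebraMap_eq] at hψ
  have hr := congrArg ψ (AdjoinRoot.eval₂_root F)
  rw [Polynomial.hom_eval₂, map_zero, hψ] at hr
  exact hr

/-- The interior of a pair local for finite coverings is the spectrum of an absolutely integrally closed domain. -/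
theorem interior_domain_aic {P : ModPair.Pair.{u}} (hF : FinLocal P) [CompactSpace P.total]
    [QuasiSeparatedSpace P.total] [IsAffine (ModPair.interior P.mod : Scheme.{u})]
    [IsLocalRing Γ((ModPair.interior P.mod : Scheme.{u}), ⊤)] :
    IsDomain Γ((ModPair.interior P.mod : Scheme.{u}), ⊤) ∧
      Curves.IsAIC Γ((ModPair.interior P.mod : Scheme.{u}), ⊤) := by
  let C := Γ((ModPair.interior P.mod : Scheme.{u}), ⊤)
  have retr : ∀ {B : Type u} [CommRing B] (φ : C →+* B), φ.Finite →
      Function.Surjective (PrimeSpectrum.comap φ) → ∃ ψ : B →+* C, ψ.comp φ = RingHom.id C := by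
    intro B _ φ h1 h2
    haveI := isFinite_specMap (X := (ModPair.interior P.mod : Scheme.{u})) h1
    haveI := surjective_specMap (X := (ModPair.interior P.mod : Scheme.{u})) h2
    obtain ⟨s, hs⟩ := exists_section_interior hF
      (Spec.map (CommRingCat.ofHom φ) ≫ (ModPair.interior P.mod : Scheme.{u}).isoSpec.inv)
    exact exists_retraction φ s hs
  refine ⟨?_, fun F hF hd => ?_⟩
  · haveI : NoZeroDivisors C := ⟨fun {x y} hxy => by
      let φ : C →+* (C ⧸ Ideal.span {x}) × (C ⧸ Ideal.span {y}) :=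
        (Ideal.Quotient.mk _).prod (Ideal.Quotient.mk _)
      have hfin : φ.Finite := RingHom.finite_algebraMap.mpr
        (inferInstance : Module.Finite C ((C ⧸ Ideal.span {x}) × (C ⧸ Ideal.span {y})))
      have hsurj : Function.Surjective (PrimeSpectrum.comap φ) := fun z => by
        rcases z.2.mem_or_mem (show x * y ∈ z.asIdeal by rw [hxy]; exact zero_mem _) with hm | hm
        · have hz : z ∈ Set.range (PrimeSpectrum.comap (Ideal.Quotient.mk (Ideal.span {x}))) := by
            rw [range_comap_of_surjective _ _ Ideal.Quotient.mk_surjective, Ideal.mk_ker,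
              PrimeSpectrum.zeroLocus_span]
            exact Set.singleton_subset_iff.mpr hm
          obtain ⟨w, hw⟩ := hz
          exact ⟨PrimeSpectrum.comap (RingHom.fst _ _) w, hw⟩
        · have hz : z ∈ Set.range (PrimeSpectrum.comap (Ideal.Quotient.mk (Ideal.span {y}))) := by
            rw [range_comap_of_surjective _ _ Ideal.Quotient.mk_surjective, Ideal.mk_ker,
              PrimeSpectrum.zeroLocus_span]
            exact Set.singleton_subset_iff.mpr hm
          obtain ⟨w, hw⟩ := hz
          exact ⟨PrimeSpectrum.comap (RingHom.snd _ _) w, hw⟩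
      obtain ⟨ψ, hψ⟩ := retr φ hfin hsurj
      have he : IsIdempotentElem (ψ (1, 0)) := by
        show ψ (1, 0) * ψ (1, 0) = ψ (1, 0)
        rw [← map_mul, Prod.mk_mul_mk, mul_one, mul_zero]
      rcases IsLocalRing.isUnit_or_isUnit_one_sub_self (ψ (1, 0)) with hu | hu
      · left
        have h1 : ψ (1, 0) = 1 := hu.mul_left_cancel (he.trans (mul_one _).symm)
        calc x = ψ (φ x) * ψ (1, 0) := by rw [h1, mul_one]; exact (RingHom.congr_fun hψ x).symm
          _ = 0 := by
            rw [← map_mul]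
            convert map_zero ψ using 2
            exact Prod.ext (by simp [φ]) (by simp)
      · right
        have h1 : ψ (0, 1) = 1 := by
          have h2 : ψ (1, 0) = 0 := by
            have h3 : 1 - ψ (1, 0) = 1 := hu.mul_left_cancel (he.one_sub.trans (mul_one _).symm)
            simpa using h3
          have h3 : ψ (1, 0) + ψ (0, 1) = 1 := by
            rw [← map_add, Prod.mk_add_mk, add_zero, zero_add]
            exact map_one ψ
          rwa [h2, zero_add] at h3
        calc y = ψ (φ y) * ψ (0, 1) := by rw [h1, mul_one]; exact (RingHom.congr_fun hψ y).symm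
          _ = 0 := by
            rw [← map_mul]
            convert map_zero ψ using 2
            exact Prod.ext (by simp) (by simp [φ])⟩
    exact NoZeroDivisors.to_isDomain C
  · haveI : Module.Free C (AdjoinRoot F) := hF.free_adjoinRoot
    haveI : Module.Finite C (AdjoinRoot F) := hF.finite_adjoinRoot
    haveI := adjoinRoot_nontrivial hF hd
    obtain ⟨ψ, hψ⟩ := retr (algebraMap C (AdjoinRoot F)) (RingHom.finite_algebraMap.mpr inferInstance)
      PrimeSpectrum.comap_surjective_of_faithfullyFlat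
    exact root_of_retraction ψ hψ

theorem total_domain_aic {P : ModPair.Pair.{u}} (hF : FinLocal P) [IsAffine P.total]
    [IsLocalRing Γ(P.total, ⊤)] [IsDomain Γ((ModPair.interior P.mod : Scheme.{u}), ⊤)] :
    IsDomain Γ(P.total, ⊤) ∧ Curves.IsAIC Γ(P.total, ⊤) := by
  haveI := isAffineHom_interior (isLP_of_cart P.isEffCartier)
  haveI := dominant_interior P.isEffCartier
  let r : Γ(P.total, ⊤) →+* Γ((ModPair.interior P.mod : Scheme.{u}), ⊤) :=
    ((ModPair.interior P.mod).ι.app ⊤).hom
  have hr : Function.Injective r := (ModPair.interior P.mod).ι.app_injective ⊤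
  refine ⟨Function.Injective.isDomain r hr, fun F hF' hd => ?_⟩
  haveI : Module.Free Γ(P.total, ⊤) (AdjoinRoot F) := hF'.free_adjoinRoot
  haveI : Module.Finite Γ(P.total, ⊤) (AdjoinRoot F) := hF'.finite_adjoinRoot
  haveI := adjoinRoot_nontrivial hF' hd
  let φ := algebraMap Γ(P.total, ⊤) (AdjoinRoot F)
  haveI := isFinite_specMap (X := P.total) (φ := φ) (RingHom.finite_algebraMap.mpr inferInstance)
  haveI := surjective_specMap (X := P.total) (φ := φ) PrimeSpectrum.comap_surjective_of_faithfullyFlat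
  haveI : Flat (Spec.map (CommRingCat.ofHom φ)) := by
    rw [HasRingHomProperty.Spec_iff (P := @Flat)]
    exact RingHom.flat_algebraMap_iff.mpr inferInstance
  obtain ⟨h, hh⟩ := exists_section_of_finLocal hF (Spec.map (CommRingCat.ofHom φ) ≫ P.total.isoSpec.inv)
    (BlowCompLib.isEffCartier_comap_flat P.isEffCartier _)
  obtain ⟨ψ, hψ⟩ := exists_retraction φ h hh
  exact root_of_retraction ψ hψ

/-- An absolutely integrally closed domain has algebraically closed fraction field. -/
theorem isAlgClosed_fractionRing {D : Type u} [CommRing D] [IsDomain D] (haic : Curves.IsAIC D) :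
    IsAlgClosed (FractionRing D) := by
  let K := FractionRing D
  let L := AlgebraicClosure K
  haveI : Algebra.IsAlgebraic D L := (IsFractionRing.comap_isAlgebraic_iff (A := D) (K := K) (C := L)).mpr inferInstance
  have hsurj : Function.Surjective (algebraMap K L) := fun x => by
    obtain ⟨a, ha0, hax⟩ := (Algebra.IsAlgebraic.isAlgebraic (R := D) x).exists_integral_multiple
    obtain ⟨G, hG, hGx⟩ := hax
    obtain ⟨r, hr⟩ := Groth.Agent.S19345.exists_eq_algebraMap_of_root haic _ G rfl hG (a • x) hGx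
    refine ⟨algebraMap D K r / algebraMap D K a, ?_⟩
    rw [map_div₀, ← IsScalarTower.algebraMap_apply, ← IsScalarTower.algebraMap_apply, hr, Algebra.smul_def]
    refine mul_div_cancel_left₀ x ?_
    rw [IsScalarTower.algebraMap_apply D K L]
    exact fun h0 => ha0 (IsFractionRing.injective D K
      (((algebraMap K L).injective (h0.trans (map_zero _).symm)).trans (map_zero _).symm))
  exact IsAlgClosed.of_ringEquiv L K
    (RingEquiv.ofBijective (algebraMap K L) ⟨(algebraMap K L).injective, hsurj⟩).symm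

theorem aic_quotient {A : Type u} [CommRing A] (haic : Curves.IsAIC A) (q : Ideal A) [q.IsPrime] :
    Curves.IsAIC (A ⧸ q) := by
  intro f hf hd
  obtain ⟨F, hFf, hdeg, hF⟩ := Polynomial.lifts_and_degree_eq_and_monic
    (show f ∈ Polynomial.lifts (Ideal.Quotient.mk q) from
      Polynomial.map_surjective _ Ideal.Quotient.mk_surjective f) hf
  obtain ⟨r, hr⟩ := haic F hF (by rw [Polynomial.natDegree_eq_of_degree_eq hdeg]; exact hd)
  exact ⟨Ideal.Quotient.mk q r, by rw [← hFf, Polynomial.eval_map_apply, hr, map_zero]⟩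

theorem finLocal_of_aic {P : ModPair.Pair.{u}} [IsAffine P.total] [IsLocalRing Γ(P.total, ⊤)]
    [IsDomain Γ(P.total, ⊤)] (haic : Curves.IsAIC Γ(P.total, ⊤)) : FinLocal P := by
  intro X ι U v hv hcov g
  have hR : Presieve.ofArrows (fun i => (U i).total) (fun i => (v i).hom) ∈
      Scheme.precoverage @IsFinite X.total := by
    rw [Scheme.ofArrows_mem_precoverage_iff]
    exact ⟨hcov, fun i => (hv i).2⟩
  obtain ⟨Y, w, h, hw, hh⟩ :=
    (Groth.Agent.S19345.backward (A := Γ(P.total, ⊤)) haic).2 _ _ hR (P.total.isoSpec.inv ≫ g.hom)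
  obtain ⟨i⟩ := hw
  have hh' : (P.total.isoSpec.hom ≫ h) ≫ (v i).hom = g.hom := by
    rw [Category.assoc, hh, Iso.hom_inv_id_assoc]
  refine ⟨i, ⟨P.total.isoSpec.hom ≫ h, ?_⟩, ModPair.Pair.Hom.ext hh'⟩
  show P.mod ≤ (U i).mod.comap _
  rw [(hv i).1, ← Scheme.IdealSheafData.comap_comp, hh']
  exact g.cond

end Groth.Agent.ModPairLib
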