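import Mathlib
import Groth.Agent.ModPairLib.Calculus
import Groth.Agent.BlowExistsLib.Proper
import Groth.Agent.S18733

/-! Ambient products are fibre products in the localization at admissible blow-ups. -/

set_option autoImplicit false
set_option backward.isDefEq.respectTransparency false
set_option backward.isDefEq.respectTransparency.types false
set_option backward.defeqAttrib.useBackward true
set_option linter.style.haveILetI false
set_option maxHeartbeats 800000

universe u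

open CategoryTheory CategoryTheory.Limits AlgebraicGeometry

namespace Groth.Agent.ModPairLib

open ModPair

theorem ft_sup {X : Scheme.{u}} {A B : X.IdealSheafData} (hA : IsLP A) (hB : IsLP B) :
    BlowUp.IsFiniteTypeIdeal (A ⊔ B) := fun V => by
  rw [Scheme.IdealSheafData.ideal_sup, Pi.sup_apply]
  exact Submodule.FG.sup (fg_of_isLP hA V) (fg_of_isLP hB V)

/-- Make the intersection of two locally principal ideals containing the modulus invertible. -/
theorem exists_refine (W : Pair.{u}) {A B : W.total.IdealSheafData} (hA : IsLP A) (hB : IsLP B) (hWA : W.mod ≤ A) :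
    ∃ (W' : Pair.{u}) (β : W' ⟶ W), Pair.admBlowup β ∧ BlowUp.IsEffCartierIdeal ((A ⊔ B).comap β.hom) := by
  obtain ⟨Y, β, hβ⟩ := BlowExistsLib.exists_isBlowUp (A ⊔ B)
  haveI := (S1571.result Y _ hβ.1).1
  haveI := (S1571.result Y _ hβ.1).2
  have hc : BlowUp.IsEffCartierIdeal (W.mod.comap β) :=
    BlowCompLib.isEffCartier_comap_of_blowUp _ β hβ W.isEffCartier
  haveI : IsIso (β ∣_ (A ⊔ B).support.compl) := BlowCompLib.isIso_restrict _ β hβ
  refine ⟨⟨Y, _, hc⟩, ⟨β, le_rfl⟩, ⟨rfl, BlowExistsLib.isProper_of_FG hβ (ft_sup hA hB), ?_⟩, hβ.1⟩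
  exact isIso_restrict_baseChange (IsPullback.of_horiz_isIso (show CommSq (𝟙 Y) β β (𝟙 W.total) from ⟨by simp⟩))
    (A ⊔ B).support.compl (ModPair.interior W.mod) (fun x hx => interior_mono (hWA.trans le_sup_left) hx)

theorem le_of_mul_sup {X : Scheme.{u}} {D A B K : X.IdealSheafData} (hD : BlowUp.IsEffCartierIdeal D)
    (hA : IsLP A) (hB : IsLP B) (hDA : D ≤ A) (hDB : D ≤ B) (hc : BlowUp.IsEffCartierIdeal (A ⊔ B))
    (hK : K * (A ⊔ B) = A * B) : D ≤ K := by
  obtain ⟨R₁, R₂, -, -, e₁, e₂, -, hmin⟩ := S18733.result A B (cart_of_le hD hA hDA) (cart_of_le hD hB hDB) hc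
  have h : K = R₁ * R₂ * (A ⊔ B) := mul_right_cancel' hc (by
    calc K * (A ⊔ B) = A * B := hK
      _ = R₁ * (A ⊔ B) * (R₂ * (A ⊔ B)) := congrArg₂ (· * ·) e₁ e₂
      _ = R₁ * R₂ * (A ⊔ B) * (A ⊔ B) := by generalize A ⊔ B = E; ac_rfl)
  rw [h]
  exact hmin D hD hDA hDB

section

variable {P T X : Pair.{u}} {f : X ⟶ P} {g : T ⟶ P} {Y : Scheme.{u}} {π : Y ⟶ mprod f.hom g.hom X.mod T.mod}
  {K : Y.IdealSheafData} (hY : IsAmbProd f.hom g.hom X.mod T.mod π K) (hK : BlowUp.IsEffCartierIdeal K)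
  (hX : IsAmbient K X.mod (π ≫ mprodι f.hom g.hom X.mod T.mod ≫ pullback.fst f.hom g.hom))
  (hT : IsAmbient K T.mod (π ≫ mprodι f.hom g.hom X.mod T.mod ≫ pullback.snd f.hom g.hom))

include hY in
theorem hom_ext_ambProd {W : Pair.{u}} {c c' : W ⟶ Pair.mk Y K hK}
    (h₁ : c ≫ Pair.Hom.mk (P := Pair.mk Y K hK) (Q := X) _ hX = c' ≫ Pair.Hom.mk (P := Pair.mk Y K hK) (Q := X) _ hX)
    (h₂ : c ≫ Pair.Hom.mk (P := Pair.mk Y K hK) (Q := T) _ hT = c' ≫ Pair.Hom.mk (P := Pair.mk Y K hK) (Q := T) _ hT) :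
    c = c' := by
  have e₁ : c.hom ≫ π ≫ mprodι f.hom g.hom X.mod T.mod ≫ pullback.fst f.hom g.hom =
      c'.hom ≫ π ≫ mprodι f.hom g.hom X.mod T.mod ≫ pullback.fst f.hom g.hom := congrArg Pair.Hom.hom h₁
  have e₂ : c.hom ≫ π ≫ mprodι f.hom g.hom X.mod T.mod ≫ pullback.snd f.hom g.hom =
      c'.hom ≫ π ≫ mprodι f.hom g.hom X.mod T.mod ≫ pullback.snd f.hom g.hom := congrArg Pair.Hom.hom h₂
  have e : c.hom ≫ π = c'.hom ≫ π :=
    mprod_hom_ext _ _ _ _ (by simpa only [Category.assoc] using e₁) (by simpa only [Category.assoc] using e₂)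
  haveI : IsProper π := BlowExistsLib.isProper_of_FG hY.1
    (ft_sup ((isLP_of_cart X.isEffCartier).comap _) ((isLP_of_cart T.isEffCartier).comap _))
  haveI := dominant_interior W.isEffCartier
  refine Pair.Hom.ext (hom_ext_dominant (ModPair.interior W.mod).ι π e ?_)
  have hc : BlowUp.IsEffCartierIdeal ((prodCentre f.hom g.hom X.mod T.mod).comap ((ModPair.interior W.mod).ι ≫ c.hom ≫ π)) := by
    rw [BlowCompLib.comap_eq_top _ _ fun y hy => ?_]
    · exact BlowCompLib.isEffCartier_top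
    · have h1 : c.hom y.1 ∈ ModPair.interior K := interior_le_of_ambient c.cond y.2
      have h2 := interior_mono (ambProd_le_fst hY) h1
      rw [interior_comap] at h2
      exact interior_mono (le_sup_left : mA f.hom g.hom X.mod T.mod ≤ prodCentre f.hom g.hom X.mod T.mod) h2 hy
  obtain ⟨m, -, hm⟩ := hY.1.2 _ _ hc
  rw [hm ((ModPair.interior W.mod).ι ≫ c.hom) (Category.assoc _ _ _),
    hm ((ModPair.interior W.mod).ι ≫ c'.hom) (by
      show ((ModPair.interior W.mod).ι ≫ c'.hom) ≫ π = _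
      rw [Category.assoc, e])]

include hY in
theorem existsUnique_lift_Q (W : Pair.{u})
    (u : (Pair.admBlowup.{u}).Q.obj W ⟶ (Pair.admBlowup.{u}).Q.obj T)
    (v : (Pair.admBlowup.{u}).Q.obj W ⟶ (Pair.admBlowup.{u}).Q.obj X)
    (h : u ≫ (Pair.admBlowup.{u}).Q.map g = v ≫ (Pair.admBlowup.{u}).Q.map f) :
    ∃! l : (Pair.admBlowup.{u}).Q.obj W ⟶ (Pair.admBlowup.{u}).Q.obj (Pair.mk Y K hK),
      l ≫ (Pair.admBlowup.{u}).Q.map (Pair.Hom.mk (P := Pair.mk Y K hK) (Q := T) _ hT) = u ∧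
      l ≫ (Pair.admBlowup.{u}).Q.map (Pair.Hom.mk (P := Pair.mk Y K hK) (Q := X) _ hX) = v := by
  let L := (Pair.admBlowup.{u}).Q
  set pT := Pair.Hom.mk (P := Pair.mk Y K hK) (Q := T) _ hT with hpT
  set pX := Pair.Hom.mk (P := Pair.mk Y K hK) (Q := X) _ hX with hpX
  obtain ⟨W₁, s, a, b, hs, ha, hb⟩ := Frac.exists_common Pair.admBlowup L u v
  have heq : L.map (a ≫ g) = L.map (b ≫ f) := by
    rw [Functor.map_comp, Functor.map_comp, ← ha, ← hb, Category.assoc, Category.assoc]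
    exact congrArg (L.map s ≫ ·) h
  obtain ⟨W₂, t, ht, hte⟩ := (MorphismProperty.map_eq_iff_precomp L Pair.admBlowup _ _).1 heq
  obtain ⟨W₃, β, hβ, hcart⟩ := exists_refine W₂ ((isLP_of_cart X.isEffCartier).comap (t ≫ b).hom)
    ((isLP_of_cart T.isEffCartier).comap (t ≫ a).hom) (t ≫ b).cond
  let a' : W₃ ⟶ T := β ≫ t ≫ a
  let b' : W₃ ⟶ X := β ≫ t ≫ b
  have hw : b'.hom ≫ f.hom = a'.hom ≫ g.hom :=
    congrArg Pair.Hom.hom (show b' ≫ f = a' ≫ g by simp only [a', b', Category.assoc, hte])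
  have hcart' : BlowUp.IsEffCartierIdeal (X.mod.comap b'.hom ⊔ T.mod.comap a'.hom) := by
    rw [show b'.hom = β.hom ≫ (t ≫ b).hom from rfl, show a'.hom = β.hom ≫ (t ≫ a).hom from rfl,
      Scheme.IdealSheafData.comap_comp, Scheme.IdealSheafData.comap_comp, ← Scheme.IdealSheafData.comap_sup]
    exact hcart
  obtain ⟨c, hc₁, hc₂, hcK⟩ := exists_lift_ambProd hY W₃.isEffCartier b'.hom a'.hom hw b'.cond a'.cond hcart'
  let c' : W₃ ⟶ Pair.mk Y K hK := ⟨c, le_of_mul_sup W₃.isEffCartier ((isLP_of_cart X.isEffCartier).comap _)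
    ((isLP_of_cart T.isEffCartier).comap _) b'.cond a'.cond hcart' hcK⟩
  have hc'T : c' ≫ pT = a' := Pair.Hom.ext hc₂
  have hc'X : c' ≫ pX = b' := Pair.Hom.ext hc₁
  have hS : Pair.admBlowup (β ≫ t ≫ s) := (Pair.admBlowup.{u}).comp_mem _ _ hβ ((Pair.admBlowup.{u}).comp_mem _ _ ht hs)
  haveI := Localization.inverts L Pair.admBlowup _ hS
  refine ⟨inv (L.map (β ≫ t ≫ s)) ≫ L.map c', ⟨?_, ?_⟩, fun l hl => ?_⟩
  · show (inv (L.map (β ≫ t ≫ s)) ≫ L.map c') ≫ L.map pT = u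
    rw [Category.assoc, IsIso.inv_comp_eq, ← Functor.map_comp, hc'T]
    simp only [a', Functor.map_comp, Category.assoc, ← ha]
  · show (inv (L.map (β ≫ t ≫ s)) ≫ L.map c') ≫ L.map pX = v
    rw [Category.assoc, IsIso.inv_comp_eq, ← Functor.map_comp, hc'X]
    simp only [b', Functor.map_comp, Category.assoc, ← hb]
  · rw [IsIso.eq_inv_comp]
    obtain ⟨W₄, r, d, hr, hd⟩ := Frac.exists_frac Pair.admBlowup L (L.map (β ≫ t ≫ s) ≫ l)
    refine Frac.cancel_s L hr ?_
    rw [hd, ← Functor.map_comp]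
    have eT : L.map (d ≫ pT) = L.map ((r ≫ c') ≫ pT) := by
      rw [Functor.map_comp, ← hd, Category.assoc, Category.assoc, show l ≫ L.map pT = u from hl.1, Category.assoc, hc'T]
      simp only [a', Functor.map_comp, Category.assoc, ← ha]
    have eX : L.map (d ≫ pX) = L.map ((r ≫ c') ≫ pX) := by
      rw [Functor.map_comp, ← hd, Category.assoc, Category.assoc, show l ≫ L.map pX = v from hl.2, Category.assoc, hc'X]
      simp only [b', Functor.map_comp, Category.assoc, ← hb]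
    obtain ⟨W₅, q₁, hq₁, hqT⟩ := (MorphismProperty.map_eq_iff_precomp L Pair.admBlowup _ _).1 eT
    have eX' : L.map (q₁ ≫ d ≫ pX) = L.map (q₁ ≫ (r ≫ c') ≫ pX) := by rw [L.map_comp, L.map_comp q₁, eX]
    obtain ⟨W₆, q₂, hq₂, hqX⟩ := (MorphismProperty.map_eq_iff_precomp L Pair.admBlowup _ _).1 eX'
    refine (MorphismProperty.map_eq_iff_precomp L Pair.admBlowup _ _).2
      ⟨W₆, q₂ ≫ q₁, (Pair.admBlowup.{u}).comp_mem _ _ hq₂ hq₁, hom_ext_ambProd hY hK hX hT ?_ ?_⟩
    · simpa only [Category.assoc] using hqX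
    · simpa only [Category.assoc] using congrArg (q₂ ≫ ·) hqT

include hY in
theorem isPullback_Q : IsPullback
    ((Pair.admBlowup.{u}).Q.map (Pair.Hom.mk (P := Pair.mk Y K hK) (Q := T) _ hT))
    ((Pair.admBlowup.{u}).Q.map (Pair.Hom.mk (P := Pair.mk Y K hK) (Q := X) _ hX))
    ((Pair.admBlowup.{u}).Q.map g) ((Pair.admBlowup.{u}).Q.map f) := by
  let L := (Pair.admBlowup.{u}).Q
  haveI : L.EssSurj := Localization.essSurj L Pair.admBlowup
  set pT := Pair.Hom.mk (P := Pair.mk Y K hK) (Q := T) _ hT with hpT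
  set pX := Pair.Hom.mk (P := Pair.mk Y K hK) (Q := X) _ hX with hpX
  have hw : pT ≫ g = pX ≫ f := Pair.Hom.ext (by
    show (π ≫ mprodι f.hom g.hom X.mod T.mod ≫ pullback.snd f.hom g.hom) ≫ g.hom =
      (π ≫ mprodι f.hom g.hom X.mod T.mod ≫ pullback.fst f.hom g.hom) ≫ f.hom
    simp only [Category.assoc, pullback.condition])
  have hex : ∀ s : PullbackCone (L.map g) (L.map f), ∃! l, l ≫ L.map pT = s.fst ∧ l ≫ L.map pX = s.snd := fun s => by
    let e := L.objObjPreimageIso s.pt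
    obtain ⟨l, ⟨h1, h2⟩, hu⟩ := existsUnique_lift_Q hY hK hX hT _ (e.hom ≫ s.fst) (e.hom ≫ s.snd)
      (by rw [Category.assoc, Category.assoc]; exact congrArg (e.hom ≫ ·) s.condition)
    refine ⟨e.inv ≫ l, ⟨?_, ?_⟩, fun m hm => ?_⟩
    · rw [Category.assoc, h1, e.inv_hom_id_assoc]
    · rw [Category.assoc, h2, e.inv_hom_id_assoc]
    · rw [← hu (e.hom ≫ m) ⟨by rw [Category.assoc]; exact congrArg (e.hom ≫ ·) hm.1,
        by rw [Category.assoc]; exact congrArg (e.hom ≫ ·) hm.2⟩, e.inv_hom_id_assoc]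
  exact IsPullback.of_isLimit' ⟨by rw [← L.map_comp, ← L.map_comp, hw]⟩
    (PullbackCone.IsLimit.mk _ (fun s => (hex s).choose) (fun s => (hex s).choose_spec.1.1)
      (fun s => (hex s).choose_spec.1.2) (fun s m h1 h2 => (hex s).choose_spec.2 m ⟨h1, h2⟩))

end

instance hasPullback_Q {P T X : Pair.{u}} (f : X ⟶ P) (g : T ⟶ P) :
    HasPullback ((Pair.admBlowup.{u}).Q.map g) ((Pair.admBlowup.{u}).Q.map f) := by
  obtain ⟨Y, π, K, hY⟩ := exists_ambProd f.hom g.hom X.mod T.mod (isLP_of_cart X.isEffCartier) (isLP_of_cart T.isEffCartier)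
  exact (isPullback_Q hY (cart_ambProd (isLP_of_cart X.isEffCartier) (isLP_of_cart T.isEffCartier) hY)
    (ambient_fst hY) (ambient_snd hY)).hasPullback

theorem hasPullbacks_localization : HasPullbacks (Pair.admBlowup.{u}).Localization := by
  let L := (Pair.admBlowup.{u}).Q
  haveI : L.EssSurj := Localization.essSurj L Pair.admBlowup
  suffices h : ∀ {A B C : (Pair.admBlowup.{u}).Localization} (f : A ⟶ C) (g : B ⟶ C), HasPullback f g by
    haveI : ∀ {A B C : (Pair.admBlowup.{u}).Localization} {f : A ⟶ C} {g : B ⟶ C}, HasLimit (cospan f g) :=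
      fun {A B C f g} => h f g
    exact hasPullbacks_of_hasLimit_cospan _
  intro A B C f g
  let eA := L.objObjPreimageIso A
  let eB := L.objObjPreimageIso B
  let eC := L.objObjPreimageIso C
  obtain ⟨A', s, a, hs, ha⟩ := Frac.exists_frac Pair.admBlowup L (eA.hom ≫ f ≫ eC.inv)
  obtain ⟨B', t, b, ht, hb⟩ := Frac.exists_frac Pair.admBlowup L (eB.hom ≫ g ≫ eC.inv)
  haveI := Localization.inverts L Pair.admBlowup s hs
  haveI := Localization.inverts L Pair.admBlowup t ht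
  haveI := hasPullback_Q b a
  haveI : HasLimit (cospan (L.map a) (L.map b)) := inferInstanceAs (HasPullback (L.map a) (L.map b))
  exact hasLimit_of_iso (cospanExt (asIso (L.map s) ≪≫ eA) (asIso (L.map t) ≪≫ eB) eC
    (show (asIso (L.map s) ≪≫ eA).hom ≫ f = L.map a ≫ eC.hom by
      rw [← ha]; simp)
    (show (asIso (L.map t) ≪≫ eB).hom ≫ g = L.map b ≫ eC.hom by
      rw [← hb]; simp))

/-- The point. -/
noncomputable def ptPair : Pair.{u} := ⟨⊤_ Scheme.{u}, ⊤, BlowCompLib.isEffCartier_top⟩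

theorem hasTerminal_localization : HasTerminal (Pair.admBlowup.{u}).Localization := by
  let L := (Pair.admBlowup.{u}).Q
  haveI : L.EssSurj := Localization.essSurj L Pair.admBlowup
  let bang : ∀ W : Pair.{u}, W ⟶ ptPair.{u} := fun W => ⟨terminal.from _, by
    show W.mod ≤ (⊤ : (⊤_ Scheme.{u}).IdealSheafData).comap _
    rw [Scheme.IdealSheafData.comap_top]; exact le_top⟩
  have hb : ∀ {W : Pair.{u}} (k : W ⟶ ptPair.{u}), k = bang W := fun k => Pair.Hom.ext (terminal.hom_ext _ _)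
  have hu : ∀ (W : Pair.{u}) (k : L.obj W ⟶ L.obj ptPair.{u}), k = L.map (bang W) := fun W k => by
    obtain ⟨W', s, a, hs, ha⟩ := Frac.exists_frac Pair.admBlowup L k
    refine Frac.cancel_s L hs ?_
    rw [ha, ← Functor.map_comp, hb (s ≫ bang W), hb a]
  haveI : ∀ Z, Unique (Z ⟶ L.obj ptPair.{u}) := fun Z =>
    { default := (L.objObjPreimageIso Z).inv ≫ L.map (bang _)
      uniq := fun k => by
        have := hu _ ((L.objObjPreimageIso Z).hom ≫ k)
        show k = (L.objObjPreimageIso Z).inv ≫ L.map (bang _)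
        rw [← this, Iso.inv_hom_id_assoc] }
  exact hasTerminal_of_unique (L.obj ptPair.{u})

end Groth.Agent.ModPairLib
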