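import Mathlib
import Groth.Agent.ModPairLib.Frac

/-! Localization of slices at a calculus of right fractions. -/

set_option autoImplicit false
set_option backward.isDefEq.respectTransparency false
set_option backward.isDefEq.respectTransparency.types false

universe v₁ v₂ v₃ u₁ u₂ u₃

open CategoryTheory

namespace Groth.Agent.ModPairLib.SliceLoc

variable {C : Type u₁} [Category.{v₁} C] (W : MorphismProperty C) [W.HasRightCalculusOfFractions] (S : C)

instance calculus_over : (W.inverseImage (Over.forget S)).HasRightCalculusOfFractions where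
  id_mem X := W.id_mem X.left
  comp_mem f g hf hg := W.comp_mem f.left g.left hf hg
  exists_rightFraction X Y φ := by
    obtain ⟨ψ, hψ⟩ := MorphismProperty.HasRightCalculusOfFractions.exists_rightFraction
      (W := W) (MorphismProperty.LeftFraction.mk φ.f.left φ.s.left φ.hs)
    dsimp at hψ
    refine ⟨MorphismProperty.RightFraction.mk (X' := Over.mk (ψ.s ≫ X.hom)) (Over.homMk ψ.s rfl) ψ.hs
      (Over.homMk ψ.f ?_), Over.OverMorphism.ext hψ⟩
    show ψ.f ≫ Y.hom = ψ.s ≫ X.hom
    rw [← Over.w φ.s, ← Over.w φ.f, ← Category.assoc, ← Category.assoc, hψ]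
  ext X Y Y' f₁ f₂ s hs h := by
    obtain ⟨X', t, ht, he⟩ := MorphismProperty.HasRightCalculusOfFractions.ext (W := W) f₁.left f₂.left s.left hs
      (congrArg (fun m => m.left) h)
    exact ⟨Over.mk (t ≫ X.hom), Over.homMk t rfl, ht, Over.OverMorphism.ext he⟩

variable {W S} {D : Type u₂} [Category.{v₂} D] (L : C ⥤ D) [L.IsLocalization W]
  {E : Type u₃} [Category.{v₃} E] (L' : Over S ⥤ E) [L'.IsLocalization (W.inverseImage (Over.forget S))]
  (Φ : E ⥤ Over (L.obj S)) (e : L' ⋙ Φ ≅ Over.post L)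

include W e in
theorem map_surj_obj {x y : Over S} (g : Φ.obj (L'.obj x) ⟶ Φ.obj (L'.obj y)) : ∃ h, Φ.map h = g := by
  let g' : (Over.post L).obj x ⟶ (Over.post L).obj y := e.inv.app x ≫ g ≫ e.hom.app y
  obtain ⟨c, s, a, hs, ha⟩ := Frac.exists_frac W L (X := x.left) (Y := y.left) g'.left
  have heq : L.map (a ≫ y.hom) = L.map (s ≫ x.hom) := by
    rw [L.map_comp, ← ha, Category.assoc, L.map_comp]
    exact congrArg (L.map s ≫ ·) (Over.w g')
  obtain ⟨c', t, ht, hte⟩ := (MorphismProperty.map_eq_iff_precomp L W _ _).1 heq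
  let z : Over S := Over.mk (t ≫ s ≫ x.hom)
  let σ : z ⟶ x := Over.homMk (t ≫ s) (Category.assoc _ _ _)
  let α : z ⟶ y := Over.homMk (t ≫ a) ((Category.assoc _ _ _).trans hte)
  haveI : IsIso (L'.map σ) := Localization.inverts L' (W.inverseImage (Over.forget S)) σ (W.comp_mem _ _ ht hs)
  refine ⟨inv (L'.map σ) ≫ L'.map α, ?_⟩
  rw [Φ.map_comp, Functor.map_inv, IsIso.inv_comp_eq, ← cancel_mono (e.hom.app y), Category.assoc]
  have hg : g ≫ e.hom.app y = e.hom.app x ≫ g' := by simp [g']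
  have n1 := e.hom.naturality α
  have n2 := e.hom.naturality σ
  simp only [Functor.comp_map] at n1 n2
  rw [n1, hg, reassoc_of% n2]
  congr 1
  refine Over.OverMorphism.ext ?_
  show L.map (t ≫ a) = L.map (t ≫ s) ≫ g'.left
  rw [L.map_comp, L.map_comp t s, Category.assoc, ← ha]

include W e in
theorem map_inj_obj {x y : Over S} {h₁ h₂ : L'.obj x ⟶ L'.obj y} (h : Φ.map h₁ = Φ.map h₂) : h₁ = h₂ := by
  obtain ⟨z, s, a, b, hs, ha, hb⟩ := Frac.exists_common (W.inverseImage (Over.forget S)) L' h₁ h₂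
  refine Frac.cancel_s L' hs ?_
  rw [ha, hb]
  have h1 : Φ.map (L'.map a) = Φ.map (L'.map b) := by rw [← ha, ← hb, Φ.map_comp, Φ.map_comp, h]
  have n1 := e.hom.naturality a
  have n2 := e.hom.naturality b
  simp only [Functor.comp_map] at n1 n2
  rw [h1, n2, cancel_epi] at n1
  have h2 : L.map a.left = L.map b.left := (congrArg (fun m => m.left) n1).symm
  obtain ⟨c, t, ht, hte⟩ := (MorphismProperty.map_eq_iff_precomp L W _ _).1 h2
  exact (MorphismProperty.map_eq_iff_precomp L' (W.inverseImage (Over.forget S)) a b).2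
    ⟨Over.mk (t ≫ z.hom), Over.homMk t rfl, ht, Over.OverMorphism.ext hte⟩

include W e in
theorem isEquivalence : Φ.IsEquivalence := by
  haveI : L'.EssSurj := Localization.essSurj L' (W.inverseImage (Over.forget S))
  haveI : L.EssSurj := Localization.essSurj L W
  haveI : Φ.Faithful := ⟨fun {A B} p q hpq => by
    rw [← cancel_epi (L'.objObjPreimageIso A).hom, ← cancel_mono (L'.objObjPreimageIso B).inv]
    refine map_inj_obj (W := W) L L' Φ e ?_
    simp only [Functor.map_comp, hpq]⟩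
  haveI : Φ.Full := ⟨fun {A B} g => by
    obtain ⟨h, hh⟩ := map_surj_obj (W := W) L L' Φ e
      (Φ.map (L'.objObjPreimageIso A).hom ≫ g ≫ Φ.map (L'.objObjPreimageIso B).inv)
    exact ⟨(L'.objObjPreimageIso A).inv ≫ h ≫ (L'.objObjPreimageIso B).hom, by simp [hh]⟩⟩
  haveI : Φ.EssSurj := ⟨fun d => by
    let e₁ := L.objObjPreimageIso d.left
    obtain ⟨c, s, a, hs, ha⟩ := Frac.exists_frac W L (e₁.hom ≫ d.hom)
    haveI := Localization.inverts L W s hs
    refine ⟨L'.obj (Over.mk a), ⟨e.app _ ≪≫ Over.isoMk (asIso (L.map s) ≪≫ e₁) ?_⟩⟩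
    show (L.map s ≫ e₁.hom) ≫ d.hom = L.map a
    rw [Category.assoc, ha]⟩
  exact { }

end Groth.Agent.ModPairLib.SliceLoc
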