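import Mathlib
import Groth.Agent.ModPairLib.Frac

/-! Localization of full subcategories of slices at a calculus of right fractions. -/

set_option autoImplicit false
set_option backward.isDefEq.respectTransparency false
set_option backward.isDefEq.respectTransparency.types false

universe v₁ v₂ v₃ u₁ u₂ u₃

open CategoryTheory

namespace Groth.Agent.ModPairLib.SliceSub

variable {C : Type u₁} [Category.{v₁} C] (W : MorphismProperty C) [W.HasRightCalculusOfFractions] {S : C}
  (P : ObjectProperty (Over S))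

/-- The class on the subcategory of the slice. -/
abbrev cls : MorphismProperty P.FullSubcategory := (W.inverseImage (Over.forget S)).inverseImage P.ι

theorem calculus_sub (hP : ∀ (x : Over S) (z : C) (s : z ⟶ x.left), P x → W s → P (Over.mk (s ≫ x.hom))) :
    (cls W P).HasRightCalculusOfFractions where
  id_mem X := W.id_mem X.obj.left
  comp_mem f g hf hg := W.comp_mem f.hom.left g.hom.left hf hg
  exists_rightFraction X Y φ := by
    obtain ⟨ψ, hψ⟩ := MorphismProperty.HasRightCalculusOfFractions.exists_rightFraction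
      (W := W) (MorphismProperty.LeftFraction.mk φ.f.hom.left φ.s.hom.left φ.hs)
    dsimp at hψ
    refine ⟨MorphismProperty.RightFraction.mk
      (X' := (⟨Over.mk (ψ.s ≫ X.obj.hom), hP X.obj _ ψ.s X.property ψ.hs⟩ : P.FullSubcategory))
      (ObjectProperty.homMk (Over.homMk ψ.s rfl)) ψ.hs (ObjectProperty.homMk (Over.homMk ψ.f ?_)),
      ObjectProperty.hom_ext P (Over.OverMorphism.ext hψ)⟩
    show ψ.f ≫ Y.obj.hom = ψ.s ≫ X.obj.hom
    rw [← Over.w φ.s.hom, ← Over.w φ.f.hom, ← Category.assoc, ← Category.assoc, hψ]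
  ext X Y Y' f₁ f₂ s hs h := by
    obtain ⟨X', t, ht, he⟩ := MorphismProperty.HasRightCalculusOfFractions.ext (W := W) f₁.hom.left
      f₂.hom.left s.hom.left hs (congrArg (fun m => m.hom.left) h)
    exact ⟨⟨Over.mk (t ≫ X.obj.hom), hP X.obj _ t X.property ht⟩, ObjectProperty.homMk (Over.homMk t rfl),
      ht, ObjectProperty.hom_ext P (Over.OverMorphism.ext he)⟩

variable {W P} {D : Type u₂} [Category.{v₂} D] (L : C ⥤ D) [L.IsLocalization W]
  {E : Type u₃} [Category.{v₃} E] (L' : P.FullSubcategory ⥤ E) [L'.IsLocalization (cls W P)]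
  (Φ : E ⥤ Over (L.obj S)) (e : L' ⋙ Φ ≅ P.ι ⋙ Over.post L)
  (hP : ∀ (x : Over S) (z : C) (s : z ⟶ x.left), P x → W s → P (Over.mk (s ≫ x.hom)))

include W e hP in
theorem map_surj_obj {x y : P.FullSubcategory} (g : Φ.obj (L'.obj x) ⟶ Φ.obj (L'.obj y)) :
    ∃ h, Φ.map h = g := by
  haveI := calculus_sub W P hP
  let g' : (Over.post L).obj x.obj ⟶ (Over.post L).obj y.obj := e.inv.app x ≫ g ≫ e.hom.app y
  obtain ⟨c, s, a, hs, ha⟩ := Frac.exists_frac W L (X := x.obj.left) (Y := y.obj.left) g'.left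
  have heq : L.map (a ≫ y.obj.hom) = L.map (s ≫ x.obj.hom) := by
    rw [L.map_comp, ← ha, Category.assoc, L.map_comp]
    exact congrArg (L.map s ≫ ·) (Over.w g')
  obtain ⟨c', t, ht, hte⟩ := (MorphismProperty.map_eq_iff_precomp L W _ _).1 heq
  let z₀ : Over S := Over.mk (t ≫ s ≫ x.obj.hom)
  let z : P.FullSubcategory := ⟨z₀, by
    have h := hP x.obj _ (t ≫ s) x.property (W.comp_mem _ _ ht hs)
    rwa [Category.assoc] at h⟩
  let σ : z ⟶ x := ObjectProperty.homMk (Over.homMk (t ≫ s) (Category.assoc _ _ _) : z₀ ⟶ x.obj)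
  let α : z ⟶ y := ObjectProperty.homMk (Over.homMk (t ≫ a) ((Category.assoc _ _ _).trans hte) : z₀ ⟶ y.obj)
  haveI : IsIso (L'.map σ) := Localization.inverts L' (cls W P) σ (W.comp_mem _ _ ht hs)
  refine ⟨inv (L'.map σ) ≫ L'.map α, ?_⟩
  rw [Φ.map_comp, Functor.map_inv, IsIso.inv_comp_eq, ← cancel_mono (e.hom.app y), Category.assoc]
  have hg : g ≫ e.hom.app y = e.hom.app x ≫ g' := by simp [g']
  have n1 := e.hom.naturality α
  have n2 := e.hom.naturality σ
  simp only [Functor.comp_map] at n1 n2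
  rw [n1, hg, reassoc_of% n2]
  congr 1
  refine Over.OverMorphism.ext ?_
  show L.map (t ≫ a) = L.map (t ≫ s) ≫ g'.left
  rw [L.map_comp, L.map_comp t s, Category.assoc, ← ha]

include W e hP in
theorem map_inj_obj {x y : P.FullSubcategory} {h₁ h₂ : L'.obj x ⟶ L'.obj y} (h : Φ.map h₁ = Φ.map h₂) :
    h₁ = h₂ := by
  haveI := calculus_sub W P hP
  obtain ⟨z, s, a, b, hs, ha, hb⟩ := Frac.exists_common (cls W P) L' h₁ h₂
  refine Frac.cancel_s L' hs ?_
  rw [ha, hb]
  have h1 : Φ.map (L'.map a) = Φ.map (L'.map b) := by rw [← ha, ← hb, Φ.map_comp, Φ.map_comp, h]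
  have n1 := e.hom.naturality a
  have n2 := e.hom.naturality b
  simp only [Functor.comp_map] at n1 n2
  rw [h1, n2, cancel_epi] at n1
  have h2 : L.map a.hom.left = L.map b.hom.left := (congrArg (fun m => m.left) n1).symm
  obtain ⟨c, t, ht, hte⟩ := (MorphismProperty.map_eq_iff_precomp L W _ _).1 h2
  exact (MorphismProperty.map_eq_iff_precomp L' (cls W P) a b).2
    ⟨⟨Over.mk (t ≫ z.obj.hom), hP z.obj _ t z.property ht⟩, ObjectProperty.homMk (Over.homMk t rfl), ht,
      ObjectProperty.hom_ext P (Over.OverMorphism.ext hte)⟩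

include W e hP in
theorem full_faithful : Φ.Full ∧ Φ.Faithful := by
  haveI := calculus_sub W P hP
  haveI : L'.EssSurj := Localization.essSurj L' (cls W P)
  refine ⟨⟨fun {A B} g => ?_⟩, ⟨fun {A B} p q hpq => ?_⟩⟩
  · obtain ⟨h, hh⟩ := map_surj_obj (W := W) L L' Φ e hP
      (Φ.map (L'.objObjPreimageIso A).hom ≫ g ≫ Φ.map (L'.objObjPreimageIso B).inv)
    exact ⟨(L'.objObjPreimageIso A).inv ≫ h ≫ (L'.objObjPreimageIso B).hom, by simp [hh]⟩
  · rw [← cancel_epi (L'.objObjPreimageIso A).hom, ← cancel_mono (L'.objObjPreimageIso B).inv]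
    refine map_inj_obj (W := W) L L' Φ e hP ?_
    simp only [Functor.map_comp, hpq]

end Groth.Agent.ModPairLib.SliceSub
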