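import Mathlib

/-!
Flat algebras over a valuation ring with finite generic fibre are quasi-finite; flat proper generically
finite morphisms to the spectrum of a valuation ring are finite.
-/

set_option autoImplicit false
set_option backward.isDefEq.respectTransparency false
set_option backward.isDefEq.respectTransparency.types false
set_option backward.defeqAttrib.useBackward true
set_option linter.style.haveILetI false
set_option maxHeartbeats 800000

universe u

open CategoryTheory CategoryTheory.Limits AlgebraicGeometry TensorProduct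

namespace Groth.Agent.ModPairLib

variable {R : Type u} [CommRing R] [IsDomain R] [ValuationRing R]

theorem exists_dvd_all {ι : Type*} (s : Finset ι) (hs : s.Nonempty) (r : ι → R) :
    ∃ j ∈ s, ∀ i ∈ s, r j ∣ r i := by
  classical
  induction hs using Finset.Nonempty.cons_induction with
  | singleton a => exact ⟨a, Finset.mem_singleton_self a, fun i hi => by rw [Finset.mem_singleton.mp hi]⟩
  | cons a s ha hs ih =>
    obtain ⟨j, hj, hjd⟩ := ih
    rcases ValuationRing.dvd_total (r a) (r j) with h | h
    · refine ⟨a, Finset.mem_cons_self a s, fun i hi => ?_⟩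
      rcases Finset.mem_cons.mp hi with rfl | hi
      · exact dvd_rfl
      · exact h.trans (hjd i hi)
    · refine ⟨j, Finset.mem_cons_of_mem hj, fun i hi => ?_⟩
      rcases Finset.mem_cons.mp hi with rfl | hi
      · exact h
      · exact hjd i hi

variable {B : Type u} [CommRing B] [Algebra R B] [Module.Flat R B]

theorem tmul_injective :
    Function.Injective (fun b : B => (1 : FractionRing R) ⊗ₜ[R] b) := by
  have h := Module.Flat.rTensor_preserves_injective_linearMap (M := B)
    (Algebra.linearMap R (FractionRing R)) (IsFractionRing.injective R (FractionRing R))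
  intro x y hxy
  apply (TensorProduct.lid R B).symm.injective
  apply h
  simpa using hxy

/-- A relation on a family with more members than the generic rank, with a unit coefficient. -/
theorem exists_relation {n : ℕ} (b : Fin n → B) [Module.Finite (FractionRing R) (FractionRing R ⊗[R] B)]
    (hn : Module.finrank (FractionRing R) (FractionRing R ⊗[R] B) < n) :
    ∃ (d : Fin n → R) (j : Fin n), d j = 1 ∧ ∑ i, d i • b i = 0 := by
  classical
  have hdep : ¬ LinearIndependent (FractionRing R) (fun i => (1 : FractionRing R) ⊗ₜ[R] b i) := fun h => by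
    have := h.fintype_card_le_finrank
    rw [Fintype.card_fin] at this
    omega
  obtain ⟨c, hc, i₀, hi₀⟩ := Fintype.not_linearIndependent_iff.mp hdep
  obtain ⟨s, hs⟩ := IsLocalization.exist_integer_multiples_of_finite (nonZeroDivisors R) c
  choose r hr using hs
  have hs0 : algebraMap R (FractionRing R) s ≠ 0 :=
    (map_ne_zero_iff _ (IsFractionRing.injective R _)).mpr (nonZeroDivisors.coe_ne_zero s)
  have hr' (i : Fin n) : algebraMap R (FractionRing R) (r i) = algebraMap R (FractionRing R) s * c i := by
    rw [hr i, Algebra.smul_def]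
  obtain ⟨j, -, hj⟩ := exists_dvd_all Finset.univ ⟨i₀, Finset.mem_univ _⟩ r
  choose d hd using fun i => hj i (Finset.mem_univ i)
  have hrj : r j ≠ 0 := fun h0 => by
    have := hr' i₀
    rw [hd i₀, h0, zero_mul, map_zero] at this
    exact hi₀ ((mul_eq_zero.mp this.symm).resolve_left hs0)
  refine ⟨Function.update d j 1, j, Function.update_self _ _ _, ?_⟩
  have hdj : d j = 1 := mul_left_cancel₀ hrj (by rw [mul_one]; exact (hd j).symm)
  have hupd : Function.update d j 1 = d := by rw [← hdj]; exact Function.update_eq_self j d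
  rw [hupd]
  apply tmul_injective (R := R)
  show _ = (1 : FractionRing R) ⊗ₜ[R] (0 : B)
  rw [TensorProduct.tmul_zero]
  show (1 : FractionRing R) ⊗ₜ[R] (∑ i, d i • b i) = 0
  have hk : algebraMap R (FractionRing R) (r j) •
      ((1 : FractionRing R) ⊗ₜ[R] (∑ i, d i • b i)) = (0 : FractionRing R ⊗[R] B) := by
    rw [TensorProduct.tmul_sum, Finset.smul_sum]
    refine Eq.trans (Finset.sum_congr rfl fun i _ => ?_) (Eq.trans (Finset.smul_sum (r :=
      algebraMap R (FractionRing R) s) (f := fun i => c i • ((1 : FractionRing R) ⊗ₜ[R] b i))).symm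
      (by rw [hc, smul_zero]))
    rw [← mul_smul, ← hr' i, TensorProduct.tmul_smul, IsScalarTower.algebraMap_smul,
      IsScalarTower.algebraMap_smul, ← mul_smul, ← hd i]
  exact (smul_eq_zero.mp hk).resolve_left
    ((map_ne_zero_iff _ (IsFractionRing.injective R _)).mpr hrj)

/-- The fibres are no bigger than the generic fibre. -/
theorem quasiFinite_of_flat [Module.Finite (FractionRing R) (FractionRing R ⊗[R] B)] :
    Algebra.QuasiFinite R B := by
  classical
  refine ⟨fun P _ => ?_⟩
  set N := Module.finrank (FractionRing R) (FractionRing R ⊗[R] B)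
  set G : Set (P.Fiber B) := Set.range (fun b : B => (1 : P.ResidueField) ⊗ₜ[R] b) with hG
  have hspan : Submodule.span P.ResidueField G = ⊤ := by
    refine top_le_iff.mp fun z _ => ?_
    induction z using TensorProduct.induction_on with
    | zero => exact zero_mem _
    | tmul a b =>
      have h1 : a • ((1 : P.ResidueField) ⊗ₜ[R] b) = a ⊗ₜ[R] b := by
        rw [TensorProduct.smul_tmul', smul_eq_mul, mul_one]
      rw [← h1]
      exact Submodule.smul_mem _ _ (Submodule.subset_span ⟨b, rfl⟩)
    | add x y hx hy => exact add_mem (hx trivial) (hy trivial)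
  obtain ⟨s, hsG, hsspan, hli⟩ := exists_linearIndependent P.ResidueField G
  have hsfin : s.Finite := by
    by_contra hinf
    obtain ⟨t, hts, htc⟩ := (Set.not_finite.mp hinf).exists_subset_card_eq (N + 1)
    let e : Fin (N + 1) ≃ t := (Fintype.equivFinOfCardEq (by rw [Fintype.card_coe]; exact htc)).symm
    have hb : ∀ i, ∃ b : B, (1 : P.ResidueField) ⊗ₜ[R] b = ((e i : t) : P.Fiber B) :=
      fun i => hsG (hts (e i).2)
    choose b hb using hb
    obtain ⟨d, j, hdj, hd⟩ := exists_relation b (Nat.lt_succ_self N)
    have hli' : LinearIndependent P.ResidueField (fun i => ((e i : t) : P.Fiber B)) :=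
      hli.comp (fun i => (⟨_, hts (e i).2⟩ : s)) fun i k h => e.injective (Subtype.ext (congrArg Subtype.val h :))
    have hrel : ∑ i, algebraMap R P.ResidueField (d i) • ((e i : t) : P.Fiber B) = 0 := by
      have := congrArg (fun z => (1 : P.ResidueField) ⊗ₜ[R] z) hd
      simp only [TensorProduct.tmul_sum, TensorProduct.tmul_zero] at this
      refine Eq.trans (Finset.sum_congr rfl fun i _ => ?_) this
      rw [← hb i, TensorProduct.tmul_smul, IsScalarTower.algebraMap_smul]
    have := Fintype.linearIndependent_iff.mp hli' _ hrel j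
    rw [hdj, map_one] at this
    exact one_ne_zero this
  exact Module.finite_def.mpr ⟨hsfin.toFinset, by rw [Set.Finite.coe_toFinset, hsspan, hspan]⟩

theorem locallyQuasiFinite_chart {Y : Scheme.{u}} (f : Y ⟶ Spec (CommRingCat.of R)) [Flat f]
    (hgen : IsFinite (pullback.snd f (Spec.map (CommRingCat.ofHom (algebraMap R (FractionRing R))))))
    {B : Type u} [CommRing B] [Algebra R B] (m : Spec (CommRingCat.of B) ⟶ Y) [IsOpenImmersion m]
    (hmf : m ≫ f = Spec.map (CommRingCat.ofHom (algebraMap R B))) :
    LocallyQuasiFinite (Spec.map (CommRingCat.ofHom (algebraMap R B))) := by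
  haveI := hgen
  haveI hfl : Flat (Spec.map (CommRingCat.ofHom (algebraMap R B))) := hmf ▸ inferInstance
  haveI : Module.Flat R B := by
    rw [HasRingHomProperty.Spec_iff (P := @Flat)] at hfl
    exact RingHom.flat_algebraMap_iff.mp hfl
  have hq : LocallyQuasiFinite (pullback.snd (m ≫ f)
      (Spec.map (CommRingCat.ofHom (algebraMap R (FractionRing R))))) := by
    rw [← pullbackRightPullbackFstIso_inv_snd_snd]
    infer_instance
  rw [hmf] at hq
  haveI := hq
  haveI hq2 : LocallyQuasiFinite (pullback.fst (Spec.map (CommRingCat.ofHom (algebraMap R (FractionRing R))))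
      (Spec.map (CommRingCat.ofHom (algebraMap R B)))) := by
    rw [← pullbackSymmetry_hom_comp_snd]
    infer_instance
  haveI hq3 : LocallyQuasiFinite (Spec.map (CommRingCat.ofHom
      (algebraMap (FractionRing R) (FractionRing R ⊗[R] B)))) := by
    rw [← pullbackSpecIso_inv_fst']
    infer_instance
  rw [HasRingHomProperty.Spec_iff (P := @LocallyQuasiFinite)] at hq3
  haveI : Algebra.QuasiFinite (FractionRing R) (FractionRing R ⊗[R] B) :=
    RingHom.quasiFinite_algebraMap.mp hq3
  haveI : Module.Finite (FractionRing R) (FractionRing R ⊗[R] B) := Module.Finite.of_quasiFinite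
  rw [HasRingHomProperty.Spec_iff (P := @LocallyQuasiFinite)]
  exact RingHom.quasiFinite_algebraMap.mpr quasiFinite_of_flat

theorem isFinite_of_flat_proper {Y : Scheme.{u}} (f : Y ⟶ Spec (CommRingCat.of R)) [Flat f] [IsProper f]
    (hgen : IsFinite (pullback.snd f
      (Spec.map (CommRingCat.ofHom (algebraMap R (FractionRing R)))))) : IsFinite f := by
  suffices h : LocallyQuasiFinite f from IsFinite.of_isProper_of_locallyQuasiFinite f
  rw [IsZariskiLocalAtSource.iff_of_openCover (P := @LocallyQuasiFinite) Y.affineCover]
  intro k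
  haveI : IsAffine (Y.affineCover.X k) := inferInstance
  obtain ⟨φ, hφ⟩ : ∃ φ, Spec.map φ = ((Y.affineCover.X k).isoSpec.inv ≫ Y.affineCover.f k) ≫ f :=
    Spec.map_surjective _
  letI : Algebra R Γ(Y.affineCover.X k, ⊤) := φ.hom.toAlgebra
  haveI := locallyQuasiFinite_chart f hgen (B := Γ(Y.affineCover.X k, ⊤))
    ((Y.affineCover.X k).isoSpec.inv ≫ Y.affineCover.f k) hφ.symm
  have e : Y.affineCover.f k ≫ f = (Y.affineCover.X k).isoSpec.hom ≫
      Spec.map (CommRingCat.ofHom (algebraMap R Γ(Y.affineCover.X k, ⊤))) := by
    show _ = _ ≫ Spec.map φ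
    rw [hφ, Category.assoc, Iso.hom_inv_id_assoc]
  rw [e]
  infer_instance

end Groth.Agent.ModPairLib
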